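import Groth.Agent.OmegaLib.Der
import Groth.Prelude.Def_Omega3

/-! Existence and uniqueness of the canonical map of differentials. -/

set_option autoImplicit false
set_option backward.isDefEq.respectTransparency.types false
set_option backward.isDefEq.respectTransparency false
universe u

open CategoryTheory AlgebraicGeometry TopologicalSpace Opposite

noncomputable section

namespace Groth.Agent.Omega15

variable {X S X' S' : Scheme.{u}} {f : X ⟶ S} {f' : X' ⟶ S'}

/-- Pull a derivation back along a commutative square. -/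
def pullDer (h : X' ⟶ X) (b : S' ⟶ S) (hsq : f' ≫ b = h ≫ f) {Ω' : X'.Modules} (d' : OmegaSh.Der f' Ω') :
    OmegaSh.Der f ((Scheme.Modules.pushforward h).obj Ω') :=
  { d := fun {V} => (d'.app (h ⁻¹ᵁ V.unop)).comp (h.app V.unop).hom.toAddMonoidHom
    d_mul := fun {V} a c => by
      show d'.app _ (h.app V.unop (a * c)) = _
      rw [map_mul, OmegaLib.app_mul]
      rfl
    d_map := fun {V V'} i s => by
      show d'.app _ (h.app V'.unop (X.presheaf.map i s)) = _
      have hn := congr($(h.naturality i) s)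
      simp only [CommRingCat.comp_apply] at hn
      rw [hn]
      exact OmegaLib.app_map d' (leOfHom ((Opens.map h.base).map i.unop)) _
    d_app := fun {V} c => by
      show d'.app (h ⁻¹ᵁ (f ⁻¹ᵁ V.unop)) (h.app (f ⁻¹ᵁ V.unop) (f.app V.unop c)) = 0
      have e : h ⁻¹ᵁ (f ⁻¹ᵁ V.unop) ≤ f' ⁻¹ᵁ (b ⁻¹ᵁ V.unop) := fun x hx => by
        show (f' ≫ b).base x ∈ V.unop
        rw [hsq]
        exact hx
      have key : h.app (f ⁻¹ᵁ V.unop) (f.app V.unop c) =
          f'.appLE (b ⁻¹ᵁ V.unop) (h ⁻¹ᵁ (f ⁻¹ᵁ V.unop)) e (b.app V.unop c) := by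
        have h1 : (h ≫ f).appLE V.unop (h ⁻¹ᵁ (f ⁻¹ᵁ V.unop)) le_rfl =
            (f' ≫ b).appLE V.unop (h ⁻¹ᵁ (f ⁻¹ᵁ V.unop)) e := by simp only [hsq]
        rw [Scheme.Hom.comp_appLE, Scheme.Hom.comp_appLE, ← Scheme.Hom.app_eq_appLE] at h1
        exact congr($h1 c)
      rw [key]
      exact OmegaLib.app_appLE d' e _ }

theorem pullDer_app (h : X' ⟶ X) (b : S' ⟶ S) (hsq : f' ≫ b = h ≫ f) {Ω' : X'.Modules} (d' : OmegaSh.Der f' Ω')
    (V : X.Opens) (s : Γ(X, V)) : (pullDer h b hsq d').app V s = d'.app (h ⁻¹ᵁ V) (h.app V s) := rfl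

/-- The condition `IsDiffCompat` in adjoint form. -/
theorem isDiffCompat_iff (h : X' ⟶ X) (b : S' ⟶ S) (hsq : f' ≫ b = h ≫ f) {Ω : X.Modules} (d : OmegaSh.Der f Ω)
    {Ω' : X'.Modules} (d' : OmegaSh.Der f' Ω') (c : (Scheme.Modules.pullback h).obj Ω ⟶ Ω') :
    OmegaSh.IsDiffCompat h d d' c ↔
      d.postcomp (((Scheme.Modules.pullbackPushforwardAdjunction h).homEquiv _ _) c).val = pullDer h b hsq d' := by
  have key : ∀ (U : X.Opens) (s : Γ(X, U)),
      (((Scheme.Modules.pullbackPushforwardAdjunction h).homEquiv _ _) c).app U (d.app U s) =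
        c.app (h ⁻¹ᵁ U) (OmegaSh.pullSect h Ω U (d.app U s)) := fun U s => by
    rw [Adjunction.homEquiv_unit]
    rfl
  constructor
  · exact fun hc => OmegaLib.der_ext fun U s => (key U s).trans (hc U s)
  · exact fun he U s => (key U s).symm.trans (PresheafOfModules.Derivation.congr_d he s)

theorem existsUnique_compat (h : X' ⟶ X) (b : S' ⟶ S) (hsq : f' ≫ b = h ≫ f) {Ω : X.Modules}
    {d : OmegaSh.Der f Ω} (hd : OmegaSh.IsUniversal d) {Ω' : X'.Modules} (d' : OmegaSh.Der f' Ω') :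
    ∃! c : (Scheme.Modules.pullback h).obj Ω ⟶ Ω', OmegaSh.IsDiffCompat h d d' c := by
  obtain ⟨α, hα, huniq⟩ := hd _ (pullDer h b hsq d')
  refine ⟨((Scheme.Modules.pullbackPushforwardAdjunction h).homEquiv _ _).symm α,
    (isDiffCompat_iff h b hsq d d' _).2 (by rw [Equiv.apply_symm_apply]; exact hα), fun c hc => ?_⟩
  rw [← huniq _ ((isDiffCompat_iff h b hsq d d' c).1 hc), Equiv.symm_apply_apply]

end Groth.Agent.Omega15
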