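import Groth.Agent.Omega15.StalkIso
import Mathlib.AlgebraicGeometry.Morphisms.Flat
import Mathlib.AlgebraicGeometry.Morphisms.Etale

/-! Base change and etale invariance of sheaves of differentials. -/

set_option autoImplicit false
set_option backward.isDefEq.respectTransparency.types false
set_option backward.isDefEq.respectTransparency false
set_option linter.style.haveILetI false
universe u

open CategoryTheory CategoryTheory.Limits AlgebraicGeometry TopologicalSpace Opposite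

noncomputable section

namespace Groth.Agent.Omega15

variable {X S X' S' : Scheme.{u}}

theorem germ_appLE {Y Z : Scheme.{u}} (φ : Y ⟶ Z) {V : Z.Opens} {W : Y.Opens} (e : W ≤ φ ⁻¹ᵁ V) (y : Y) (hy : y ∈ W)
    (r : Γ(Z, V)) :
    Y.presheaf.germ W y hy (φ.appLE V W e r) = φ.stalkMap y (Z.presheaf.germ V (φ y) (e hy) r) := by
  rw [Scheme.Hom.germ_stalkMap_apply, Scheme.Hom.appLE, CommRingCat.comp_apply]
  exact Y.presheaf.germ_res_apply _ y hy _

theorem isIso_of_isPullback {f : X ⟶ S} {g : S' ⟶ S} {g' : X' ⟶ X} {f' : X' ⟶ S'}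
    (hsq : IsPullback g' f' f g) {Ω : X.Modules} {d : OmegaSh.Der f Ω} (hd : OmegaSh.IsUniversal d)
    {Ω' : X'.Modules} {d' : OmegaSh.Der f' Ω'} (hd' : OmegaSh.IsUniversal d')
    {c : (Scheme.Modules.pullback g').obj Ω ⟶ Ω'} (hc : OmegaSh.IsDiffCompat g' d d' c) : IsIso c := by
  refine ModStalk.isIso_of_stalks c fun x => ?_
  obtain ⟨T, hT, hxT, -⟩ := Opens.isBasis_iff_nbhd.mp S.isBasis_affineOpens (Opens.mem_top (f (g' x)))
  have hgx : g (f' x) = f (g' x) := by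
    show (f' ≫ g).base x = (g' ≫ f).base x
    rw [hsq.w]
  obtain ⟨T', hT', hxT', hT'T⟩ := Opens.isBasis_iff_nbhd.mp S'.isBasis_affineOpens
    (show f' x ∈ g ⁻¹ᵁ T by show g (f' x) ∈ T; rw [hgx]; exact hxT)
  obtain ⟨U, hU, hxU, hUT⟩ := Opens.isBasis_iff_nbhd.mp X.isBasis_affineOpens (show g' x ∈ f ⁻¹ᵁ T from hxT)
  let U' : X'.Opens := g' ⁻¹ᵁ U ⊓ f' ⁻¹ᵁ T'
  have hxU' : x ∈ U' := ⟨hxU, hxT'⟩
  have e₁ : U' ≤ g' ⁻¹ᵁ U := inf_le_left
  have e₂ : U' ≤ f' ⁻¹ᵁ T' := inf_le_right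
  have hU' : IsAffineOpen U' := by
    have : IsAffine _ := hT
    have : IsAffine _ := hT'
    have : IsAffine _ := hU
    exact .of_isIso (Scheme.Hom.isPullback_resLE hsq hT'T hUT rfl).isoPullback.hom
  have hpush : IsPushout (f.appLE T U hUT) (g.appLE T T' hT'T) (g'.appLE U U' e₁) (f'.appLE T' U' e₂) :=
    (isIso_pushoutSection_iff hsq hT'T hUT rfl).1 (isIso_pushoutSection_of_isAffineOpen hsq hT'T hUT rfl hT hT' hU)
  letI := (g'.stalkMap x).hom.toAlgebra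
  letI : Algebra Γ(S, T) Γ(S', T') := (g.appLE T T' hT'T).hom.toAlgebra
  letI : Algebra Γ(S, T) Γ(X, U) := (f.appLE T U hUT).hom.toAlgebra
  letI : Algebra Γ(X, U) Γ(X', U') := (g'.appLE U U' e₁).hom.toAlgebra
  letI : Algebra Γ(S', T') Γ(X', U') := (f'.appLE T' U' e₂).hom.toAlgebra
  letI : Algebra Γ(S, T) Γ(X', U') := (f.appLE T U hUT ≫ g'.appLE U U' e₁).hom.toAlgebra
  haveI : IsScalarTower Γ(S, T) Γ(X, U) Γ(X', U') := .of_algebraMap_eq fun _ => rfl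
  haveI : IsScalarTower Γ(S, T) Γ(S', T') Γ(X', U') := .of_algebraMap_eq fun r => congr($(hpush.w) r)
  haveI : Algebra.IsPushout Γ(S, T) Γ(S', T') Γ(X, U) Γ(X', U') := CommRingCat.isPushout_iff_isPushout.mp hpush.flip
  letI : Algebra Γ(X, U) (X.presheaf.stalk (g' x)) := (X.presheaf.germ U (g' x) hxU).hom.toAlgebra
  letI : Algebra Γ(X', U') (X'.presheaf.stalk x) := (X'.presheaf.germ U' x hxU').hom.toAlgebra
  letI : Algebra Γ(S, T) (X.presheaf.stalk (g' x)) :=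
    (f.appLE T U hUT ≫ X.presheaf.germ U (g' x) hxU).hom.toAlgebra
  letI : Algebra Γ(S', T') (X'.presheaf.stalk x) := (f'.appLE T' U' e₂ ≫ X'.presheaf.germ U' x hxU').hom.toAlgebra
  letI : Algebra Γ(S, T) (X'.presheaf.stalk x) :=
    ((f.appLE T U hUT ≫ X.presheaf.germ U (g' x) hxU) ≫ g'.stalkMap x).hom.toAlgebra
  letI : Algebra Γ(X, U) (X'.presheaf.stalk x) := (X.presheaf.germ U (g' x) hxU ≫ g'.stalkMap x).hom.toAlgebra
  haveI : IsScalarTower Γ(S, T) (X.presheaf.stalk (g' x)) (X'.presheaf.stalk x) := .of_algebraMap_eq fun _ => rfl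
  haveI : IsScalarTower Γ(S, T) Γ(X, U) (X.presheaf.stalk (g' x)) := .of_algebraMap_eq fun _ => rfl
  haveI : IsScalarTower Γ(X, U) (X.presheaf.stalk (g' x)) (X'.presheaf.stalk x) := .of_algebraMap_eq fun _ => rfl
  haveI : IsScalarTower Γ(S', T') Γ(X', U') (X'.presheaf.stalk x) := .of_algebraMap_eq fun _ => rfl
  haveI : IsScalarTower Γ(X, U) Γ(X', U') (X'.presheaf.stalk x) :=
    .of_algebraMap_eq fun a => (germ_appLE g' e₁ x hxU' a).symm
  haveI : IsScalarTower Γ(S, T) Γ(S', T') (X'.presheaf.stalk x) := .of_algebraMap_eq fun r => by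
    show g'.stalkMap x (X.presheaf.germ U (g' x) hxU (f.appLE T U hUT r)) =
      X'.presheaf.germ U' x hxU' (f'.appLE T' U' e₂ (g.appLE T T' hT'T r))
    rw [← germ_appLE g' e₁ x hxU']
    exact congrArg _ congr($(hpush.w) r)
  haveI : SMulCommClass Γ(S', T') (X.presheaf.stalk (g' x)) (X'.presheaf.stalk x) :=
    ⟨fun a b c => by simp only [Algebra.smul_def]; ring⟩
  haveI := hU.isLocalization_stalk ⟨g' x, hxU⟩
  haveI := hU'.isLocalization_stalk ⟨x, hxU'⟩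
  haveI : Algebra.FormallyEtale Γ(X, U) (X.presheaf.stalk (g' x)) :=
    .of_isLocalization (hU.primeIdealOf ⟨g' x, hxU⟩).asIdeal.primeCompl
  haveI : Algebra.FormallyEtale Γ(X', U') (X'.presheaf.stalk x) :=
    .of_isLocalization (hU'.primeIdealOf ⟨x, hxU'⟩).asIdeal.primeCompl
  exact stalk_bijective hd hd' hc x hT hxT hT' hxT' (fun r => germ_appLE f hUT (g' x) hxU r)
    (fun r => germ_appLE f' e₂ x hxU' r)
    (bijective_of_pushout _ _ _ _ Γ(X, U) Γ(X', U'))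

theorem isIso_of_etale {p₁ : X ⟶ S} {p₂ : X' ⟶ S'} (f : X' ⟶ X) (g : S' ⟶ S) [Etale f] [Etale g]
    (hsq : f ≫ p₁ = p₂ ≫ g) {Ω : X.Modules} {d : OmegaSh.Der p₁ Ω} (hd : OmegaSh.IsUniversal d)
    {Ω' : X'.Modules} {d' : OmegaSh.Der p₂ Ω'} (hd' : OmegaSh.IsUniversal d')
    {c : (Scheme.Modules.pullback f).obj Ω ⟶ Ω'} (hc : OmegaSh.IsDiffCompat f d d' c) : IsIso c := by
  refine ModStalk.isIso_of_stalks c fun x => ?_
  obtain ⟨T, hT, hxT, -⟩ := Opens.isBasis_iff_nbhd.mp S.isBasis_affineOpens (Opens.mem_top (p₁ (f x)))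
  have hgx : g (p₂ x) = p₁ (f x) := by
    show (p₂ ≫ g).base x = (f ≫ p₁).base x
    rw [hsq]
  obtain ⟨T', hT', hxT', hT'T⟩ := Opens.isBasis_iff_nbhd.mp S'.isBasis_affineOpens
    (show p₂ x ∈ g ⁻¹ᵁ T by show g (p₂ x) ∈ T; rw [hgx]; exact hxT)
  obtain ⟨U, hU, hxU, hUT⟩ := Opens.isBasis_iff_nbhd.mp X.isBasis_affineOpens (show f x ∈ p₁ ⁻¹ᵁ T from hxT)
  obtain ⟨U', hU', hxU', hU'le⟩ := Opens.isBasis_iff_nbhd.mp X'.isBasis_affineOpens
    (show x ∈ f ⁻¹ᵁ U ⊓ p₂ ⁻¹ᵁ T' from ⟨hxU, hxT'⟩)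
  have e₁ : U' ≤ f ⁻¹ᵁ U := hU'le.trans inf_le_left
  have e₂ : U' ≤ p₂ ⁻¹ᵁ T' := hU'le.trans inf_le_right
  letI := (f.stalkMap x).hom.toAlgebra
  letI : Algebra Γ(S, T) Γ(S', T') := (g.appLE T T' hT'T).hom.toAlgebra
  letI : Algebra Γ(X, U) Γ(X', U') := (f.appLE U U' e₁).hom.toAlgebra
  letI : Algebra Γ(X, U) (X.presheaf.stalk (f x)) := (X.presheaf.germ U (f x) hxU).hom.toAlgebra
  letI : Algebra Γ(X', U') (X'.presheaf.stalk x) := (X'.presheaf.germ U' x hxU').hom.toAlgebra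
  letI : Algebra Γ(S, T) (X.presheaf.stalk (f x)) :=
    (p₁.appLE T U hUT ≫ X.presheaf.germ U (f x) hxU).hom.toAlgebra
  letI : Algebra Γ(S', T') (X'.presheaf.stalk x) := (p₂.appLE T' U' e₂ ≫ X'.presheaf.germ U' x hxU').hom.toAlgebra
  letI : Algebra Γ(S, T) (X'.presheaf.stalk x) :=
    ((p₁.appLE T U hUT ≫ X.presheaf.germ U (f x) hxU) ≫ f.stalkMap x).hom.toAlgebra
  letI : Algebra Γ(X, U) (X'.presheaf.stalk x) := (X.presheaf.germ U (f x) hxU ≫ f.stalkMap x).hom.toAlgebra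
  haveI : IsScalarTower Γ(S, T) (X.presheaf.stalk (f x)) (X'.presheaf.stalk x) := .of_algebraMap_eq fun _ => rfl
  haveI : IsScalarTower Γ(X, U) (X.presheaf.stalk (f x)) (X'.presheaf.stalk x) := .of_algebraMap_eq fun _ => rfl
  haveI : IsScalarTower Γ(X, U) Γ(X', U') (X'.presheaf.stalk x) :=
    .of_algebraMap_eq fun a => (germ_appLE f e₁ x hxU' a).symm
  haveI : IsScalarTower Γ(S, T) Γ(S', T') (X'.presheaf.stalk x) := .of_algebraMap_eq fun r => by
    show f.stalkMap x (X.presheaf.germ U (f x) hxU (p₁.appLE T U hUT r)) =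
      X'.presheaf.germ U' x hxU' (p₂.appLE T' U' e₂ (g.appLE T T' hT'T r))
    rw [← germ_appLE f e₁ x hxU']
    refine congrArg _ ?_
    show (p₁.appLE T U hUT ≫ f.appLE U U' e₁) r = (g.appLE T T' hT'T ≫ p₂.appLE T' U' e₂) r
    rw [Scheme.Hom.appLE_comp_appLE, Scheme.Hom.appLE_comp_appLE]
    simp only [hsq]
  haveI : SMulCommClass Γ(S', T') (X.presheaf.stalk (f x)) (X'.presheaf.stalk x) :=
    ⟨fun a b c => by simp only [Algebra.smul_def]; ring⟩
  haveI : Algebra.Etale Γ(S, T) Γ(S', T') := g.etale_appLE hT hT' hT'T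
  haveI : Algebra.Etale Γ(X, U) Γ(X', U') := f.etale_appLE hU hU' e₁
  haveI := hU.isLocalization_stalk ⟨f x, hxU⟩
  haveI := hU'.isLocalization_stalk ⟨x, hxU'⟩
  haveI : Algebra.FormallyEtale Γ(X, U) (X.presheaf.stalk (f x)) :=
    .of_isLocalization (hU.primeIdealOf ⟨f x, hxU⟩).asIdeal.primeCompl
  haveI : Algebra.FormallyEtale Γ(X', U') (X'.presheaf.stalk x) :=
    .of_isLocalization (hU'.primeIdealOf ⟨x, hxU'⟩).asIdeal.primeCompl
  haveI : Algebra.FormallyEtale Γ(X, U) (X'.presheaf.stalk x) := .comp _ Γ(X', U') _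
  haveI : Algebra.FormallyEtale (X.presheaf.stalk (f x)) (X'.presheaf.stalk x) :=
    Algebra.FormallyEtale.of_restrictScalars (R := Γ(X, U))
  exact stalk_bijective hd hd' hc x hT hxT hT' hxT' (fun r => germ_appLE p₁ hUT (f x) hxU r)
    (fun r => germ_appLE p₂ e₂ x hxU' r)
    (bijective_of_formallyEtale _ _ _ _)

end Groth.Agent.Omega15
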