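import Groth.Agent.Omega15.RetractSeq

/-! The map `C_{Z/X} → i^* Ω` induced by a derivation exists. -/

set_option autoImplicit false
set_option backward.isDefEq.respectTransparency.types false
universe u

open CategoryTheory CategoryTheory.Limits AlgebraicGeometry TopologicalSpace Opposite

noncomputable section

namespace Groth.Agent.Omega15

open OmegaLib Thick15

variable {Z X Y : Scheme.{u}}

set_option maxHeartbeats 1000000 in
theorem exists_conormalDiff (i : Z ⟶ X) {f : X ⟶ Y} {Ω : X.Modules} (d : OmegaSh.Der f Ω) :
    ∃ φ : Omega.conormal i ⟶ (Scheme.Modules.pullback i).obj Ω, OmegaSh.IsConormalDiff i d φ := by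
  let P := (Scheme.Modules.pullback i).obj Ω
  let a : ∀ U : X.Opens, Γ(ClSub.idealMod i.ker, U) →+ Γ(P, i ⁻¹ᵁ U) := fun U =>
    (OmegaSh.pullSect i Ω U).hom.comp ((d.app U).comp (OmegaSh.idealSect i.ker U))
  let α : ClSub.idealMod i.ker ⟶ (Scheme.Modules.pushforward i).obj P :=
    ⟨PresheafOfModules.homMk
      { app := fun U => AddCommGrpCat.ofHom (a U.unop)
        naturality := fun U V h => AddCommGrpCat.hom_ext (AddMonoidHom.ext fun s => by
          rw [show h = (homOfLE h.unop.le).op from rfl]
          show OmegaSh.pullSect i Ω V.unop (d.app V.unop (OmegaSh.idealSect i.ker V.unop _)) =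
            P.presheaf.map _ (OmegaSh.pullSect i Ω U.unop (d.app U.unop (OmegaSh.idealSect i.ker U.unop s)))
          refine (congrArg (fun t => OmegaSh.pullSect i Ω V.unop (d.app V.unop t))
            (idealSect_map i.ker (homOfLE h.unop.le) s)).trans ?_
          refine (congrArg (OmegaSh.pullSect i Ω V.unop) (app_map d h.unop.le _)).trans ?_
          exact congr(($(((Scheme.Modules.pullbackPushforwardAdjunction i).unit.app Ω).mapPresheaf.naturality
            (homOfLE h.unop.le).op)) (d.app U.unop (OmegaSh.idealSect i.ker U.unop s)))) }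
      (fun U r s => by
        show OmegaSh.pullSect i Ω U.unop (d.app U.unop (OmegaSh.idealSect i.ker U.unop _)) =
          i.app U.unop r • OmegaSh.pullSect i Ω U.unop (d.app U.unop (OmegaSh.idealSect i.ker U.unop s))
        refine (congrArg (fun t => OmegaSh.pullSect i Ω U.unop (d.app U.unop t))
          (idealSect_smul i.ker U.unop r s)).trans ?_
        refine (congrArg (OmegaSh.pullSect i Ω U.unop) (app_mul d U.unop _ _)).trans ?_
        refine (map_add (OmegaSh.pullSect i Ω U.unop).hom _ _).trans ?_
        rw [PrinLib.pullSect_smul, PrinLib.pullSect_smul, app_idealSect_eq_zero, zero_smul, add_zero])⟩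
  let adj := Scheme.Modules.pullbackPushforwardAdjunction i
  refine ⟨(adj.homEquiv _ _).symm α, fun U s => ?_⟩
  have h1 : adj.unit.app _ ≫ (Scheme.Modules.pushforward i).map ((adj.homEquiv _ _).symm α) = α :=
    (adj.homEquiv_unit _ _ _).symm.trans (Equiv.apply_symm_apply _ α)
  exact congr(($h1).app U s)

end Groth.Agent.Omega15
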