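import Groth.Prelude.Def_Omega3
import Groth.Agent.OmegaLib.ConormalMap
import Groth.Agent.Thick15.Tm
import Groth.Agent.Thick15.Sequence

/-!
# Stalks of the conormal sheaf of a quasi-compact immersion

`π : I → C_z` with `I` the kernel of the stalk map; it is surjective with kernel `I²`.
-/

set_option autoImplicit false
set_option backward.isDefEq.respectTransparency.types false
set_option backward.isDefEq.respectTransparency false
set_option linter.style.haveILetI false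
universe u

open CategoryTheory CategoryTheory.Limits AlgebraicGeometry TopologicalSpace Opposite
open scoped TensorProduct

noncomputable section

namespace Groth.Agent.Omega15

open OmegaLib Thick15

variable {Z X : Scheme.{u}}

theorem germ_idealSect_mem (i : Z ⟶ X) [IsImmersion i] [QuasiCompact i] (z : Z) {y : X} (hy : i z = y)
    (U : X.Opens) (hU : y ∈ U) (s : Γ(ClSub.idealMod i.ker, U)) :
    X.presheaf.germ U y hU (OmegaSh.idealSect i.ker U s) ∈ RingHom.ker (tm i hy).hom := by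
  subst hy
  obtain ⟨ι, -, hι⟩ := exists_idealStalkMap i.ker (i z)
  rw [tm_self, RingHom.mem_ker]
  exact (mem_range_idealStalkMap i z hι _).1 ⟨_, hι U hU s⟩

theorem exists_germ_idealSect (i : Z ⟶ X) [IsImmersion i] [QuasiCompact i] (z : Z) {y : X} (hy : i z = y)
    {a : X.presheaf.stalk y} (ha : a ∈ RingHom.ker (tm i hy).hom) :
    ∃ (U : X.Opens) (hU : y ∈ U) (s : Γ(ClSub.idealMod i.ker, U)),
      X.presheaf.germ U y hU (OmegaSh.idealSect i.ker U s) = a := by
  subst hy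
  obtain ⟨ι, -, hι⟩ := exists_idealStalkMap i.ker (i z)
  rw [tm_self, RingHom.mem_ker] at ha
  obtain ⟨m, hm⟩ := (mem_range_idealStalkMap i z hι a).2 ha
  obtain ⟨U, hU, s, rfl⟩ := exists_gm _ m
  exact ⟨U, hU, s, (hι U hU s).symm.trans hm⟩

/-- `π` presents the stalk at `z` of the conormal sheaf of `i` as `I / I²`. -/
def IsPi (i : Z ⟶ X) (z : Z) {y : X} (hy : i z = y)
    (π : RingHom.ker (tm i hy).hom →+ (DerSch.stalkFunctor Z z).obj (Omega.conormal i)) : Prop :=
  Function.Surjective π ∧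
    (∀ x, π x = 0 ↔ (x : X.presheaf.stalk y) ∈ RingHom.ker (tm i hy).hom ^ 2) ∧
    (∀ (a : X.presheaf.stalk y) x, π (a • x) = (tm i hy) a • π x) ∧
    ∀ (U : X.Opens) (hU : y ∈ U) (s : Γ(ClSub.idealMod i.ker, U))
      (h : X.presheaf.germ U y hU (OmegaSh.idealSect i.ker U s) ∈ RingHom.ker (tm i hy).hom),
      π ⟨_, h⟩ = gm (Omega.conormal i) (i ⁻¹ᵁ U) z (show i z ∈ U from hy ▸ hU) (OmegaSh.conormalSect i U s)

theorem exists_pi (i : Z ⟶ X) [IsImmersion i] [QuasiCompact i] (z : Z) {y : X} (hy : i z = y) :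
    ∃ π, IsPi i z hy π := by
  subst hy
  letI := (i.stalkMap z).hom.toAlgebra
  obtain ⟨ι, hιinj, hι⟩ := exists_idealStalkMap i.ker (i z)
  obtain ⟨E, hE⟩ := exists_pullback_stalk_equiv i (ClSub.idealMod i.ker) z
  have hmem : ∀ a, a ∈ RingHom.ker (tm i (x := z) rfl).hom ↔ a ∈ LinearMap.range ι := fun a => by
    rw [tm_self, RingHom.mem_ker, mem_range_idealStalkMap i z hι a]
  have hsur : Function.Surjective (algebraMap (X.presheaf.stalk (i z)) (Z.presheaf.stalk z)) :=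
    i.stalkMap_surjective z
  choose m hm using fun x : RingHom.ker (tm i (x := z) rfl).hom => (hmem x.1).1 x.2
  let M := (DerSch.stalkFunctor X (i z)).obj (ClSub.idealMod i.ker)
  let π : RingHom.ker (tm i (x := z) rfl).hom →+ (DerSch.stalkFunctor Z z).obj (Omega.conormal i) :=
    AddMonoidHom.mk' (fun x => E (1 ⊗ₜ m x)) fun x x' => by
      have : m (x + x') = m x + m x' := hιinj (by rw [map_add, hm, hm, hm]; rfl)
      rw [this]
      exact (congrArg E (TensorProduct.tmul_add _ _ _)).trans (map_add E _ _)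
  have hone : ∀ t : Z.presheaf.stalk z ⊗[X.presheaf.stalk (i z)] M,
      ∃ n : M, (1 : Z.presheaf.stalk z) ⊗ₜ[X.presheaf.stalk (i z)] n = t := fun t => by
    induction t using TensorProduct.induction_on with
    | zero => exact ⟨0, TensorProduct.tmul_zero _ _⟩
    | tmul b n =>
      obtain ⟨a, rfl⟩ := hsur b
      refine ⟨a • n, ?_⟩
      rw [← TensorProduct.smul_tmul, Algebra.smul_def, mul_one]
    | add p q hp hq =>
      obtain ⟨n, rfl⟩ := hp
      obtain ⟨n', rfl⟩ := hq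
      exact ⟨n + n', TensorProduct.tmul_add _ _ _⟩
  have hπm : ∀ (n : M) (h : ι n ∈ RingHom.ker (tm i (x := z) rfl).hom), π ⟨ι n, h⟩ = E (1 ⊗ₜ n) :=
    fun n h => congrArg (fun w => E (1 ⊗ₜ w)) (hιinj (hm ⟨ι n, h⟩))
  refine ⟨π, fun w => ?_, fun x => ⟨fun hx => ?_, fun hx => ?_⟩, fun a x => ?_, fun U hU s h => ?_⟩
  · obtain ⟨n, hn⟩ := hone (E.symm w)
    refine ⟨⟨ι n, (hmem _).2 ⟨n, rfl⟩⟩, ?_⟩
    rw [hπm n, hn, E.apply_symm_apply]
  · have h0 : (1 : Z.presheaf.stalk z) ⊗ₜ[X.presheaf.stalk (i z)] m x = 0 :=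
      E.injective (hx.trans (map_zero E).symm)
    rw [← hm x, pow_two]
    refine Submodule.smul_induction_on
      (p := fun n => ι n ∈ RingHom.ker (tm i (x := z) rfl).hom * RingHom.ker (tm i (x := z) rfl).hom)
      (mem_ker_smul_of_one_tmul_eq_zero hsur h0) (fun r hr n _ => ?_) (fun p q hp hq => ?_)
    · rw [map_smul, smul_eq_mul]
      refine Ideal.mul_mem_mul ?_ ((hmem _).2 ⟨n, rfl⟩)
      rw [tm_self]; exact hr
    · rw [map_add]; exact Ideal.add_mem _ hp hq
  · have key : ∀ v ∈ RingHom.ker (tm i (x := z) rfl).hom * RingHom.ker (tm i (x := z) rfl).hom,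
        ∃ n, ι n = v ∧ (1 : Z.presheaf.stalk z) ⊗ₜ[X.presheaf.stalk (i z)] n = 0 := fun v hv => by
      refine Submodule.mul_induction_on hv (fun a ha b hb => ?_) fun p q hp hq => ?_
      · obtain ⟨n, rfl⟩ := (hmem b).1 hb
        refine ⟨a • n, by rw [map_smul, smul_eq_mul], ?_⟩
        rw [← TensorProduct.smul_tmul, Algebra.smul_def, mul_one,
          show algebraMap (X.presheaf.stalk (i z)) (Z.presheaf.stalk z) a = 0 by rw [tm_self] at ha; exact ha,
          TensorProduct.zero_tmul]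
      · obtain ⟨n, rfl, hn⟩ := hp
        obtain ⟨n', rfl, hn'⟩ := hq
        exact ⟨n + n', map_add ι n n', by rw [TensorProduct.tmul_add, hn, hn', add_zero]⟩
    rw [pow_two] at hx
    obtain ⟨n, hn, hn0⟩ := key _ hx
    show E (1 ⊗ₜ m x) = 0
    rw [← hιinj (hn.trans (hm x).symm), hn0, map_zero]
  · show E (1 ⊗ₜ m (a • x)) = _
    rw [show m (a • x) = a • m x from hιinj (by rw [map_smul, hm, hm]; rfl)]
    rw [← TensorProduct.smul_tmul, Algebra.smul_def, mul_one,
      show (algebraMap (X.presheaf.stalk (i z)) (Z.presheaf.stalk z) a) ⊗ₜ[X.presheaf.stalk (i z)] m x =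
        (algebraMap (X.presheaf.stalk (i z)) (Z.presheaf.stalk z) a) • ((1 : Z.presheaf.stalk z) ⊗ₜ[X.presheaf.stalk (i z)] m x)
        by rw [TensorProduct.smul_tmul', smul_eq_mul, mul_one], map_smul]
    exact congrArg (· • π x) (congr($(tm_self i z) a)).symm
  · show E (1 ⊗ₜ m ⟨_, h⟩) = _
    rw [show m ⟨_, h⟩ = gm _ U (i z) hU s from hιinj (by rw [hm, hι])]
    exact hE U hU s

variable {W X' : Scheme.{u}} {i : Z ⟶ X} {i' : W ⟶ X'} {g : X ⟶ X'} {gZ : Z ⟶ W}

theorem tm_mem_ker (h : gZ ≫ i' = i ≫ g) (z : Z) {y : X} (hy : i z = y) {y' : X'} (hy' : g y = y')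
    (hwy : i' (gZ z) = y') {a : X'.presheaf.stalk y'} (ha : a ∈ RingHom.ker (tm i' hwy).hom) :
    (tm g hy') a ∈ RingHom.ker (tm i hy).hom := by
  rw [RingHom.mem_ker] at ha ⊢
  have h1 := congr($(tm_comm h.symm hy hy' (x := z) (y' := gZ z) rfl hwy) a)
  simp only [CommRingCat.comp_apply] at h1
  exact h1.trans ((congrArg _ ha).trans (map_zero _))

/-- The stalk of a conormal map. -/
theorem pi_conormalMap {φ : (Scheme.Modules.pullback gZ).obj (Omega.conormal i') ⟶ Omega.conormal i}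
    (hφ : OmegaSh.IsConormalMap i i' g gZ φ) [IsImmersion i] [QuasiCompact i] [IsImmersion i'] [QuasiCompact i']
    (z : Z) {y : X} (hy : i z = y) {y' : X'} (hy' : g y = y') (hwy : i' (gZ z) = y')
    {π : RingHom.ker (tm i hy).hom →+ (DerSch.stalkFunctor Z z).obj (Omega.conormal i)} (hπ : IsPi i z hy π)
    {π' : RingHom.ker (tm i' hwy).hom →+ (DerSch.stalkFunctor W (gZ z)).obj (Omega.conormal i')}
    (hπ' : IsPi i' (gZ z) hwy π')
    {P : (DerSch.stalkFunctor W (gZ z)).obj (Omega.conormal i') →+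
      (DerSch.stalkFunctor Z z).obj ((Scheme.Modules.pullback gZ).obj (Omega.conormal i'))}
    (hP : ∀ (U : W.Opens) (hz : gZ z ∈ U) (s : Γ(Omega.conormal i', U)),
      P (gm _ U (gZ z) hz s) = gm _ (gZ ⁻¹ᵁ U) z hz (OmegaSh.pullSect gZ (Omega.conormal i') U s))
    (x' : RingHom.ker (tm i' hwy).hom) :
    (DerSch.stalkFunctor Z z).map φ (P (π' x')) =
      π ⟨(tm g hy') x'.1, tm_mem_ker hφ.1 z hy hy' hwy x'.2⟩ := by
  obtain ⟨a, ha⟩ := x'
  obtain ⟨U', hU', s', rfl⟩ := exists_germ_idealSect i' (gZ z) hwy ha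
  have hle : i'.ker ≤ i.ker.map g := by
    rw [Scheme.IdealSheafData.map_ker, ← hφ.1]
    exact Scheme.Hom.le_ker_comp gZ i'
  obtain ⟨s, hs⟩ := exists_idealSect_app g i.ker i'.ker hle U' s'
  have hU : y ∈ g ⁻¹ᵁ U' := show g y ∈ U' from hy' ▸ hU'
  rw [hπ'.2.2.2 U' hU' s' ha, hP]
  refine (conormalMap_gm hφ U' s' s hs z (show i' (gZ z) ∈ U' from hwy ▸ hU')
    (show g (i z) ∈ U' from hy.symm ▸ hU)).trans ?_
  rw [← hπ.2.2.2 (g ⁻¹ᵁ U') hU s (germ_idealSect_mem i z hy _ hU s)]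
  refine congrArg π (Subtype.ext ?_)
  show X.presheaf.germ (g ⁻¹ᵁ U') y hU _ = (tm g hy') (X'.presheaf.germ U' y' hU' _)
  rw [hs, germ_tm g hy' U' hU']

/-- The stalk of the map induced by a derivation. -/
theorem pi_conormalDiff {Y : Scheme.{u}} {f : X ⟶ Y} {Ω' : X.Modules} {d : OmegaSh.Der f Ω'}
    {φ : Omega.conormal i ⟶ (Scheme.Modules.pullback i).obj Ω'} (hφ : OmegaSh.IsConormalDiff i d φ)
    [IsImmersion i] [QuasiCompact i] (z : Z) {y : X} (hy : i z = y)
    {π : RingHom.ker (tm i hy).hom →+ (DerSch.stalkFunctor Z z).obj (Omega.conormal i)} (hπ : IsPi i z hy π)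
    {δ : X.presheaf.stalk y → (DerSch.stalkFunctor X y).obj Ω'}
    (hδ : ∀ (U : X.Opens) (hU : y ∈ U) (s : Γ(X, U)), δ (X.presheaf.germ U y hU s) = gm Ω' U y hU (d.app U s))
    {P : (DerSch.stalkFunctor X y).obj Ω' → (DerSch.stalkFunctor Z z).obj ((Scheme.Modules.pullback i).obj Ω')}
    (hP : ∀ (U : X.Opens) (hU : y ∈ U) (s : Γ(Ω', U)),
      P (gm Ω' U y hU s) = gm _ (i ⁻¹ᵁ U) z (show i z ∈ U from hy ▸ hU) (OmegaSh.pullSect i Ω' U s))
    (x : RingHom.ker (tm i hy).hom) :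
    (DerSch.stalkFunctor Z z).map φ (π x) = P (δ x.1) := by
  obtain ⟨a, ha⟩ := x
  obtain ⟨U, hU, s, rfl⟩ := exists_germ_idealSect i z hy ha
  rw [hπ.2.2.2 U hU s ha, map_gm, hφ U s, hδ U hU, hP U hU]

end Groth.Agent.Omega15
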