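import Groth.Prelude.Def_Omega3
import Groth.Agent.Omega15.ConormalPi
import Groth.Agent.OmegaLib.StalkLocal
import Mathlib.RingTheory.Kaehler.TensorProduct
import Mathlib.RingTheory.Smooth.Basic

/-!
# The conormal–differential sequence `C_{Z/Y} → C_{Z/X} → i^* Ω_{X/Y} → 0`
-/

set_option autoImplicit false
set_option backward.isDefEq.respectTransparency.types false
set_option backward.isDefEq.respectTransparency false
set_option linter.style.haveILetI false
universe u

open CategoryTheory CategoryTheory.Limits AlgebraicGeometry TopologicalSpace Opposite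
open scoped TensorProduct

noncomputable section

namespace Groth.Agent.Omega15

open OmegaLib Thick15

/-- An element of `I` killed by `1 ⊗ D` lies in `I² + J P`. -/
theorem mem_of_one_tmul_D_eq_zero {R P C : Type u} [CommRing R] [CommRing P] [CommRing C] [Algebra R P]
    [Algebra P C] (hRC : Function.Surjective fun r => algebraMap P C (algebraMap R P r))
    {x : P} (hx : x ∈ RingHom.ker (algebraMap P C))
    (h : (1 : C) ⊗ₜ[P] KaehlerDifferential.D R P x = 0) :
    x ∈ RingHom.ker (algebraMap P C) ^ 2 ⊔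
      (RingHom.ker ((algebraMap P C).comp (algebraMap R P))).map (algebraMap R P) := by
  let I := RingHom.ker (algebraMap P C)
  let K := I ^ 2 ⊔ (RingHom.ker ((algebraMap P C).comp (algebraMap R P))).map (algebraMap R P)
  let M := P ⧸ K
  choose σ hσ using fun p : P => hRC (algebraMap P C p)
  let D0 : P → M := fun p => Ideal.Quotient.mk K (p - algebraMap R P (σ p))
  have hwd : ∀ (p : P) (r : R), algebraMap P C (algebraMap R P r) = algebraMap P C p →
      D0 p = Ideal.Quotient.mk K (p - algebraMap R P r) := fun p r hr => by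
    refine Ideal.Quotient.eq.2 ?_
    rw [show p - algebraMap R P (σ p) - (p - algebraMap R P r) = algebraMap R P (r - σ p) by rw [map_sub]; ring]
    refine Ideal.mem_sup_right (Ideal.mem_map_of_mem _ ?_)
    rw [RingHom.mem_ker, RingHom.comp_apply, map_sub, map_sub, hr]
    exact sub_eq_zero.2 (hσ p).symm
  have hI : ∀ p, p - algebraMap R P (σ p) ∈ I := fun p => by
    rw [RingHom.mem_ker, map_sub, sub_eq_zero]; exact (hσ p).symm
  have hmul : ∀ p q, D0 (p * q) = p • D0 q + q • D0 p := fun p q => by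
    rw [hwd (p * q) (σ p * σ q) (by rw [map_mul, map_mul, map_mul]; exact congrArg₂ (· * ·) (hσ p) (hσ q))]
    show _ = Ideal.Quotient.mk K (p * (q - algebraMap R P (σ q))) + Ideal.Quotient.mk K (q * (p - algebraMap R P (σ p)))
    rw [← map_add, Ideal.Quotient.eq]
    refine Ideal.mem_sup_left ?_
    have := Ideal.mul_mem_mul (hI p) (hI q)
    rw [← pow_two] at this
    rw [map_mul]
    convert neg_mem this using 1
    ring
  have hadd : ∀ p q, D0 (p + q) = D0 p + D0 q := fun p q => by
    rw [hwd (p + q) (σ p + σ q) (by rw [map_add, map_add, map_add]; exact congrArg₂ (· + ·) (hσ p) (hσ q))]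
    show _ = Ideal.Quotient.mk K _ + Ideal.Quotient.mk K _
    rw [← map_add, map_add]
    congr 1; ring
  let D : Derivation R P M := Derivation.mk'
    { toFun := D0
      map_add' := hadd
      map_smul' := fun r p => by
        rw [Algebra.smul_def, hmul, show D0 (algebraMap R P r) = 0 by
          rw [hwd _ r rfl, sub_self, map_zero], smul_zero, add_zero, RingHom.id_apply, algebraMap_smul] }
    hmul
  let L : Ω[P⁄R] →ₗ[P] M := D.liftKaehlerDifferential
  haveI hCP : ∀ (m : M), m ∈ Set.range (fun p : I => Ideal.Quotient.mk K (p : P)) →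
      ∀ a ∈ I, a • m = 0 := by
    rintro m ⟨p, rfl⟩ a ha
    show Ideal.Quotient.mk K a * Ideal.Quotient.mk K (p : P) = 0
    rw [← map_mul, Ideal.Quotient.eq_zero_iff_mem]
    exact Ideal.mem_sup_left (pow_two I ▸ Ideal.mul_mem_mul ha p.2)
  have hkill : ∀ (w : Ω[P⁄R]) (a : P), a ∈ I → a • L w = 0 := fun w a ha => by
    have hw : w ∈ Submodule.span P (Set.range (KaehlerDifferential.D R P)) := by
      rw [KaehlerDifferential.span_range_derivation]; trivial
    induction hw using Submodule.span_induction with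
    | mem w hw =>
      obtain ⟨p, rfl⟩ := hw
      rw [Derivation.liftKaehlerDifferential_comp_D]
      exact hCP _ ⟨⟨_, hI p⟩, rfl⟩ a ha
    | zero => rw [map_zero, smul_zero]
    | add p q _ _ hp hq => rw [map_add, smul_add, hp, hq, add_zero]
    | smul b p _ hp => rw [map_smul, smul_comm, hp, smul_zero]
  have hsC : Function.Surjective (algebraMap P C) := fun c => ⟨_, (hRC c).choose_spec⟩
  obtain hmem := mem_ker_smul_of_one_tmul_eq_zero hsC h
  have h0 : L (KaehlerDifferential.D R P x) = 0 := by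
    refine Submodule.smul_induction_on (p := fun w => L w = 0) hmem (fun a ha w _ => ?_) fun p q hp hq => ?_
    · rw [map_smul]; exact hkill w a ha
    · rw [map_add, hp, hq, add_zero]
  rw [Derivation.liftKaehlerDifferential_comp_D] at h0
  have h1 : D0 x = Ideal.Quotient.mk K x := by
    rw [hwd x 0 (by rw [map_zero, map_zero]; exact (RingHom.mem_ker.1 hx).symm), map_zero, sub_zero]
  exact Ideal.Quotient.eq_zero_iff_mem.1 (h1.symm.trans h0)

theorem one_tmul_D_surjective {R P C : Type u} [CommRing R] [CommRing P] [CommRing C] [Algebra R P]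
    [Algebra P C] (hRC : Function.Surjective fun r => algebraMap P C (algebraMap R P r))
    (t : C ⊗[P] Ω[P⁄R]) :
    ∃ x ∈ RingHom.ker (algebraMap P C), (1 : C) ⊗ₜ[P] KaehlerDifferential.D R P x = t := by
  choose σ hσ using fun p : P => hRC (algebraMap P C p)
  have hgen : ∀ (b : C) (w : Ω[P⁄R]), ∃ x ∈ RingHom.ker (algebraMap P C),
      (1 : C) ⊗ₜ[P] KaehlerDifferential.D R P x = b ⊗ₜ w := by
    intro b w
    have hw : w ∈ Submodule.span P (Set.range (KaehlerDifferential.D R P)) := by
      rw [KaehlerDifferential.span_range_derivation]; trivial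
    induction hw using Submodule.span_induction generalizing b with
    | mem w hw =>
      obtain ⟨p, rfl⟩ := hw
      obtain ⟨r, rfl⟩ := hRC b
      refine ⟨algebraMap R P r * (p - algebraMap R P (σ p)), Ideal.mul_mem_left _ _ (by
        rw [RingHom.mem_ker, map_sub, sub_eq_zero]; exact (hσ p).symm), ?_⟩
      rw [Derivation.leibniz, map_sub, Derivation.map_algebraMap, Derivation.map_algebraMap, sub_zero,
        smul_zero, add_zero, TensorProduct.tmul_smul, TensorProduct.smul_tmul', Algebra.smul_def, mul_one]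
    | zero => exact ⟨0, zero_mem _, by rw [map_zero, TensorProduct.tmul_zero, TensorProduct.tmul_zero]⟩
    | add p q _ _ hp hq =>
      obtain ⟨x, hx, e⟩ := hp b
      obtain ⟨y, hy, e'⟩ := hq b
      exact ⟨x + y, add_mem hx hy, by rw [map_add, TensorProduct.tmul_add, e, e', TensorProduct.tmul_add]⟩
    | smul a p _ hp =>
      rw [← TensorProduct.smul_tmul]; exact hp _
  induction t using TensorProduct.induction_on with
  | zero => exact ⟨0, zero_mem _, by rw [map_zero, TensorProduct.tmul_zero]⟩
  | tmul b w => exact hgen b w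
  | add p q hp hq =>
    obtain ⟨x, hx, rfl⟩ := hp
    obtain ⟨y, hy, rfl⟩ := hq
    exact ⟨x + y, add_mem hx hy, by rw [map_add, TensorProduct.tmul_add]⟩

variable {Z X Y : Scheme.{u}}

theorem conormal_omega_exact {p : X ⟶ Y} {i : Z ⟶ X} {j : Z ⟶ Y} [IsImmersion i] [IsImmersion j]
    [QuasiCompact i] [QuasiCompact j] {Ω : X.Modules} {d : OmegaSh.Der p Ω} (hd : OmegaSh.IsUniversal d)
    {ψ : (Scheme.Modules.pullback (𝟙 Z)).obj (Omega.conormal j) ⟶ Omega.conormal i}
    (hψ : OmegaSh.IsConormalMap i j p (𝟙 Z) ψ)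
    {φ : Omega.conormal i ⟶ (Scheme.Modules.pullback i).obj Ω} (hφ : OmegaSh.IsConormalDiff i d φ) :
    ∃ w : ψ ≫ φ = 0, (ShortComplex.mk ψ φ w).Exact ∧ Epi φ := by
  have main : ∀ z : Z,
      (∀ v, (DerSch.stalkFunctor Z z).map (ψ ≫ φ) v = 0) ∧
      (∀ v, (DerSch.stalkFunctor Z z).map φ v = 0 → ∃ u, (DerSch.stalkFunctor Z z).map ψ u = v) ∧
      Function.Surjective ((DerSch.stalkFunctor Z z).map φ) := by
    intro z
    have hwy : j z = p (i z) := congrArg (fun f : Z ⟶ Y => f z) (show j = i ≫ p by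
      rw [← hψ.1, Category.id_comp])
    obtain ⟨π, hπ⟩ := exists_pi i z (y := i z) rfl
    obtain ⟨π', hπ'⟩ := exists_pi j ((𝟙 Z : Z ⟶ Z) z) (y := p (i z)) hwy
    letI := (p.stalkMap (i z)).hom.toAlgebra
    letI := (i.stalkMap z).hom.toAlgebra
    obtain ⟨EK, hEK⟩ := exists_stalk_equiv_local hd (i z)
    obtain ⟨E, hE⟩ := exists_pullback_stalk_equiv i Ω z
    obtain ⟨P, hPs, hP⟩ := exists_pullId (Omega.conormal j) z
    let δ : X.presheaf.stalk (i z) → (DerSch.stalkFunctor X (i z)).obj Ω := fun a =>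
      EK (KaehlerDifferential.D (Y.presheaf.stalk (p (i z))) _ a)
    have hφv : ∀ x, (DerSch.stalkFunctor Z z).map φ (π x) =
        E (1 ⊗ₜ EK (KaehlerDifferential.D (Y.presheaf.stalk (p (i z))) _ (x : X.presheaf.stalk (i z)))) :=
      fun x => pi_conormalDiff hφ z rfl hπ (δ := δ) (fun U hU s => hEK U hU s)
        (P := fun m => E (1 ⊗ₜ m)) (fun U hU s => hE U hU s) x
    have hRC : Function.Surjective fun r => algebraMap (X.presheaf.stalk (i z)) (Z.presheaf.stalk z)
        (algebraMap (Y.presheaf.stalk (p (i z))) (X.presheaf.stalk (i z)) r) := fun c => by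
      obtain ⟨r, hr⟩ := (show Function.Surjective (tm j hwy).hom by
        have : Function.Surjective (j.stalkMap z) := j.stalkMap_surjective z
        intro c
        obtain ⟨r, rfl⟩ := this c
        refine ⟨Y.presheaf.stalkSpecializes (hwy ▸ specializes_rfl) r, ?_⟩
        show j.stalkMap z (Y.presheaf.stalkSpecializes _ (Y.presheaf.stalkSpecializes _ r)) = _
        refine congrArg (j.stalkMap z) ?_
        rw [← CommRingCat.comp_apply, TopCat.Presheaf.stalkSpecializes_comp]
        exact congr($(TopCat.Presheaf.stalkSpecializes_refl Y.presheaf (j z)) r)) c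
      refine ⟨r, ?_⟩
      rw [← hr]
      have h1 := congr($(tm_factor (show i ≫ p = j by rw [← hψ.1, Category.id_comp]) (x := z) (y := i z) rfl
        (z := p (i z)) rfl hwy) r)
      rw [tm_self, tm_self] at h1
      exact h1
    have hcompat : ∀ r : Y.presheaf.stalk (p (i z)), (tm j hwy) r =
        algebraMap (X.presheaf.stalk (i z)) (Z.presheaf.stalk z)
          (algebraMap (Y.presheaf.stalk (p (i z))) (X.presheaf.stalk (i z)) r) := fun r => by
      have h1 := congr($(tm_factor (show i ≫ p = j by rw [← hψ.1, Category.id_comp]) (x := z) (y := i z) rfl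
        (z := p (i z)) rfl hwy) r)
      rw [tm_self, tm_self] at h1
      exact h1.symm
    have hψv : ∀ x', (DerSch.stalkFunctor Z z).map ψ (P (π' x')) =
        π ⟨(tm p (x := i z) rfl) x'.1, tm_mem_ker hψ.1 z rfl rfl hwy x'.2⟩ :=
      fun x' => pi_conormalMap hψ z rfl rfl hwy hπ hπ' hP x'
    have hzero : ∀ a ∈ (RingHom.ker (tm j hwy).hom).map (tm p (x := i z) rfl).hom,
        ∃ h : a ∈ RingHom.ker (tm i (x := z) rfl).hom,
          ∃ u, (DerSch.stalkFunctor Z z).map ψ u = π ⟨a, h⟩ := by
      intro a ha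
      rw [Ideal.map] at ha
      induction ha using Submodule.span_induction with
      | mem a h =>
        obtain ⟨b, hb, rfl⟩ := h
        exact ⟨tm_mem_ker hψ.1 z rfl rfl hwy hb, _, hψv ⟨b, hb⟩⟩
      | zero => exact ⟨zero_mem _, 0, by rw [map_zero]; exact (map_zero π).symm⟩
      | add a b _ _ ha hb =>
        obtain ⟨h, u, hu⟩ := ha
        obtain ⟨h', w, hw⟩ := hb
        exact ⟨add_mem h h', u + w, by rw [map_add, hu, hw, ← map_add]; rfl⟩
      | smul r a _ ha =>
        obtain ⟨h, u, hu⟩ := ha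
        exact ⟨Ideal.mul_mem_left _ r h, (tm i (x := z) rfl) r • u,
          by rw [map_smul, hu]; exact (hπ.2.2.1 r ⟨a, h⟩).symm⟩
    have hkerj : RingHom.ker (tm j hwy).hom = RingHom.ker ((algebraMap (X.presheaf.stalk (i z)) (Z.presheaf.stalk z)).comp
        (algebraMap (Y.presheaf.stalk (p (i z))) (X.presheaf.stalk (i z)))) := by
      ext r
      rw [RingHom.mem_ker, RingHom.mem_ker, RingHom.comp_apply, ← hcompat]
    have hsi : (tm i (x := z) rfl).hom = algebraMap (X.presheaf.stalk (i z)) (Z.presheaf.stalk z) := by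
      rw [tm_self]; rfl
    have hsp : (tm p (x := i z) rfl).hom = algebraMap (Y.presheaf.stalk (p (i z))) (X.presheaf.stalk (i z)) := by
      rw [tm_self]; rfl
    refine ⟨fun v => ?_, fun v hv => ?_, fun v => ?_⟩
    · obtain ⟨m, rfl⟩ := hPs v
      obtain ⟨x', rfl⟩ := hπ'.1 m
      rw [Functor.map_comp]
      show (DerSch.stalkFunctor Z z).map φ ((DerSch.stalkFunctor Z z).map ψ (P (π' x'))) = 0
      rw [hψv, hφv]
      show E (1 ⊗ₜ EK (KaehlerDifferential.D _ _ ((tm p (x := i z) rfl).hom x'.1))) = 0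
      rw [congr($hsp x'.1), Derivation.map_algebraMap, map_zero, TensorProduct.tmul_zero, map_zero]
    · obtain ⟨x, rfl⟩ := hπ.1 v
      rw [hφv] at hv
      have h0 : (1 : Z.presheaf.stalk z) ⊗ₜ[X.presheaf.stalk (i z)]
          KaehlerDifferential.D (Y.presheaf.stalk (p (i z))) (X.presheaf.stalk (i z)) (x : X.presheaf.stalk (i z)) = 0 := by
        apply (EK.baseChange (X.presheaf.stalk (i z)) (Z.presheaf.stalk z)).injective
        apply E.injective
        rw [LinearEquiv.baseChange_tmul, hv, map_zero, map_zero]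
      have h1 := mem_of_one_tmul_D_eq_zero hRC (hsi ▸ x.2) h0
      rw [← hkerj, ← hsp, ← hsi] at h1
      obtain ⟨a, ha, b, hb, hab⟩ := Submodule.mem_sup.1 h1
      obtain ⟨hb', u, hu⟩ := hzero b hb
      have ha' : a ∈ RingHom.ker (tm i (x := z) rfl).hom := Ideal.pow_le_self two_ne_zero ha
      refine ⟨u, hu.trans ?_⟩
      have : π ⟨a, ha'⟩ = 0 := (hπ.2.1 _).2 ha
      rw [show x = ⟨a, ha'⟩ + ⟨b, hb'⟩ from Subtype.ext hab.symm, map_add, this, zero_add]
    · obtain ⟨t, rfl⟩ := ((EK.baseChange (X.presheaf.stalk (i z)) (Z.presheaf.stalk z)).trans E).surjective v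
      obtain ⟨x, hx, rfl⟩ := one_tmul_D_surjective hRC t
      refine ⟨π ⟨x, hsi ▸ hx⟩, ?_⟩
      rw [hφv, LinearEquiv.trans_apply, LinearEquiv.baseChange_tmul]
  exact ⟨hom_eq_zero_of_stalks _ fun z => (main z).1, Thick15.exact_of_stalks _ fun z => (main z).2.1,
    epi_of_stalks _ fun z => (main z).2.2⟩

end Groth.Agent.Omega15
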