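import Groth.Prelude.Def_Omega3
import Groth.Agent.Omega15.ConormalSeq
import Groth.Agent.OmegaLib.StalkCompat

/-!
# Left exactness of the conormal–differential sequence for a smooth morphism
-/

set_option autoImplicit false
set_option backward.isDefEq.respectTransparency.types false
set_option backward.isDefEq.respectTransparency false
set_option linter.style.haveILetI false
universe u

open CategoryTheory CategoryTheory.Limits AlgebraicGeometry TopologicalSpace Opposite
open scoped TensorProduct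

noncomputable section

namespace Groth.Agent.Omega15

open OmegaLib Thick15

theorem mem_ker_sq_of_formallySmooth {R P C : Type u} [CommRing R] [CommRing P] [CommRing C] [Algebra R P]
    [Algebra P C] [Algebra R C] [IsScalarTower R P C] [Algebra.FormallySmooth R P]
    (hRC : Function.Surjective (algebraMap R C)) {r : R}
    (h : algebraMap R P r ∈ RingHom.ker (algebraMap P C) ^ 2) : r ∈ RingHom.ker (algebraMap R C) ^ 2 := by
  let J := RingHom.ker (algebraMap R C)
  let q : (R ⧸ J ^ 2) →ₐ[R] C := Ideal.Quotient.liftₐ (J ^ 2) (Algebra.ofId R C)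
    fun a ha => (Ideal.pow_le_self two_ne_zero ha : a ∈ J)
  have hqs : Function.Surjective q := fun c => by
    obtain ⟨a, rfl⟩ := hRC c
    exact ⟨Ideal.Quotient.mk _ a, rfl⟩
  have hkq : RingHom.ker q.toRingHom ^ 2 = ⊥ := by
    have hk : RingHom.ker q.toRingHom = J.map (Ideal.Quotient.mk (J ^ 2)) := by
      refine le_antisymm (fun x hx => ?_) (Ideal.map_le_iff_le_comap.2 fun a ha => ha)
      obtain ⟨a, rfl⟩ := Ideal.Quotient.mk_surjective x
      exact Ideal.mem_map_of_mem _ hx
    rw [hk, ← Ideal.map_pow, Ideal.map_quotient_self]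
  obtain ⟨g, hg⟩ : ∃ g : P →ₐ[R] R ⧸ J ^ 2, q.comp g = IsScalarTower.toAlgHom R P C :=
    ⟨_, Algebra.FormallySmooth.comp_liftOfSurjective (IsScalarTower.toAlgHom R P C) q hqs ⟨2, hkq⟩⟩
  have hgI : RingHom.ker (algebraMap P C) ≤ (RingHom.ker q.toRingHom).comap g.toRingHom := fun x hx => by
    rw [Ideal.mem_comap, RingHom.mem_ker]
    exact (congr($hg x)).trans hx
  have h2 : g (algebraMap R P r) = 0 := by
    have := (Ideal.pow_right_mono hgI 2).trans (Ideal.le_comap_pow _ 2) h
    rw [hkq] at this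
    exact this
  rw [g.commutes] at h2
  exact Ideal.Quotient.eq_zero_iff_mem.1 h2

variable {Z X Y : Scheme.{u}}

theorem isFormallySmoothHom_of_smooth (f : X ⟶ Y) [Smooth f] : MoreMor.IsFormallySmoothHom f :=
  FlatMorGeom.isFormallySmoothHom_of_appLE fun U V hU hV hUV => by
    letI := (f.appLE V U hUV).hom.toAlgebra
    have h : (f.appLE V U hUV).hom.Smooth :=
      HasRingHomProperty.appLE @Smooth f inferInstance ⟨V, hV⟩ ⟨U, hU⟩ hUV
    exact h.toAlgebra.formallySmooth

/-- Stalkwise injectivity of the conormal map for a formally smooth morphism. -/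
theorem mono_conormalMap_of_formallySmooth {p : X ⟶ Y} (hp : MoreMor.IsFormallySmoothHom p) {i : Z ⟶ X}
    {j : Z ⟶ Y} [IsImmersion i] [IsImmersion j] [QuasiCompact i] [QuasiCompact j]
    {ψ : (Scheme.Modules.pullback (𝟙 Z)).obj (Omega.conormal j) ⟶ Omega.conormal i}
    (hψ : OmegaSh.IsConormalMap i j p (𝟙 Z) ψ) : Mono ψ := by
  refine mono_of_stalks_injective ψ fun z => ?_
  rw [injective_iff_map_eq_zero]
  intro v hv
  have hij : i ≫ p = j := by rw [← hψ.1, Category.id_comp]
  have hwy : j z = p (i z) := congrArg (fun f : Z ⟶ Y => f z) hij.symm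
  obtain ⟨π, hπ⟩ := exists_pi i z (y := i z) rfl
  obtain ⟨π', hπ'⟩ := exists_pi j ((𝟙 Z : Z ⟶ Z) z) (y := p (i z)) hwy
  obtain ⟨P, hPs, hP⟩ := exists_pullId (Omega.conormal j) z
  obtain ⟨m, rfl⟩ := hPs v
  obtain ⟨x', rfl⟩ := hπ'.1 m
  replace hv := (pi_conormalMap hψ z rfl rfl hwy hπ hπ' hP x').symm.trans hv
  have h2 : (tm p (x := i z) rfl) x'.1 ∈ RingHom.ker (tm i (x := z) rfl).hom ^ 2 := (hπ.2.1 _).1 hv
  letI := (p.stalkMap (i z)).hom.toAlgebra
  letI := (i.stalkMap z).hom.toAlgebra
  letI : Algebra (Y.presheaf.stalk (p (i z))) (Z.presheaf.stalk z) := (tm j hwy).hom.toAlgebra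
  have hfac := fun r => congr($(tm_factor hij (x := z) (y := i z) rfl (z := p (i z)) rfl hwy) r)
  haveI : IsScalarTower (Y.presheaf.stalk (p (i z))) (X.presheaf.stalk (i z)) (Z.presheaf.stalk z) :=
    IsScalarTower.of_algebraMap_eq fun r => by
      have h1 := hfac r
      rw [tm_self, tm_self] at h1
      exact h1.symm
  haveI := formallySmooth_stalkMap hp (i z)
  have hs : Function.Surjective (algebraMap (Y.presheaf.stalk (p (i z))) (Z.presheaf.stalk z)) := fun c => by
    obtain ⟨r, rfl⟩ := j.stalkMap_surjective z c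
    refine ⟨Y.presheaf.stalkSpecializes (hwy ▸ specializes_rfl) r, ?_⟩
    show j.stalkMap z (Y.presheaf.stalkSpecializes _ (Y.presheaf.stalkSpecializes _ r)) = _
    refine congrArg (j.stalkMap z) ?_
    rw [← CommRingCat.comp_apply, TopCat.Presheaf.stalkSpecializes_comp]
    exact congr($(TopCat.Presheaf.stalkSpecializes_refl Y.presheaf (j z)) r)
  rw [tm_self, tm_self] at h2
  have h3 := mem_ker_sq_of_formallySmooth (P := X.presheaf.stalk (i z)) hs h2
  rw [(hπ'.2.1 x').2 h3, map_zero]

end Groth.Agent.Omega15
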