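import Groth.Prelude.Def_Omega3
import Groth.Agent.Omega15.ConormalPi
import Groth.Agent.H8Lim.ModSections

/-!
# The canonical map of conormal sheaves: existence and uniqueness
-/

set_option autoImplicit false
set_option backward.isDefEq.respectTransparency.types false
set_option backward.isDefEq.respectTransparency false
set_option linter.style.haveILetI false
universe u

open CategoryTheory CategoryTheory.Limits AlgebraicGeometry TopologicalSpace Opposite
open scoped TensorProduct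

noncomputable section

namespace Groth.Agent.Omega15

open OmegaLib Thick15

variable {Z X W X' : Scheme.{u}}

/-- Pulling back local sections of ideals, as a morphism of modules. -/
theorem exists_idealPull (g : X ⟶ X') (J : X.IdealSheafData) (I : X'.IdealSheafData) (h : I ≤ J.map g) :
    ∃ α : ClSub.idealMod I ⟶ (Scheme.Modules.pushforward g).obj (ClSub.idealMod J),
      ∀ (U : X'.Opens) (s : Γ(ClSub.idealMod I, U)),
        OmegaSh.idealSect J (g ⁻¹ᵁ U) (α.app U s) = g.app U (OmegaSh.idealSect I U s) := by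
  let γ := ClSub.idealModι I ≫ ClSub.unitToPush g
  have h0 : γ ≫ (Scheme.Modules.pushforward g).map (ClSub.toSubscheme J) = 0 := by
    ext U s
    show J.subschemeι.app (g ⁻¹ᵁ U) (g.app U (OmegaSh.idealSect I U s)) = 0
    obtain ⟨s', hs'⟩ := exists_idealSect_app g J I h U s
    rw [← hs']
    exact (AmpleLib.mem_range_idealModι _ _ _).1 ⟨_, rfl⟩
  let e := PreservesKernel.iso (Scheme.Modules.pushforward g) (ClSub.toSubscheme J)
  refine ⟨kernel.lift _ γ h0 ≫ e.inv, fun U s => ?_⟩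
  have h1 : (kernel.lift _ γ h0 ≫ e.inv) ≫ (Scheme.Modules.pushforward g).map (ClSub.idealModι J) = γ := by
    rw [Category.assoc]
    unfold ClSub.idealModι ClSub.idealMod
    rw [PreservesKernel.iso_inv_ι, kernel.lift_ι]
  exact congr(($h1).app U s)

theorem pullCongr_res {a b : Z ⟶ X} (hab : a = b) (M : X.Modules) (U : X.Opens) (s : Γ(M, U))
    (V : Z.Opens) (h₁ : V ≤ a ⁻¹ᵁ U) (h₂ : V ≤ b ⁻¹ᵁ U) :
    ((Scheme.Modules.pullback b).obj M).presheaf.map (homOfLE h₁).op
        (((Scheme.Modules.pullbackCongr hab).hom.app M).app (a ⁻¹ᵁ U) (OmegaSh.pullSect a M U s)) =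
      ((Scheme.Modules.pullback b).obj M).presheaf.map (homOfLE h₂).op (OmegaSh.pullSect b M U s) := by
  subst hab
  rfl

theorem exists_conormalMap {i : Z ⟶ X} {i' : W ⟶ X'} {g : X ⟶ X'} {gZ : Z ⟶ W} (hsq : gZ ≫ i' = i ≫ g) :
    ∃ φ : (Scheme.Modules.pullback gZ).obj (Omega.conormal i') ⟶ Omega.conormal i,
      OmegaSh.IsConormalMap i i' g gZ φ := by
  have hle : i'.ker ≤ i.ker.map g := by
    rw [Scheme.IdealSheafData.map_ker, ← hsq]
    exact Scheme.Hom.le_ker_comp gZ i'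
  obtain ⟨α, hα⟩ := exists_idealPull g i.ker i'.ker hle
  let adj := Scheme.Modules.pullbackPushforwardAdjunction g
  let ᾱ : (Scheme.Modules.pullback g).obj (ClSub.idealMod i'.ker) ⟶ ClSub.idealMod i.ker :=
    (adj.homEquiv _ _).symm α
  have hᾱ : ∀ (U : X'.Opens) (s : Γ(ClSub.idealMod i'.ker, U)),
      ᾱ.app (g ⁻¹ᵁ U) (OmegaSh.pullSect g _ U s) = α.app U s := fun U s => by
    have h1 : adj.unit.app _ ≫ (Scheme.Modules.pushforward g).map ᾱ = α :=
      (adj.homEquiv_unit _ _ ᾱ).symm.trans (Equiv.apply_symm_apply _ α)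
    exact congr(($h1).app U s)
  let C := Scheme.Modules.pullbackComp gZ i'
  let D := Scheme.Modules.pullbackComp i g
  let K := ClSub.idealMod i'.ker
  refine ⟨C.hom.app K ≫ (Scheme.Modules.pullbackCongr hsq).hom.app K ≫ D.inv.app K ≫
    (Scheme.Modules.pullback i).map ᾱ, hsq, fun U' s' s hs V h₁ h₂ => ?_⟩
  have hsα : α.app U' s' = s := idealSect_injective i.ker _ ((hα U' s').trans hs.symm)
  have e1 := H8Lim.pullbackComp_hom_app_pullSec gZ i' K (U := U') s'
  show (Omega.conormal i).presheaf.map _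
    (((Scheme.Modules.pullback i).map ᾱ).app _ ((D.inv.app K).app _
      (((Scheme.Modules.pullbackCongr hsq).hom.app K).app _ ((C.hom.app K).app _ _)))) = _
  erw [e1]
  have nat : ∀ {M N : Z.Modules} (f : M ⟶ N) {A : Z.Opens} (h : V ≤ A) (m : Γ(M, A)),
      N.presheaf.map (homOfLE h).op (f.app A m) = f.app V (M.presheaf.map (homOfLE h).op m) :=
    fun f A h m => congr($(f.mapPresheaf.naturality (homOfLE h).op) m).symm
  refine (nat ((Scheme.Modules.pullback i).map ᾱ) h₁ _).trans ?_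
  refine (congrArg _ (nat (D.inv.app K) h₁ _)).trans ?_
  refine (congrArg (fun m => ((Scheme.Modules.pullback i).map ᾱ).app V ((D.inv.app K).app V m))
    (pullCongr_res hsq K U' s' V h₁ h₂)).trans ?_
  refine (congrArg _ (nat (D.inv.app K) h₂ _).symm).trans ?_
  refine (nat ((Scheme.Modules.pullback i).map ᾱ) h₂ _).symm.trans (congrArg _ ?_)
  have e2 := Coherent.pullbackComp_inv_app_pullSec i g K U' s'
  refine (congrArg _ e2).trans ?_
  refine (Thick15.pullSect_naturality i ᾱ (g ⁻¹ᵁ U') _).trans ?_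
  show OmegaSh.pullSect i _ _ _ = _
  refine congrArg (OmegaSh.pullSect i (ClSub.idealMod i.ker) (g ⁻¹ᵁ U')) ?_
  exact (hᾱ U' s').trans hsα

/-- Two maps out of a pulled back conormal sheaf agreeing on pulled back classes agree. -/
theorem hom_ext_pull_conormal {i' : W ⟶ X'} [IsImmersion i'] [QuasiCompact i'] {gZ : Z ⟶ W} {N : Z.Modules}
    {α β : (Scheme.Modules.pullback gZ).obj (Omega.conormal i') ⟶ N}
    (h : ∀ (U' : X'.Opens) (s' : Γ(ClSub.idealMod i'.ker, U')) (z : Z) (hz : z ∈ gZ ⁻¹ᵁ (i' ⁻¹ᵁ U')),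
      (DerSch.stalkFunctor Z z).map α (gm _ (gZ ⁻¹ᵁ (i' ⁻¹ᵁ U')) z hz
          (OmegaSh.pullSect gZ (Omega.conormal i') (i' ⁻¹ᵁ U') (OmegaSh.conormalSect i' U' s'))) =
        (DerSch.stalkFunctor Z z).map β (gm _ (gZ ⁻¹ᵁ (i' ⁻¹ᵁ U')) z hz
          (OmegaSh.pullSect gZ (Omega.conormal i') (i' ⁻¹ᵁ U') (OmegaSh.conormalSect i' U' s')))) : α = β := by
  refine sub_eq_zero.1 (hom_eq_zero_of_stalks _ fun z v => ?_)
  letI := (gZ.stalkMap z).hom.toAlgebra
  obtain ⟨E, hE⟩ := exists_pullback_stalk_equiv gZ (Omega.conormal i') z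
  obtain ⟨t, rfl⟩ := E.surjective v
  rw [Functor.map_sub]
  show (DerSch.stalkFunctor Z z).map α (E t) - (DerSch.stalkFunctor Z z).map β (E t) = 0
  rw [sub_eq_zero]
  induction t using TensorProduct.induction_on with
  | zero => simp only [map_zero]
  | add p q hp hq => simp only [map_add, hp, hq]
  | tmul b w =>
    obtain ⟨π, hπ⟩ := exists_pi i' (gZ z) (y := i' (gZ z)) rfl
    obtain ⟨x, rfl⟩ := hπ.1 w
    obtain ⟨a, ha⟩ := x
    obtain ⟨U', hU', s', rfl⟩ := exists_germ_idealSect i' (gZ z) rfl ha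
    rw [hπ.2.2.2 U' hU' s' ha,
      show b ⊗ₜ[W.presheaf.stalk (gZ z)] gm (Omega.conormal i') (i' ⁻¹ᵁ U') (gZ z) hU' (OmegaSh.conormalSect i' U' s') =
        b • ((1 : Z.presheaf.stalk z) ⊗ₜ[W.presheaf.stalk (gZ z)]
          gm (Omega.conormal i') (i' ⁻¹ᵁ U') (gZ z) hU' (OmegaSh.conormalSect i' U' s'))
        by rw [TensorProduct.smul_tmul', smul_eq_mul, mul_one],
      map_smul, map_smul, map_smul, hE]
    exact congrArg (b • ·) (h U' s' z hU')

theorem conormalMap_unique {i : Z ⟶ X} {i' : W ⟶ X'} {g : X ⟶ X'} {gZ : Z ⟶ W}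
    [IsImmersion i] [QuasiCompact i] [IsImmersion i'] [QuasiCompact i']
    {φ₁ φ₂ : (Scheme.Modules.pullback gZ).obj (Omega.conormal i') ⟶ Omega.conormal i}
    (h₁ : OmegaSh.IsConormalMap i i' g gZ φ₁) (h₂ : OmegaSh.IsConormalMap i i' g gZ φ₂) : φ₁ = φ₂ := by
  refine hom_ext_pull_conormal fun U' s' z hz => ?_
  have hle : i'.ker ≤ i.ker.map g := by
    rw [Scheme.IdealSheafData.map_ker, ← h₁.1]
    exact Scheme.Hom.le_ker_comp gZ i'
  obtain ⟨s, hs⟩ := exists_idealSect_app g i.ker i'.ker hle U' s'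
  have hz' : z ∈ i ⁻¹ᵁ (g ⁻¹ᵁ U') := by
    show g (i z) ∈ U'
    rw [show g (i z) = i' (gZ z) from congrArg (fun f : Z ⟶ X' => f z) h₁.1.symm]
    exact hz
  exact (conormalMap_gm h₁ U' s' s hs z hz hz').trans (conormalMap_gm h₂ U' s' s hs z hz hz').symm

end Groth.Agent.Omega15
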