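import Groth.Prelude.Def_Omega3
import Groth.Agent.Omega15.ConormalExist
import Mathlib.RingTheory.Flat.Basic
import Mathlib.RingTheory.RingHom.Flat

/-!
# Base change of conormal sheaves of immersions
-/

set_option autoImplicit false
set_option backward.isDefEq.respectTransparency.types false
set_option backward.isDefEq.respectTransparency false
set_option linter.style.haveILetI false
universe u

open CategoryTheory CategoryTheory.Limits AlgebraicGeometry TopologicalSpace Opposite IsLocalRing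
open scoped TensorProduct

noncomputable section

namespace Groth.Agent.Omega15

open OmegaLib Thick15

variable {Z X W X' : Scheme.{u}}

/-- The algebra behind injectivity of the base change of `I / I²` along a flat map. -/
theorem bc_injective {R P C D M N : Type u} [CommRing R] [CommRing P] [CommRing C] [CommRing D]
    [AddCommGroup M] [AddCommGroup N] [Module D M] [Module C N] [Algebra D C]
    (g : R →+* P) (hg : g.Flat) (q : P →+* C) (hq : Function.Surjective q) (q' : R →+* D)
    (hu : ∀ r, algebraMap D C (q' r) = q (g r))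
    (π' : RingHom.ker q' →+ M) (h1 : Function.Surjective π')
    (h2 : ∀ x : RingHom.ker q', (x : R) ∈ RingHom.ker q' ^ 2 → π' x = 0)
    (h3 : ∀ a x, π' (a • x) = q' a • π' x)
    (hker : RingHom.ker q = (RingHom.ker q').map g)
    (π : RingHom.ker q →+ N) (hπ0 : ∀ x, π x = 0 → (x : P) ∈ RingHom.ker q ^ 2)
    (hπ : ∀ a x, π (a • x) = q a • π x)
    (Φ : C ⊗[D] M →ₗ[C] N)
    (hΦ : ∀ (x : RingHom.ker q') (h : g x ∈ RingHom.ker q), Φ (1 ⊗ₜ π' x) = π ⟨g x, h⟩) :
    Function.Injective Φ := by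
  letI := g.toAlgebra
  haveI : Module.Flat R P := hg
  let B : P →+ RingHom.ker q' →+ C ⊗[D] M :=
    AddMonoidHom.mk' (fun a => AddMonoidHom.mk' (fun x => q a ⊗ₜ[D] π' x)
      fun x y => by rw [map_add, TensorProduct.tmul_add])
      fun a b => AddMonoidHom.ext fun x => by
        show q (a + b) ⊗ₜ[D] π' x = q a ⊗ₜ[D] π' x + q b ⊗ₜ[D] π' x
        rw [map_add, TensorProduct.add_tmul]
  let Θ : P ⊗[R] RingHom.ker q' →+ C ⊗[D] M := TensorProduct.liftAddHom B fun r a x => by
    show q (r • a) ⊗ₜ[D] π' x = q a ⊗ₜ[D] π' (r • x)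
    rw [h3, ← TensorProduct.smul_tmul, Algebra.smul_def (q' r), hu, ← map_mul, Algebra.smul_def]
    rfl
  have hΘ : ∀ a x, Θ (a ⊗ₜ x) = q a ⊗ₜ[D] π' x := fun _ _ => rfl
  let μ : P ⊗[R] RingHom.ker q' →ₗ[R] P :=
    (TensorProduct.rid R P).toLinearMap ∘ₗ LinearMap.lTensor P (RingHom.ker q').subtype
  have hμ : ∀ (a : P) (x : RingHom.ker q'), μ (a ⊗ₜ x) = a * g x := fun a x => by
    show (x : R) • a = _
    rw [Algebra.smul_def, mul_comm]
    rfl
  have hμinj : Function.Injective μ := (TensorProduct.rid R P).injective.comp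
    (Module.Flat.lTensor_preserves_injective_linearMap _ Subtype.val_injective)
  have hmem : ∀ T, μ T ∈ RingHom.ker q := fun T => by
    induction T using TensorProduct.induction_on with
    | zero => rw [map_zero]; exact zero_mem _
    | add a b ha hb => rw [map_add]; exact add_mem ha hb
    | tmul a x => rw [hμ, hker]; exact Ideal.mul_mem_left _ a (Ideal.mem_map_of_mem g x.2)
  have hΦΘ : ∀ T, Φ (Θ T) = π ⟨μ T, hmem T⟩ := fun T => by
    induction T using TensorProduct.induction_on with
    | zero =>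
      rw [map_zero, map_zero, show (⟨μ 0, hmem 0⟩ : RingHom.ker q) = 0 from Subtype.ext (map_zero μ), map_zero]
    | add a b ha hb =>
      rw [map_add, map_add, ha, hb, ← map_add]
      exact congrArg π (Subtype.ext (map_add μ a b).symm)
    | tmul a x =>
      have hx : g x ∈ RingHom.ker q := hker ▸ Ideal.mem_map_of_mem g x.2
      rw [hΘ, show q a ⊗ₜ[D] π' x = q a • ((1 : C) ⊗ₜ[D] π' x) by
        rw [TensorProduct.smul_tmul', smul_eq_mul, mul_one], map_smul, hΦ x hx, ← hπ]
      exact congrArg π (Subtype.ext (hμ a x).symm)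
  have hsurj : Function.Surjective Θ := fun t => by
    induction t using TensorProduct.induction_on with
    | zero => exact ⟨0, map_zero Θ⟩
    | add a b ha hb =>
      obtain ⟨A, rfl⟩ := ha
      obtain ⟨B, rfl⟩ := hb
      exact ⟨A + B, map_add Θ A B⟩
    | tmul c m =>
      obtain ⟨a, rfl⟩ := hq c
      obtain ⟨x, rfl⟩ := h1 m
      exact ⟨a ⊗ₜ x, hΘ a x⟩
  have hscal : ∀ (a : P) T, Θ (a • T) = q a • Θ T := fun a T => by
    induction T using TensorProduct.induction_on with
    | zero => rw [smul_zero, map_zero, smul_zero]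
    | add u v hu hv => rw [smul_add, map_add, map_add, hu, hv, smul_add]
    | tmul b x => rw [TensorProduct.smul_tmul', hΘ, hΘ, TensorProduct.smul_tmul', smul_eq_mul, map_mul]; rfl
  have hμscal : ∀ (a : P) T, μ (a • T) = a * μ T := fun a T => by
    induction T using TensorProduct.induction_on with
    | zero => rw [smul_zero, map_zero, mul_zero]
    | add u v hu hv => rw [smul_add, map_add, map_add, hu, hv, mul_add]
    | tmul b x => rw [TensorProduct.smul_tmul', hμ, hμ, smul_eq_mul, mul_assoc]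
  rw [injective_iff_map_eq_zero]
  intro t ht
  obtain ⟨T, rfl⟩ := hsurj t
  rw [hΦΘ] at ht
  have h0 : μ T ∈ RingHom.ker q ^ 2 := hπ0 _ ht
  rw [hker, ← Ideal.map_pow, Ideal.map] at h0
  obtain ⟨T', hT', hT'0⟩ : ∃ T', μ T' = μ T ∧ Θ T' = 0 := by
    change μ T ∈ Submodule.span P (g '' (RingHom.ker q' ^ 2 : Ideal R)) at h0
    generalize μ T = v at h0 ⊢
    induction h0 using Submodule.span_induction with
    | mem v hv =>
      obtain ⟨c, hc, rfl⟩ := hv
      have hc1 : c ∈ RingHom.ker q' := Ideal.pow_le_self two_ne_zero hc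
      exact ⟨1 ⊗ₜ ⟨c, hc1⟩, by rw [hμ, one_mul], by rw [hΘ, h2 _ hc, TensorProduct.tmul_zero]⟩
    | zero => exact ⟨0, map_zero μ, map_zero Θ⟩
    | add a b _ _ ha hb =>
      obtain ⟨A, rfl, hA⟩ := ha
      obtain ⟨B, rfl, hB⟩ := hb
      exact ⟨A + B, map_add μ A B, by rw [map_add, hA, hB, add_zero]⟩
    | smul a v _ hv =>
      obtain ⟨A, rfl, hA⟩ := hv
      exact ⟨a • A, by rw [hμscal]; rfl, by rw [hscal, hA, smul_zero]⟩
  rw [← hμinj hT', hT'0]

theorem flat_tm (g : X ⟶ X') [Flat g] {y : X} {y' : X'} (h : g y = y') : (tm g h).hom.Flat := by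
  subst h
  rw [tm_self]
  exact AlgebraicGeometry.Flat.stalkMap g y

theorem SpecMap_tm_fromSpecStalk (g : X ⟶ X') {y : X} {y' : X'} (h : g y = y') :
    Spec.map (tm g h) ≫ X'.fromSpecStalk y' = X.fromSpecStalk y ≫ g := by
  subst h
  rw [tm_self]
  exact Scheme.SpecMap_stalkMap_fromSpecStalk g

theorem app_idealSect (i : Z ⟶ X) (U : X.Opens) (s : Γ(ClSub.idealMod i.ker, U)) :
    i.app U (OmegaSh.idealSect i.ker U s) = 0 :=
  app_eq_zero_of_subschemeι i ((AmpleLib.mem_range_idealModι _ _ _).1 ⟨_, rfl⟩)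

/-- In a cartesian square of immersions the ideal at a point is generated by the pulled-back ideal. -/
theorem ker_tm_of_isPullback {i : Z ⟶ X} {i' : W ⟶ X'} {g : X ⟶ X'} {gZ : Z ⟶ W}
    [IsImmersion i] [QuasiCompact i] [IsImmersion i'] [QuasiCompact i'] (hsq : IsPullback i gZ g i')
    (z : Z) {y : X} (hy : i z = y) {y' : X'} (hy' : g y = y') (hwy : i' (gZ z) = y') :
    RingHom.ker (tm i hy).hom = (RingHom.ker (tm i' hwy).hom).map (tm g hy').hom := by
  refine le_antisymm ?_ (Ideal.map_le_iff_le_comap.2 fun a ha => tm_mem_ker hsq.w.symm z hy hy' hwy ha)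
  let J := (RingHom.ker (tm i' hwy).hom).map (tm g hy').hom
  have hJ : J ≤ RingHom.ker (tm i hy).hom :=
    Ideal.map_le_iff_le_comap.2 fun a ha => tm_mem_ker hsq.w.symm z hy hy' hwy ha
  let A : CommRingCat.{u} := CommRingCat.of (X.presheaf.stalk y ⧸ J)
  let q : X.presheaf.stalk y ⟶ A := CommRingCat.ofHom (Ideal.Quotient.mk J)
  have hs : Function.Surjective (tm i' hwy).hom := by
    subst hwy; rw [tm_self]; exact i'.stalkMap_surjective (gZ z)
  have hle : RingHom.ker (tm i' hwy).hom ≤ RingHom.ker (q.hom.comp (tm g hy').hom) := fun a ha => by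
    rw [RingHom.mem_ker, RingHom.comp_apply]
    exact Ideal.Quotient.eq_zero_iff_mem.2 (Ideal.mem_map_of_mem _ ha)
  let F : {f : X'.presheaf.stalk y' →+* A // RingHom.ker (tm i' hwy).hom ≤ RingHom.ker f} :=
    ⟨q.hom.comp (tm g hy').hom, hle⟩
  let l : W.presheaf.stalk (gZ z) ⟶ A := CommRingCat.ofHom ((tm i' hwy).hom.liftOfSurjective hs F)
  have hl : tm i' hwy ≫ l = tm g hy' ≫ q := by
    ext a
    exact RingHom.liftOfRightInverse_comp_apply _ _ (Function.rightInverse_surjInv hs) F a
  let u := hsq.lift (Spec.map q ≫ X.fromSpecStalk y) (Spec.map l ≫ W.fromSpecStalk (gZ z)) (by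
    rw [Category.assoc, Category.assoc, ← SpecMap_tm_fromSpecStalk g hy', ← SpecMap_tm_fromSpecStalk i' hwy,
      ← Spec.map_comp_assoc, ← Spec.map_comp_assoc, hl])
  intro a ha
  obtain ⟨U, hU, s, rfl⟩ := exists_germ_idealSect i z hy ha
  show _ ∈ J
  have htop : (⊤ : (Spec A).Opens) ≤ (Spec.map q ≫ X.fromSpecStalk y) ⁻¹ᵁ U := by
    intro p _
    show X.fromSpecStalk y (Spec.map q p) ∈ U
    refine Specializes.mem_open ?_ U.2 hU
    have := (IsLocalRing.specializes_closedPoint (Spec.map q p)).map (X.fromSpecStalk y).continuous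
    rwa [show (X.fromSpecStalk y) (closedPoint (X.presheaf.stalk y)) = y from Scheme.fromSpecStalk_closedPoint] at this
  have key : ∀ v : Spec A ⟶ X, v = u ≫ i → ∀ e : (⊤ : (Spec A).Opens) ≤ v ⁻¹ᵁ U,
      v.appLE U ⊤ e (OmegaSh.idealSect i.ker U s) = 0 := by
    rintro v rfl e
    rw [Scheme.Hom.comp_appLE, CommRingCat.comp_apply, app_idealSect, map_zero]
  have h2 := key _ (hsq.lift_fst _ _ _).symm htop
  rw [Scheme.Hom.comp_appLE, Scheme.fromSpecStalk_app hU] at h2
  simp only [Category.assoc, CommRingCat.comp_apply] at h2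
  rw [← CommRingCat.comp_apply, Scheme.Hom.map_appLE] at h2
  rw [← Ideal.Quotient.eq_zero_iff_mem]
  refine (ConcreteCategory.bijective_of_isIso (Scheme.ΓSpecIso A).inv).1 ?_
  refine Eq.trans ?_ (map_zero _).symm
  refine Eq.trans ?_ h2
  have h3 := congr($(Scheme.ΓSpecIso_inv_naturality q) (X.presheaf.germ U y hU (OmegaSh.idealSect i.ker U s)))
  simp only [CommRingCat.comp_apply] at h3
  rw [Scheme.Hom.appLE]
  refine h3.trans ?_
  simp

end Groth.Agent.Omega15
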