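import Groth.Prelude.Def_Omega3
import Groth.Agent.Omega15.ConormalExist
import Groth.Agent.OmegaLib.Der
import Groth.Agent.PrinLib.Order
import Mathlib.Algebra.Homology.ShortComplex.Exact

/-!
# The conormal sequence of an immersion with a left inverse is split exact
-/

set_option autoImplicit false
set_option backward.isDefEq.respectTransparency.types false
set_option backward.isDefEq.respectTransparency false
set_option linter.style.haveILetI false
universe u

open CategoryTheory CategoryTheory.Limits AlgebraicGeometry TopologicalSpace Opposite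

noncomputable section

namespace Groth.Agent.Omega15

open OmegaLib Thick15

variable {Z X S : Scheme.{u}}

theorem exists_idealSect_of_app_eq_zero (i : Z ⟶ X) [QuasiCompact i] (U : X.Opens) (a : Γ(X, U))
    (ha : i.app U a = 0) : ∃ s, OmegaSh.idealSect i.ker U s = a := by
  refine (AmpleLib.mem_range_idealModι i.ker U a).2 ?_
  choose V hV hxV hVU using fun x : (U : Set X) => Opens.isBasis_iff_nbhd.mp X.isBasis_affineOpens x.2
  refine TopCat.Sheaf.eq_of_locally_eq' i.ker.subscheme.sheaf (fun x => i.ker.subschemeι ⁻¹ᵁ V x)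
    (i.ker.subschemeι ⁻¹ᵁ U) (fun x => (Opens.map i.ker.subschemeι.base).map (homOfLE (hVU x)))
    (fun w hw => Opens.mem_iSup.2 ⟨⟨i.ker.subschemeι w, hw⟩, hxV ⟨_, hw⟩⟩) _ _ fun x => ?_
  have h1 := congr($(i.ker.subschemeι.naturality (homOfLE (hVU x)).op) a)
  simp only [CommRingCat.comp_apply] at h1
  refine h1.symm.trans ((?_ : i.ker.subschemeι.app (V x) (X.presheaf.map (homOfLE (hVU x)).op a) = 0).trans
    (map_zero _).symm)
  rw [← RingHom.mem_ker, i.ker.ker_subschemeι_app ⟨V x, hV x⟩, Scheme.Hom.ker_apply, RingHom.mem_ker]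
  have h2 := congr($(i.naturality (homOfLE (hVU x)).op) a)
  simp only [CommRingCat.comp_apply] at h2
  exact h2.trans (by rw [ha, map_zero])

theorem app_idealSect_eq_zero (i : Z ⟶ X) (U : X.Opens) (s : Γ(ClSub.idealMod i.ker, U)) :
    i.app U (OmegaSh.idealSect i.ker U s) = 0 :=
  app_eq_zero_of_subschemeι i ((AmpleLib.mem_range_idealModι _ _ _).1 ⟨s, rfl⟩)

theorem appLE_of_eq_id {h : Z ⟶ Z} (e : h = 𝟙 Z) {U V : Z.Opens} (e₁ : V ≤ h ⁻¹ᵁ U) (e₂ : V ≤ U) (b : Γ(Z, U)) :
    h.appLE U V e₁ b = Z.presheaf.map (homOfLE e₂).op b := by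
  subst e
  simp [Scheme.Hom.appLE]

section
variable (i : Z ⟶ X) (g : X ⟶ Z)

/-- The open on which `a - g♯ i♯ a` lives. -/
abbrev retrOpen (U : X.Opens) : X.Opens := U ⊓ g ⁻¹ᵁ (i ⁻¹ᵁ U)

/-- `a ↦ g♯ i♯ a`. -/
def retrMap (U : X.Opens) : Γ(X, U) →+* Γ(X, retrOpen i g U) :=
  ((g.appLE (i ⁻¹ᵁ U) (retrOpen i g U) inf_le_right).hom).comp (i.app U).hom

/-- Restriction. -/
def retrRes (U : X.Opens) : Γ(X, U) →+* Γ(X, retrOpen i g U) :=
  (X.presheaf.map (homOfLE (inf_le_left : retrOpen i g U ≤ U)).op).hom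

variable {i g}

theorem le_retrOpen (hgi : i ≫ g = 𝟙 Z) (U : X.Opens) : i ⁻¹ᵁ U ≤ i ⁻¹ᵁ retrOpen i g U := fun z hz =>
  ⟨hz, show i (g (i z)) ∈ U by
    rw [show g (i z) = z from congrArg (fun m : Z ⟶ Z => m z) hgi]; exact hz⟩

theorem app_retrMap (hgi : i ≫ g = 𝟙 Z) (U : X.Opens) (a : Γ(X, U)) :
    i.app (retrOpen i g U) (retrMap i g U a) = i.app (retrOpen i g U) (retrRes i g U a) := by
  have h1 := congr($(i.naturality (homOfLE (inf_le_left : retrOpen i g U ≤ U)).op) a)
  simp only [CommRingCat.comp_apply] at h1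
  refine Eq.trans ?_ h1.symm
  have hle2 : i ⁻¹ᵁ retrOpen i g U ≤ (i ≫ g) ⁻¹ᵁ (i ⁻¹ᵁ U) := fun z (hz : i z ∈ U ∧ i (g (i z)) ∈ U) => hz.2
  have h2 : (i ≫ g).appLE (i ⁻¹ᵁ U) (i ⁻¹ᵁ retrOpen i g U) hle2 (i.app U a) =
      i.app (retrOpen i g U) (retrMap i g U a) := by
    rw [Scheme.Hom.comp_appLE, CommRingCat.comp_apply]
    show i.appLE _ _ _ (g.app (i ⁻¹ᵁ U) _) = i.app _ (g.appLE _ _ _ _)
    simp only [Scheme.Hom.appLE, CommRingCat.comp_apply]
    exact (congr($(i.naturality (homOfLE (inf_le_right : retrOpen i g U ≤ _)).op) _)).symm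
  rw [← h2, appLE_of_eq_id hgi _ (fun z (hz : i z ∈ U ∧ i (g (i z)) ∈ U) => hz.1)]
  rfl

variable [QuasiCompact i]

theorem exists_retrSect (hgi : i ≫ g = 𝟙 Z) (U : X.Opens) (a : Γ(X, U)) :
    ∃ s, OmegaSh.idealSect i.ker (retrOpen i g U) s = retrRes i g U a - retrMap i g U a :=
  exists_idealSect_of_app_eq_zero i _ _ (by rw [map_sub, app_retrMap hgi, sub_self])

/-- The section of the ideal. -/
def retrSect (hgi : i ≫ g = 𝟙 Z) (U : X.Opens) (a : Γ(X, U)) : Γ(ClSub.idealMod i.ker, retrOpen i g U) :=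
  (exists_retrSect hgi U a).choose

theorem idealSect_retrSect (hgi : i ≫ g = 𝟙 Z) (U : X.Opens) (a : Γ(X, U)) :
    OmegaSh.idealSect i.ker (retrOpen i g U) (retrSect hgi U a) = retrRes i g U a - retrMap i g U a :=
  (exists_retrSect hgi U a).choose_spec

theorem idealSect_smul (I : X.IdealSheafData) (V : X.Opens) (r : Γ(X, V)) (p : Γ(ClSub.idealMod I, V)) :
    OmegaSh.idealSect I V (r • p) = r * OmegaSh.idealSect I V p :=
  congrArg (OmegaSh.fnSect X V) (Scheme.Modules.Hom.app_smul (ClSub.idealModι I) r p)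

theorem conormalSect_map (i : Z ⟶ X) {U V : X.Opens} (h : V ≤ U) (s : Γ(ClSub.idealMod i.ker, U))
    (W : Z.Opens) (h₁ : W ≤ i ⁻¹ᵁ V) (h₂ : W ≤ i ⁻¹ᵁ U) :
    (Omega.conormal i).presheaf.map (homOfLE h₁).op
        (OmegaSh.conormalSect i V ((ClSub.idealMod i.ker).presheaf.map (homOfLE h).op s)) =
      (Omega.conormal i).presheaf.map (homOfLE h₂).op (OmegaSh.conormalSect i U s) := by
  have e := congr($(((Scheme.Modules.pullbackPushforwardAdjunction i).unit.app (ClSub.idealMod i.ker)).mapPresheaf.naturality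
    (homOfLE h).op) s)
  refine (congrArg _ e).trans ?_
  exact ((Omega.conormal i).presheaf.map_comp_apply _ _ _).symm

theorem conormalSect_smul (i : Z ⟶ X) (V : X.Opens) (r : Γ(X, V)) (p : Γ(ClSub.idealMod i.ker, V)) :
    OmegaSh.conormalSect i V (r • p) = i.app V r • OmegaSh.conormalSect i V p :=
  PrinLib.pullSect_smul i (ClSub.idealMod i.ker) V r p

variable {f : X ⟶ S}

theorem exists_retrDer (hgi : i ≫ g = 𝟙 Z) (hgS : g ≫ i ≫ f = f) :
    ∃ D : OmegaSh.Der f ((Scheme.Modules.pushforward i).obj (Omega.conormal i)),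
      ∀ (U : X.Opens) (a : Γ(X, U)), D.app U a = (Omega.conormal i).presheaf.map (homOfLE (le_retrOpen hgi U)).op
        (OmegaSh.conormalSect i (retrOpen i g U) (retrSect hgi U a)) := by
  let C := Omega.conormal i
  have hadd : ∀ U a b, retrSect hgi U (a + b) = retrSect hgi U a + retrSect hgi U b := fun U a b => by
    apply idealSect_injective i.ker
    rw [map_add, idealSect_retrSect, idealSect_retrSect, idealSect_retrSect, map_add, map_add]
    abel
  have hmul : ∀ U a b, retrSect hgi U (a * b) =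
      retrRes i g U a • retrSect hgi U b + retrMap i g U b • retrSect hgi U a := fun U a b => by
    apply idealSect_injective i.ker
    rw [map_add, idealSect_smul, idealSect_smul, idealSect_retrSect, idealSect_retrSect, idealSect_retrSect,
      map_mul, map_mul]
    ring
  have hmapSect : ∀ (U V : X.Opens) (h : V ≤ U) (a : Γ(X, U)),
      retrSect hgi V (X.presheaf.map (homOfLE h).op a) =
        (ClSub.idealMod i.ker).presheaf.map (homOfLE (fun z hz => ⟨h hz.1, h hz.2⟩ : retrOpen i g V ≤ retrOpen i g U)).op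
          (retrSect hgi U a) := fun U V h a => by
    apply idealSect_injective i.ker
    rw [idealSect_map, idealSect_retrSect, idealSect_retrSect, map_sub]
    congr 1
    · show X.presheaf.map _ (X.presheaf.map _ a) = X.presheaf.map _ (X.presheaf.map _ a)
      rw [← Functor.map_comp_apply, ← Functor.map_comp_apply]
      rfl
    · have h1 := congr($(i.naturality (homOfLE h).op) a)
      simp only [CommRingCat.comp_apply] at h1
      show g.appLE _ _ _ (i.app V (X.presheaf.map _ a)) = X.presheaf.map _ (g.appLE _ _ _ (i.app U a))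
      rw [h1]
      generalize i.app U a = b
      rw [← CommRingCat.comp_apply, ← CommRingCat.comp_apply, Scheme.Hom.map_appLE, Scheme.Hom.appLE_map]
  let d0 : ∀ U : X.Opens, Γ(X, U) →+ Γ(C, i ⁻¹ᵁ U) := fun U =>
    AddMonoidHom.mk' (fun a => C.presheaf.map (homOfLE (le_retrOpen hgi U)).op
      (OmegaSh.conormalSect i (retrOpen i g U) (retrSect hgi U a))) fun a b => by rw [hadd, map_add, map_add]
  refine ⟨{ d := fun {U} => d0 U.unop
            d_mul := fun {U} a b => ?_
            d_map := fun {U V} h a => ?_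
            d_app := fun {V} c => ?_ }, fun U a => rfl⟩
  · show C.presheaf.map _ (OmegaSh.conormalSect i _ (retrSect hgi U.unop (a * b))) = _
    rw [hmul, map_add, map_add]
    have hres : ∀ (x : Γ(X, U.unop)) (y : Γ(X, retrOpen i g U.unop)) (_ : i.app _ y = i.app _ (retrRes i g U.unop x))
        (p : Γ(ClSub.idealMod i.ker, retrOpen i g U.unop)),
        C.presheaf.map (homOfLE (le_retrOpen hgi U.unop)).op (OmegaSh.conormalSect i _ (y • p)) =
          i.app U.unop x • C.presheaf.map (homOfLE (le_retrOpen hgi U.unop)).op (OmegaSh.conormalSect i _ p) := by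
      intro x y hy p
      rw [conormalSect_smul, Scheme.Modules.map_smul, hy]
      congr 1
      have h1 := congr($(i.naturality (homOfLE (inf_le_left : retrOpen i g U.unop ≤ U.unop)).op) x)
      simp only [CommRingCat.comp_apply] at h1
      show Z.presheaf.map _ (i.app _ (X.presheaf.map _ x)) = _
      rw [h1, ← CommRingCat.comp_apply, ← Functor.map_comp]
      exact ((congrArg (fun e => Z.presheaf.map e (i.app U.unop x)) (Subsingleton.elim _ (𝟙 (op (i ⁻¹ᵁ U.unop))))).trans
        (congr($(Z.presheaf.map_id _) (i.app U.unop x))))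
    rw [hres a _ rfl, hres b _ (app_retrMap hgi _ b)]
    rfl
  · show C.presheaf.map _ (OmegaSh.conormalSect i _ (retrSect hgi V.unop (X.presheaf.map h a))) =
      C.presheaf.map ((Opens.map i.base).map h.unop).op (C.presheaf.map _ _)
    rw [show h = (homOfLE h.unop.le).op from rfl, hmapSect]
    refine (conormalSect_map i _ _ _ _ ((Opens.map i.base).map h.unop ≫ homOfLE (le_retrOpen hgi U.unop)).le).trans ?_
    exact ((Omega.conormal i).presheaf.map_comp_apply _ _ _)
  · show C.presheaf.map _ (OmegaSh.conormalSect i _ (retrSect hgi _ (f.app V.unop c))) = 0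
    suffices h : retrSect hgi (f ⁻¹ᵁ V.unop) (f.app V.unop c) = 0 by
      exact (congrArg (fun s => C.presheaf.map _ (OmegaSh.conormalSect i _ s)) h).trans (by rw [map_zero, map_zero])
    apply idealSect_injective i.ker
    rw [idealSect_retrSect, map_zero, sub_eq_zero]
    have key : ∀ (m : X ⟶ S), m = f → ∀ (e : retrOpen i g (f ⁻¹ᵁ V.unop) ≤ m ⁻¹ᵁ V.unop),
        m.appLE V.unop _ e c = retrRes i g _ (f.app V.unop c) := by
      rintro m rfl e
      rfl
    rw [← key _ hgS (fun z hz => hz.2), Scheme.Hom.comp_appLE, CommRingCat.comp_apply]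
    show g.appLE _ _ _ _ = g.appLE _ _ _ (i.app _ (f.app V.unop c))
    congr 1

end

/-- Maps out of a pullback are determined on pulled back sections. -/
theorem hom_ext_pullSect (h : Z ⟶ X) {M : X.Modules} {N : Z.Modules}
    {α β : (Scheme.Modules.pullback h).obj M ⟶ N}
    (e : ∀ (U : X.Opens) (s : Γ(M, U)),
      α.app (h ⁻¹ᵁ U) (OmegaSh.pullSect h M U s) = β.app (h ⁻¹ᵁ U) (OmegaSh.pullSect h M U s)) : α = β := by
  apply ((Scheme.Modules.pullbackPushforwardAdjunction h).homEquiv _ _).injective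
  rw [Adjunction.homEquiv_unit, Adjunction.homEquiv_unit]
  ext U s
  exact e U s

/-- Maps out of a pullback of differentials are determined on differentials. -/
theorem hom_ext_pull_der (h : Z ⟶ X) {f : X ⟶ S} {Ω : X.Modules} {d : OmegaSh.Der f Ω} (hd : OmegaSh.IsUniversal d)
    {N : Z.Modules} {α β : (Scheme.Modules.pullback h).obj Ω ⟶ N}
    (e : ∀ (U : X.Opens) (s : Γ(X, U)), α.app (h ⁻¹ᵁ U) (OmegaSh.pullSect h Ω U (d.app U s)) =
      β.app (h ⁻¹ᵁ U) (OmegaSh.pullSect h Ω U (d.app U s))) : α = β := by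
  apply ((Scheme.Modules.pullbackPushforwardAdjunction h).homEquiv _ _).injective
  rw [Adjunction.homEquiv_unit, Adjunction.homEquiv_unit]
  exact hom_ext_of_isUniversal hd fun U s => e U s

/-- The splitting data of the conormal sequence of an immersion with a left inverse. -/
theorem exists_splitting {i : Z ⟶ X} [QuasiCompact i] {g : X ⟶ Z} {f : X ⟶ S} (hgi : i ≫ g = 𝟙 Z)
    (hgS : g ≫ i ≫ f = f) {ΩX : X.Modules} {dX : OmegaSh.Der f ΩX} (hX : OmegaSh.IsUniversal dX)
    {ΩZ : Z.Modules} {dZ : OmegaSh.Der (i ≫ f) ΩZ} (hZ : OmegaSh.IsUniversal dZ)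
    {φ : Omega.conormal i ⟶ (Scheme.Modules.pullback i).obj ΩX} (hφ : OmegaSh.IsConormalDiff i dX φ)
    {c : (Scheme.Modules.pullback i).obj ΩX ⟶ ΩZ} (hc : OmegaSh.IsDiffCompat i dX dZ c) :
    φ ≫ c = 0 ∧ ∃ (r : (Scheme.Modules.pullback i).obj ΩX ⟶ Omega.conormal i)
      (σ : ΩZ ⟶ (Scheme.Modules.pullback i).obj ΩX), φ ≫ r = 𝟙 _ ∧ σ ≫ c = 𝟙 _ ∧ r ≫ φ + c ≫ σ = 𝟙 _ := by
  let P := (Scheme.Modules.pullback i).obj ΩX
  let C := Omega.conormal i
  obtain ⟨D, hD⟩ := exists_retrDer (f := f) hgi hgS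
  obtain ⟨α, hα, -⟩ := hX _ D
  let r : P ⟶ C := ((Scheme.Modules.pullbackPushforwardAdjunction i).homEquiv _ _).symm α
  have hr : ∀ (U : X.Opens) (a : Γ(X, U)), r.app (i ⁻¹ᵁ U) (OmegaSh.pullSect i ΩX U (dX.app U a)) =
      C.presheaf.map (homOfLE (le_retrOpen hgi U)).op
        (OmegaSh.conormalSect i (retrOpen i g U) (retrSect hgi U a)) := fun U a => by
    have h1 : (Scheme.Modules.pullbackPushforwardAdjunction i).unit.app _ ≫
        (Scheme.Modules.pushforward i).map r = α :=
      ((Scheme.Modules.pullbackPushforwardAdjunction i).homEquiv_unit _ _ r).symm.trans (Equiv.apply_symm_apply _ α)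
    refine (congr(($h1).app U (dX.app U a))).trans ?_
    rw [← hD U a, ← hα]
    rfl
  have hW : ∀ W : Z.Opens, W ≤ i ⁻¹ᵁ (g ⁻¹ᵁ W) := fun W z hz => by
    show g (i z) ∈ W
    rw [show g (i z) = z from congrArg (fun m : Z ⟶ Z => m z) hgi]; exact hz
  let e2 : ∀ W : Z.Opens, Γ(Z, W) →+ Γ(P, W) := fun W =>
    ((P.presheaf.map (homOfLE (hW W)).op).hom.comp (OmegaSh.pullSect i ΩX (g ⁻¹ᵁ W)).hom).comp
      ((dX.app (g ⁻¹ᵁ W)).comp (g.app W).hom.toAddMonoidHom)
  have he2 : ∀ W a, e2 W a = P.presheaf.map (homOfLE (hW W)).op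
      (OmegaSh.pullSect i ΩX (g ⁻¹ᵁ W) (dX.app (g ⁻¹ᵁ W) (g.app W a))) := fun _ _ => rfl
  have hsc : ∀ (W : Z.Opens) (a : Γ(Z, W)), Z.presheaf.map (homOfLE (hW W)).op (i.app (g ⁻¹ᵁ W) (g.app W a)) = a :=
    fun W a => by
      have h1 := appLE_of_eq_id hgi (U := W) (V := W) (hW W) le_rfl a
      rw [Scheme.Hom.appLE, CommRingCat.comp_apply, Scheme.Hom.comp_app, CommRingCat.comp_apply] at h1
      exact h1.trans (congr($(Z.presheaf.map_id _) a))
  let D2 : OmegaSh.Der (i ≫ f) P :=
    { d := fun {W} => e2 W.unop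
      d_mul := fun {W} a b => by
        show e2 W.unop (a * b) = _
        rw [he2, map_mul, app_mul, map_add, PrinLib.pullSect_smul, PrinLib.pullSect_smul, map_add,
          Scheme.Modules.map_smul, Scheme.Modules.map_smul, hsc, hsc]
        rfl
      d_map := fun {W W'} h a => by
        show e2 W'.unop (Z.presheaf.map h a) = P.presheaf.map h (e2 W.unop a)
        rw [he2, he2]
        have h1 := congr($(g.naturality h) a)
        simp only [CommRingCat.comp_apply] at h1
        have h2 := congr($(((Scheme.Modules.pullbackPushforwardAdjunction i).unit.app ΩX).mapPresheaf.naturality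
          ((Opens.map g.base).map h.unop).op) (dX.app (g ⁻¹ᵁ W.unop) (g.app W.unop a)))
        rw [h1, show dX.app (g ⁻¹ᵁ W'.unop) (X.presheaf.map ((Opens.map g.base).map h.unop).op (g.app W.unop a)) =
          ΩX.presheaf.map ((Opens.map g.base).map h.unop).op (dX.app (g ⁻¹ᵁ W.unop) (g.app W.unop a)) from
            dX.d_map _ _]
        refine (congrArg _ h2).trans ?_
        show P.presheaf.map _ (P.presheaf.map _ _) = P.presheaf.map _ (P.presheaf.map _ _)
        rw [← Functor.map_comp_apply, ← Functor.map_comp_apply]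
        rfl
      d_app := fun {V} b => by
        show e2 _ ((i ≫ f).app V.unop b) = 0
        rw [he2]
        have h0 : ∀ m : X ⟶ S, m = f → dX.app (m ⁻¹ᵁ V.unop) (m.app V.unop b) = 0 := by
          rintro m rfl; exact app_app dX _ _
        have h1 := h0 _ hgS
        rw [Scheme.Hom.comp_app, CommRingCat.comp_apply] at h1
        exact ((congrArg (fun t => P.presheaf.map (homOfLE (hW ((i ≫ f) ⁻¹ᵁ V.unop))).op (OmegaSh.pullSect i ΩX _ t))
          h1)).trans (by rw [map_zero, map_zero]) }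
  obtain ⟨σ, hσ, -⟩ := hZ _ D2
  have hσ' : ∀ (W : Z.Opens) (a : Γ(Z, W)), σ.app W (dZ.app W a) = e2 W a := fun W a => by
    show _ = D2.app W a
    rw [← hσ]; rfl
  have nat : ∀ {M N : Z.Modules} (q : M ⟶ N) {A B : Z.Opens} (h : B ≤ A) (m : Γ(M, A)),
      N.presheaf.map (homOfLE h).op (q.app A m) = q.app B (M.presheaf.map (homOfLE h).op m) :=
    fun q A B h m => congr($(q.mapPresheaf.naturality (homOfLE h).op) m).symm
  refine ⟨hom_ext_pullSect i fun U s => ?_, r, σ, hom_ext_pullSect i fun U s => ?_,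
    hom_ext_of_isUniversal hZ fun W a => ?_, hom_ext_pull_der i hX fun U a => ?_⟩
  · show c.app _ (φ.app _ (OmegaSh.conormalSect i U s)) = 0
    rw [hφ, hc, app_idealSect_eq_zero, map_zero]
  · show r.app _ (φ.app _ (OmegaSh.conormalSect i U s)) = OmegaSh.conormalSect i U s
    rw [hφ, hr]
    have h0 : retrSect hgi U (OmegaSh.idealSect i.ker U s) =
        (ClSub.idealMod i.ker).presheaf.map (homOfLE (inf_le_left : retrOpen i g U ≤ U)).op s := by
      apply idealSect_injective i.ker
      rw [idealSect_retrSect, idealSect_map]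
      show _ - g.appLE _ _ _ (i.app U _) = _
      rw [app_idealSect_eq_zero, map_zero, sub_zero]
      rfl
    rw [h0]
    refine (conormalSect_map i (inf_le_left : retrOpen i g U ≤ U) s _ _ le_rfl).trans ?_
    exact congr($((Omega.conormal i).presheaf.map_id _) _)
  · show c.app W (σ.app W (dZ.app W a)) = dZ.app W a
    rw [hσ', he2, ← nat c, hc, ← app_map dZ, hsc]
  · show φ.app _ (r.app _ _) + σ.app _ (c.app _ _) = OmegaSh.pullSect i ΩX U (dX.app U a)
    rw [hr, ← nat φ, hφ, idealSect_retrSect, hc, hσ', map_sub, map_sub, map_sub, he2]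
    have hres : P.presheaf.map (homOfLE (le_retrOpen hgi U)).op
        (OmegaSh.pullSect i ΩX (retrOpen i g U) (dX.app _ (retrRes i g U a))) =
          OmegaSh.pullSect i ΩX U (dX.app U a) := by
      have h2 := congr($(((Scheme.Modules.pullbackPushforwardAdjunction i).unit.app ΩX).mapPresheaf.naturality
        (homOfLE (inf_le_left : retrOpen i g U ≤ U)).op) (dX.app U a))
      rw [show dX.app _ (retrRes i g U a) = ΩX.presheaf.map (homOfLE (inf_le_left : retrOpen i g U ≤ U)).op
        (dX.app U a) from app_map dX _ a]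
      refine (congrArg _ h2).trans ?_
      show P.presheaf.map _ (P.presheaf.map _ _) = _
      rw [← Functor.map_comp_apply]
      exact (congrArg (fun e => P.presheaf.map e _) (Subsingleton.elim _ (𝟙 (op (i ⁻¹ᵁ U))))).trans
        (congr($(P.presheaf.map_id _) _))
    have hgi' : P.presheaf.map (homOfLE (le_retrOpen hgi U)).op
        (OmegaSh.pullSect i ΩX (retrOpen i g U) (dX.app _ (retrMap i g U a))) =
        P.presheaf.map (homOfLE (hW (i ⁻¹ᵁ U))).op
          (OmegaSh.pullSect i ΩX (g ⁻¹ᵁ (i ⁻¹ᵁ U)) (dX.app _ (g.app _ (i.app U a)))) := by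
      have h2 := congr($(((Scheme.Modules.pullbackPushforwardAdjunction i).unit.app ΩX).mapPresheaf.naturality
        (homOfLE (inf_le_right : retrOpen i g U ≤ g ⁻¹ᵁ (i ⁻¹ᵁ U))).op) (dX.app _ (g.app _ (i.app U a))))
      rw [show retrMap i g U a = X.presheaf.map (homOfLE (inf_le_right : retrOpen i g U ≤ g ⁻¹ᵁ (i ⁻¹ᵁ U))).op
        (g.app _ (i.app U a)) from rfl, app_map dX]
      refine (congrArg _ h2).trans ?_
      show P.presheaf.map _ (P.presheaf.map _ _) = _
      rw [← Functor.map_comp_apply]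
      rfl
    rw [hres, hgi']
    exact sub_add_cancel _ _

end Groth.Agent.Omega15
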