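import Groth.Prelude.Def_Omega3
import Groth.Agent.Omega15.ConormalExist
import Groth.Agent.Omega15.ConormalSeq
import Groth.Agent.Thick15.OmegaPullback
import Groth.Agent.S9372

/-!
# Local retractions of universal thickenings along formally smooth morphisms
-/

set_option autoImplicit false
set_option backward.isDefEq.respectTransparency.types false
set_option backward.isDefEq.respectTransparency false
set_option linter.style.haveILetI false
universe u

open CategoryTheory CategoryTheory.Limits AlgebraicGeometry TopologicalSpace Opposite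
open scoped TensorProduct

noncomputable section

namespace Groth.Agent.Omega15

open OmegaLib Thick15

variable {Z X Y Z' Z'' : Scheme.{u}}

/-- Formal smoothness lifts along affine first order thickenings. -/
theorem exists_lift_of_isFormallySmoothHom {p : X ⟶ Y} (hp : MoreMor.IsFormallySmoothHom p)
    {T T' : Scheme.{u}} [IsAffine T'] {t : T ⟶ T'} (ht : MoreMor.IsFirstOrderThickening t)
    (a : T ⟶ X) (b : T' ⟶ Y) (w : t ≫ b = a ≫ p) : ∃ l : T' ⟶ X, t ≫ l = a ∧ l ≫ p = b := by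
  haveI := ht.1.1
  obtain ⟨hT, hsur⟩ := IsClosedImmersion.isAffine_surjective_of_isAffine t
  let A : CommRingCat.{u} := Γ(T', ⊤)
  let I : Ideal A := RingHom.ker t.appTop.hom
  have hI : I ^ 2 = ⊥ := appTop_ker_sq ht
  let e : CommRingCat.of (A ⧸ I) ≅ Γ(T, ⊤) :=
    (RingHom.quotientKerEquivOfSurjective hsur).toCommRingCatIso
  have he : CommRingCat.ofHom (Ideal.Quotient.mk I) ≫ e.hom = t.appTop := by
    ext x; exact RingHom.quotientKerEquivOfSurjective_apply_mk hsur x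
  have hsq : Spec.map t.appTop ≫ T'.isoSpec.inv = T.isoSpec.inv ≫ t :=
    (Scheme.isoSpec_inv_naturality t)
  obtain ⟨l, hl₁, hl₂⟩ := hp A I hI (Spec.map e.inv ≫ T.isoSpec.inv ≫ a) (T'.isoSpec.inv ≫ b) (by
    rw [Category.assoc, Category.assoc, ← w, ← Category.assoc _ t, ← hsq, Category.assoc, ← Spec.map_comp_assoc,
      ← he, Category.assoc, Iso.hom_inv_id, Category.comp_id])
  refine ⟨T'.isoSpec.hom ≫ l, ?_, by rw [Category.assoc, hl₂, Iso.hom_inv_id_assoc]⟩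
  rw [← cancel_epi T.isoSpec.inv, ← cancel_epi (Spec.map e.inv), ← Category.assoc T.isoSpec.inv, ← hsq,
    Category.assoc, Iso.inv_hom_id_assoc, ← Spec.map_comp_assoc, ← he, Category.assoc, Iso.hom_inv_id,
    Category.comp_id, hl₁]

/-- The retraction of `k` near a point. -/
theorem exists_retraction {i : Z ⟶ X} {p : X ⟶ Y} (hp : MoreMor.IsFormallySmoothHom p)
    {i' : Z ⟶ Z'} {a : Z' ⟶ X} (hZ' : OmegaSh.IsUnivThickening i i' a)
    {i'' : Z ⟶ Z''} {b : Z'' ⟶ Y} (hZ'' : OmegaSh.IsUnivThickening (i ≫ p) i'' b)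
    {k : Z' ⟶ Z''} (hk₁ : i' ≫ k = i'') (hk₂ : k ≫ b = a ≫ p) (z : Z) :
    ∃ (V'' : Z''.Opens) (t : ((i'' ⁻¹ᵁ V'' : Z.Opens) : Scheme.{u}) ⟶ V'') (r : (V'' : Scheme.{u}) ⟶ Z'),
      i'' z ∈ V'' ∧ IsPullback t (i'' ⁻¹ᵁ V'').ι (Scheme.Opens.ι V'') i'' ∧ MoreMor.IsFirstOrderThickening t ∧
        (i'' ⁻¹ᵁ V'').ι ≫ i' = t ≫ r ∧ r ≫ k = Scheme.Opens.ι V'' := by
  obtain ⟨V'', hV, hz, -⟩ := Opens.isBasis_iff_nbhd.mp Z''.isBasis_affineOpens (Opens.mem_top (i'' z))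
  haveI : IsAffine (V'' : Scheme.{u}) := hV
  let V : Z.Opens := i'' ⁻¹ᵁ V''
  let t : (V : Scheme.{u}) ⟶ V'' := i''.resLE V'' V le_rfl
  have sq : IsPullback t V.ι (Scheme.Opens.ι V'') i'' := isPullback_resLE_of_eq i'' rfl
  have ht := isFirstOrderThickening_of_isPullback sq hZ''.1
  obtain ⟨l, hl₁, hl₂⟩ := exists_lift_of_isFormallySmoothHom hp ht (V.ι ≫ i) ((Scheme.Opens.ι V'') ≫ b)
    (by rw [← Category.assoc, sq.w, Category.assoc, hZ''.2.1, Category.assoc])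
  obtain ⟨r, ⟨hr₁, hr₂⟩, -⟩ := hZ'.2.2 V V'' t l V.ι ht hl₁
  obtain ⟨r', -, hu⟩ := hZ''.2.2 V V'' t ((Scheme.Opens.ι V'') ≫ b) V.ι ht (by rw [← Category.assoc, sq.w, Category.assoc, hZ''.2.1])
  refine ⟨V'', t, r, hz, sq, ht, hr₁.symm, ?_⟩
  refine (hu (r ≫ k) ⟨?_, ?_⟩).trans (hu (Scheme.Opens.ι V'') ⟨sq.w, rfl⟩).symm
  · rw [← Category.assoc, hr₁, Category.assoc, hk₁]
  · rw [Category.assoc, hk₂, ← Category.assoc, hr₂, hl₂]

variable {W : Scheme.{u}}

theorem exists_pullP (f : W ⟶ Z) (M : Z.Modules) (v : W) :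
    ∃ P : (DerSch.stalkFunctor Z (f v)).obj M →+ (DerSch.stalkFunctor W v).obj ((Scheme.Modules.pullback f).obj M),
      ∀ (U : Z.Opens) (hz : f v ∈ U) (s : Γ(M, U)),
        P (gm _ U (f v) hz s) = gm _ (f ⁻¹ᵁ U) v hz (OmegaSh.pullSect f M U s) := by
  letI := (f.stalkMap v).hom.toAlgebra
  obtain ⟨E, hE⟩ := exists_pullback_stalk_equiv f M v
  exact ⟨AddMonoidHom.mk' (fun m => E (1 ⊗ₜ m)) fun m m' =>
    (congrArg E (TensorProduct.tmul_add _ _ _)).trans (map_add E _ _), fun U hU s => hE U hU s⟩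

theorem pullP_naturality {M N : Z.Modules} (φ : M ⟶ N) (f : W ⟶ Z) (v : W)
    {P : (DerSch.stalkFunctor Z (f v)).obj M →+ (DerSch.stalkFunctor W v).obj ((Scheme.Modules.pullback f).obj M)}
    (hP : ∀ (U : Z.Opens) (hz : f v ∈ U) (s : Γ(M, U)),
      P (gm _ U (f v) hz s) = gm _ (f ⁻¹ᵁ U) v hz (OmegaSh.pullSect f M U s))
    {Q : (DerSch.stalkFunctor Z (f v)).obj N →+ (DerSch.stalkFunctor W v).obj ((Scheme.Modules.pullback f).obj N)}
    (hQ : ∀ (U : Z.Opens) (hz : f v ∈ U) (s : Γ(N, U)),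
      Q (gm _ U (f v) hz s) = gm _ (f ⁻¹ᵁ U) v hz (OmegaSh.pullSect f N U s))
    (m : (DerSch.stalkFunctor Z (f v)).obj M) :
    (DerSch.stalkFunctor W v).map ((Scheme.Modules.pullback f).map φ) (P m) =
      Q ((DerSch.stalkFunctor Z (f v)).map φ m) := by
  obtain ⟨U, hU, s, rfl⟩ := exists_gm _ m
  rw [hP, map_gm, map_gm, hQ, Thick15.pullSect_naturality]

theorem tm_injective_of_isOpenImmersion (f : W ⟶ Z) [IsOpenImmersion f] {v : W} {y : Z} (h : f v = y) :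
    Function.Injective (tm f h) := by
  subst h
  rw [tm_self]
  exact (ConcreteCategory.bijective_of_isIso _).1

/-- The value of `C'' → C'` on classes. -/
theorem pi_conormal_unit {i' : Z ⟶ Z'} {i'' : Z ⟶ Z''} {k : Z' ⟶ Z''} [IsImmersion i'] [QuasiCompact i']
    [IsImmersion i''] [QuasiCompact i''] {ψ : (Scheme.Modules.pullback (𝟙 Z)).obj (Omega.conormal i'') ⟶ Omega.conormal i'}
    (hψ : OmegaSh.IsConormalMap i' i'' k (𝟙 Z) ψ) (z : Z) {y' : Z'} (hy : i' z = y') {y'' : Z''} (hy' : k y' = y'')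
    (hwy : i'' z = y'')
    {π : RingHom.ker (tm i' hy).hom →+ (DerSch.stalkFunctor Z z).obj (Omega.conormal i')} (hπ : IsPi i' z hy π)
    {π' : RingHom.ker (tm i'' hwy).hom →+ (DerSch.stalkFunctor Z z).obj (Omega.conormal i'')} (hπ' : IsPi i'' z hwy π')
    (x : RingHom.ker (tm i'' hwy).hom) :
    (DerSch.stalkFunctor Z z).map ((Scheme.Modules.pullbackId Z).inv.app (Omega.conormal i'') ≫ ψ) (π' x) =
      π ⟨(tm k hy') x.1, tm_mem_ker hψ.1 z hy hy' hwy x.2⟩ := by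
  obtain ⟨P, -, hP⟩ := exists_pullId (Omega.conormal i'') z
  have h1 : ∀ m, (DerSch.stalkFunctor Z z).map ((Scheme.Modules.pullbackId Z).inv.app (Omega.conormal i'')) m = P m := by
    intro m
    obtain ⟨U, hU, s, rfl⟩ := exists_gm _ m
    refine (map_gm _ _ _ _).trans (Eq.trans ?_ (hP U hU s).symm)
    exact congrArg (gm _ U z hU) (pullbackId_inv_app (Omega.conormal i'') U s)
  rw [Functor.map_comp]
  show (DerSch.stalkFunctor Z z).map ψ ((DerSch.stalkFunctor Z z).map _ (π' x)) = _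
  refine (congrArg _ (h1 _)).trans ?_
  exact pi_conormalMap hψ z hy hy' hwy hπ hπ' hP x

theorem exists_local_retract {i' : Z ⟶ Z'} {i'' : Z ⟶ Z''} {k : Z' ⟶ Z''} [IsImmersion i'] [QuasiCompact i']
    [IsImmersion i''] [QuasiCompact i''] {ψ : (Scheme.Modules.pullback (𝟙 Z)).obj (Omega.conormal i'') ⟶ Omega.conormal i'}
    (hψ : OmegaSh.IsConormalMap i' i'' k (𝟙 Z) ψ) {V'' : Z''.Opens}
    {t : ((i'' ⁻¹ᵁ V'' : Z.Opens) : Scheme.{u}) ⟶ V''} {r : (V'' : Scheme.{u}) ⟶ Z'}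
    (sq : IsPullback t (i'' ⁻¹ᵁ V'').ι V''.ι i'') (ht : MoreMor.IsFirstOrderThickening t)
    (hr₁ : (i'' ⁻¹ᵁ V'').ι ≫ i' = t ≫ r) (hr₂ : r ≫ k = V''.ι) :
    ∃ R : (Scheme.Modules.restrictFunctor (i'' ⁻¹ᵁ V'').ι).obj (Omega.conormal i') ⟶
        (Scheme.Modules.restrictFunctor (i'' ⁻¹ᵁ V'').ι).obj ((Scheme.Modules.pullback (𝟙 Z)).obj (Omega.conormal i'')),
      (Scheme.Modules.restrictFunctor (i'' ⁻¹ᵁ V'').ι).map ψ ≫ R = 𝟙 _ := by
  let V : Z.Opens := i'' ⁻¹ᵁ V''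
  haveI := ht.1.1
  obtain ⟨ρ, hρ⟩ := exists_conormalMap hr₁
  obtain ⟨θ, hθ⟩ := exists_conormalMap (i := t) (i' := i'') (g := V''.ι) (gZ := V.ι) sq.w.symm
  haveI : IsIso θ := (S9372.result t i'' V''.ι V.ι sq θ hθ).2 inferInstance
  let ψ' := (Scheme.Modules.pullbackId Z).inv.app (Omega.conormal i'') ≫ ψ
  have hcomp : (Scheme.Modules.pullback V.ι).map ψ' ≫ ρ = θ := by
    refine hom_ext_pull_conormal fun U'' s'' v hv => ?_
    have py : i'' (V.ι v) = V''.ι (t v) := congrArg (fun f : (V : Scheme.{u}) ⟶ Z'' => f v) sq.w.symm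
    have py' : i' (V.ι v) = r (t v) := congrArg (fun f : (V : Scheme.{u}) ⟶ Z' => f v) hr₁
    have pk : k (r (t v)) = V''.ι (t v) := congrArg (fun f : (V'' : Scheme.{u}) ⟶ Z'' => f (t v)) hr₂
    obtain ⟨π'', hπ''⟩ := exists_pi i'' (V.ι v) (y := V''.ι (t v)) py
    obtain ⟨π', hπ'⟩ := exists_pi i' (V.ι v) (y := r (t v)) py'
    obtain ⟨πt, hπt⟩ := exists_pi t v (y := t v) rfl
    obtain ⟨P, hP⟩ := exists_pullP V.ι (Omega.conormal i'') v
    obtain ⟨Q, hQ⟩ := exists_pullP V.ι (Omega.conormal i') v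
    have hU : V''.ι (t v) ∈ U'' := py ▸ hv
    have hx := germ_idealSect_mem i'' (V.ι v) py U'' hU s''
    rw [← hP (i'' ⁻¹ᵁ U'') hv, ← hπ''.2.2.2 U'' hU s'' hx, Functor.map_comp]
    show (DerSch.stalkFunctor _ v).map ρ ((DerSch.stalkFunctor _ v).map ((Scheme.Modules.pullback V.ι).map ψ') (P _)) = _
    refine (congrArg ((DerSch.stalkFunctor _ v).map ρ) ((pullP_naturality ψ' V.ι v hP hQ _).trans
      (congrArg Q (pi_conormal_unit hψ (V.ι v) py' pk py hπ' hπ'' _)))).trans ?_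
    refine (pi_conormalMap hρ v rfl rfl py' hπt hπ' hQ _).trans
      (Eq.trans ?_ (pi_conormalMap hθ v rfl rfl py hπt hπ'' hP _).symm)
    exact congrArg πt (Subtype.ext (congr($(tm_factor hr₂ (x := t v) rfl pk rfl) _)))
  let e := Scheme.Modules.restrictFunctorIsoPullback V.ι
  refine ⟨e.hom.app _ ≫ ρ ≫ inv θ ≫
    (Scheme.Modules.pullback V.ι).map ((Scheme.Modules.pullbackId Z).inv.app (Omega.conormal i'')) ≫ e.inv.app _, ?_⟩
  rw [← Category.assoc]
  rw [e.hom.naturality ψ, Category.assoc]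
  have hψ' : ψ = (Scheme.Modules.pullbackId Z).hom.app (Omega.conormal i'') ≫ ψ' := by
    rw [Iso.hom_inv_id_app_assoc]
  rw [hψ', Functor.map_comp]
  simp only [Category.assoc]
  rw [← Category.assoc ((Scheme.Modules.pullback V.ι).map ψ'), hcomp, IsIso.hom_inv_id_assoc, ← Functor.map_comp_assoc,
    Iso.hom_inv_id_app, CategoryTheory.Functor.map_id]
  erw [Category.id_comp, Iso.hom_inv_id_app]

end Groth.Agent.Omega15
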