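import Groth.Prelude.Def_Omega3
import Groth.Prelude.Def_RegImm
import Groth.Agent.Omega15.ThickRetract
import Groth.Agent.Omega15.ConormalSmooth
import Groth.Agent.OmegaLib.LocFree
import Groth.Agent.Thick15.Glue
import Groth.Agent.PrinLib.Generate
import Groth.Agent.OmegaLib.GrBaseChange
import Groth.Agent.CAlgH.KoszulRegular
import Groth.Agent.MorProj.OmegaAffine
import Groth.Agent.Coherent.CohBC.LocalModules
import Groth.Agent.DQCoh.BettiRank
import Groth.Agent.FlatMorKoszul.Basic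

/-!
# The conormal sheaf of an unramified local complete intersection
-/

set_option autoImplicit false
set_option backward.isDefEq.respectTransparency.types false
set_option backward.isDefEq.respectTransparency false
set_option linter.style.haveILetI false
universe u

open CategoryTheory CategoryTheory.Limits AlgebraicGeometry TopologicalSpace Opposite
open scoped TensorProduct

noncomputable section

namespace Groth.Agent.Omega15

open OmegaLib Thick15

variable {Z P : Scheme.{u}}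

theorem isQCoh_conormal {W : Scheme.{u}} (j : Z ⟶ W) : Coh.IsQCoh (Omega.conormal j) :=
  haveI := MorProj.isQCoh_idealMod j.ker
  EGA43.InjFibre.isQCoh_pullback j (ClSub.idealMod j.ker)

/-- A retract of a finite locally free module is finite locally free. -/
theorem isFinLocFree_of_retract {M N : Z.Modules} [Coh.IsQCoh M] (hN : FlatMod.IsFinLocFree N)
    (s : M ⟶ N) (r : N ⟶ M) (h : s ≫ r = 𝟙 M) : FlatMod.IsFinLocFree M := by
  have key : ∀ x : Z, ∃ W : Z.Opens, IsAffineOpen W ∧ x ∈ W ∧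
      Module.Finite Γ(Z, W) Γ(M, W) ∧ Module.Projective Γ(Z, W) Γ(M, W) := by
    intro x
    obtain ⟨U, n, hxU, ⟨e⟩⟩ := hN x
    obtain ⟨W, hW, hxW, hWU⟩ := Opens.isBasis_iff_nbhd.mp Z.isBasis_affineOpens hxU
    obtain ⟨b⟩ := Props12.exists_basis_sections e hWU
    haveI : Module.Free Γ(Z, W) Γ(N, W) := .of_basis b
    haveI : Module.Finite Γ(Z, W) Γ(N, W) := Module.Finite.of_basis b
    have hrs : (Coherent.appLin r W).comp (Coherent.appLin s W) = LinearMap.id :=
      LinearMap.ext fun m => congr(($h).app W m)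
    exact ⟨W, hW, hxW, Module.Finite.of_surjective (Coherent.appLin r W) fun m => ⟨_, LinearMap.congr_fun hrs m⟩,
      Module.Projective.of_split (Coherent.appLin s W) (Coherent.appLin r W) hrs⟩
  choose W hW hxW hfin hproj using key
  have hfp : CohB1.IsFP M := EGA43.FPKernel.isFP_of_forall_exists_affine M fun x =>
    ⟨W x, hW x, hxW x, by haveI := hfin x; haveI := hproj x; exact Module.finitePresentation_of_projective _ _⟩
  refine Props12.isFinLocFree_of_isFP_of_free_stalks M hfp fun x => ?_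
  haveI := hfin x
  haveI := hproj x
  haveI : Module.Flat (Z.presheaf.stalk x) (M.presheaf.stalk x) :=
    Props12.flat_stalk_of_flat_sections M (hW x) (hxW x)
  haveI : Module.Finite (Z.presheaf.stalk x) (M.presheaf.stalk x) :=
    haveI := hfp
    Props12.finite_stalk_of_isFT M (inferInstanceAs (SheafOfModules.IsFiniteType.{u} (R := Z.ringCatSheaf) M)) x
  exact Module.free_of_flat_of_isLocalRing

/-- The closed subscheme of the squared ideal is a universal first order thickening. -/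
theorem isUnivThickening_sq (I : P.IdealSheafData) (h : I ^ 2 ≤ I) :
    OmegaSh.IsUnivThickening I.subschemeι (Scheme.IdealSheafData.inclusion h) (I ^ 2).subschemeι := by
  have hι : ∀ {A : Scheme.{u}} (J : A.IdealSheafData), J.comap J.subschemeι = ⊥ := fun J => by
    refine le_antisymm ?_ bot_le
    rw [← Scheme.IdealSheafData.le_map_iff_comap_le, Scheme.IdealSheafData.map_bot, Scheme.IdealSheafData.ker_subschemeι]
  refine ⟨⟨⟨inferInstance, ⟨fun x => ?_⟩⟩, ?_⟩, Scheme.IdealSheafData.inclusion_subschemeι h, fun T T' j b a hj hjb => ?_⟩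
  · have hx : (I ^ 2).subschemeι x ∈ Set.range I.subschemeι := by
      rw [Scheme.IdealSheafData.range_subschemeι, ← Scheme.IdealSheafData.support_pow I 2 two_ne_zero,
        ← Scheme.IdealSheafData.range_subschemeι]
      exact ⟨x, rfl⟩
    obtain ⟨w, hw⟩ := hx
    refine ⟨w, (I ^ 2).subschemeι.isEmbedding.injective ?_⟩
    rw [← Scheme.Hom.comp_apply, Scheme.IdealSheafData.inclusion_subschemeι]
    exact hw
  · have e : (Scheme.IdealSheafData.inclusion h).ker.map (I ^ 2).subschemeι = I := by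
      rw [Scheme.IdealSheafData.map_ker, Scheme.IdealSheafData.inclusion_subschemeι, Scheme.IdealSheafData.ker_subschemeι]
    have hle : (Scheme.IdealSheafData.inclusion h).ker ≤ I.comap (I ^ 2).subschemeι :=
      (PrinLib.le_comap_map _ _).trans_eq (congrArg (fun J => Scheme.IdealSheafData.comap J _) e)
    refine le_antisymm ?_ bot_le
    refine (mul_le_mul' hle hle).trans ?_
    rw [← FSchLib.comap_mul, ← pow_two, hι]
  · have hI : I.comap b ≤ j.ker := by
      rw [← Scheme.IdealSheafData.le_map_iff_comap_le, Scheme.IdealSheafData.map_ker, hjb]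
      exact (Scheme.IdealSheafData.ker_subschemeι I).ge.trans (Scheme.Hom.le_ker_comp a I.subschemeι)
    have hker : (I ^ 2).subschemeι.ker ≤ b.ker := by
      rw [Scheme.IdealSheafData.ker_subschemeι, ← Scheme.IdealSheafData.map_bot b,
        Scheme.IdealSheafData.le_map_iff_comap_le, FSchLib.comap_pow, pow_two]
      exact (mul_le_mul' hI hI).trans hj.2.le
    refine ⟨IsClosedImmersion.lift (I ^ 2).subschemeι b hker, ⟨?_, IsClosedImmersion.lift_fac _ _ _⟩, fun c hc => ?_⟩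
    · rw [← cancel_mono (I ^ 2).subschemeι, Category.assoc, IsClosedImmersion.lift_fac, Category.assoc,
        Scheme.IdealSheafData.inclusion_subschemeι, hjb]
    · rw [← cancel_mono (I ^ 2).subschemeι, IsClosedImmersion.lift_fac, hc.2]

theorem ker_tm_eq_map {A B : Scheme.{u}} (f : A ⟶ B) [IsClosedImmersion f] {p : A} {y : B} (hy : f p = y)
    {V : B.Opens} (hV : IsAffineOpen V) (hyV : y ∈ V) :
    RingHom.ker (tm f hy).hom = (f.ker.ideal ⟨V, hV⟩).map (B.presheaf.germ V y hyV).hom := by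
  subst hy
  rw [tm_self]
  exact (map_germ_eq_ker f p hV hyV).symm

theorem tm_surjective {A B : Scheme.{u}} (f : A ⟶ B) [IsImmersion f] {p : A} {y : B} (hy : f p = y) :
    Function.Surjective (tm f hy).hom := by
  subst hy
  rw [tm_self]
  exact f.stalkMap_surjective p

/-- The conormal sheaf of a closed immersion agrees with that of its first order neighbourhood. -/
theorem isIso_conormalMap_sq {e : Z ⟶ P} [IsClosedImmersion e] {Z' : Scheme.{u}} {i' : Z ⟶ Z'}
    (hi : MoreMor.IsFirstOrderThickening i') {a : Z' ⟶ P} [IsClosedImmersion a]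
    (ha : a.ker = e.ker ^ 2) {ψ : (Scheme.Modules.pullback (𝟙 Z)).obj (Omega.conormal e) ⟶ Omega.conormal i'}
    (hψ : OmegaSh.IsConormalMap i' e a (𝟙 Z) ψ) : IsIso ψ := by
  haveI := hi.1.1
  have hea : i' ≫ a = e := by rw [← hψ.1, Category.id_comp]
  have main : ∀ z, Function.Injective ((DerSch.stalkFunctor Z z).map ψ) ∧
      Function.Surjective ((DerSch.stalkFunctor Z z).map ψ) := by
    intro z
    have hwy : e z = a (i' z) := congrArg (fun f : Z ⟶ P => f z) hea.symm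
    obtain ⟨π', hπ'⟩ := exists_pi i' z (y := i' z) rfl
    obtain ⟨π, hπ⟩ := exists_pi e ((𝟙 Z : Z ⟶ Z) z) (y := a (i' z)) hwy
    obtain ⟨Q, hQs, hQ⟩ := exists_pullId (Omega.conormal e) z
    have hval := fun x => pi_conormalMap hψ z (y := i' z) rfl (y' := a (i' z)) rfl hwy hπ' hπ hQ x
    refine ⟨(injective_iff_map_eq_zero _).2 fun v hv => ?_, fun v => ?_⟩
    · obtain ⟨m, rfl⟩ := hQs v
      obtain ⟨x, rfl⟩ := hπ.1 m
      replace hv := (hval x).symm.trans hv
      have h2 : (tm a (x := i' z) rfl) x.1 ∈ RingHom.ker (tm i' (x := z) rfl).hom ^ 2 := (hπ'.2.1 _).1 hv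
      rw [tm_self i' z, ker_stalkMap_sq hi z, Ideal.mem_bot] at h2
      obtain ⟨V, hV, hyV, -⟩ := Opens.isBasis_iff_nbhd.mp P.isBasis_affineOpens (Opens.mem_top (a (i' z)))
      have h3 : x.1 ∈ RingHom.ker (tm e hwy).hom ^ 2 := by
        have h4 : x.1 ∈ RingHom.ker (tm a (x := i' z) rfl).hom := h2
        rw [ker_tm_eq_map a rfl hV hyV, ha, Scheme.IdealSheafData.ideal_pow, Pi.pow_apply, Ideal.map_pow,
          ← ker_tm_eq_map e hwy hV hyV] at h4
        exact h4
      exact (congrArg Q ((hπ.2.1 x).2 h3)).trans (map_zero Q)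
    · obtain ⟨⟨x', hx'⟩, rfl⟩ := hπ'.1 v
      obtain ⟨x, rfl⟩ := tm_surjective a (p := i' z) rfl x'
      refine ⟨Q (π ⟨x, ?_⟩), hval ⟨x, _⟩⟩
      rw [RingHom.mem_ker] at hx' ⊢
      exact (congr($(tm_factor hea (x := z) (y := i' z) rfl rfl hwy) x)).symm.trans hx'
  haveI := mono_of_stalks_injective ψ fun z => (main z).1
  haveI := Thick15.epi_of_stalks ψ fun z => (main z).2
  exact isIso_of_mono_of_epi ψ

/-- The conormal sheaf of a Koszul regular closed immersion into an affine scheme is free. -/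
theorem exists_iso_freeMod_conormal (e : Z ⟶ P) [IsClosedImmersion e] [IsAffine P]
    {n : ℕ} (f : Fin n → Γ(P, ⊤)) (hf : CAlgH.KoszulRegular.KReg f)
    (hk : RingHom.ker e.appTop.hom = Ideal.span (Set.range f)) :
    Nonempty (Omega.conormal e ≅ FlatMod.freeMod Z n) := by
  obtain ⟨hZ, hsur⟩ := IsClosedImmersion.isAffine_surjective_of_isAffine e
  haveI := hZ
  haveI := isQCoh_conormal e
  haveI := MorProj.isQCoh_idealMod e.ker
  haveI := AmpleLib.mono_idealModι e.ker
  letI := (e.appLE ⊤ ⊤ le_top).hom.toAlgebra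
  have halg : algebraMap Γ(P, ⊤) Γ(Z, ⊤) = e.appTop.hom := by
    show (e.appLE ⊤ ⊤ le_top).hom = _
    rw [show e.appLE ⊤ ⊤ le_top = e.appTop from Scheme.Hom.appLE_eq_app e (U := ⊤)]
  let I : Ideal Γ(P, ⊤) := RingHom.ker (algebraMap Γ(P, ⊤) Γ(Z, ⊤))
  have hI : Ideal.span (Set.range f) = I := by rw [← hk, ← halg]
  let fI : Fin n → I := fun k => ⟨f k, hI ▸ Ideal.subset_span ⟨k, rfl⟩⟩
  obtain ⟨b, -⟩ := CAlgH.KoszulRegular.exists_basis_cotangent fI hf hI
  let φ : Γ(ClSub.idealMod e.ker, ⊤) →ₗ[Γ(P, ⊤)] Γ(P, ⊤) := Coherent.appLin (ClSub.idealModι e.ker) ⊤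
  have hrange : LinearMap.range φ = I := by
    ext a
    show a ∈ LinearMap.range φ ↔ a ∈ RingHom.ker (algebraMap Γ(P, ⊤) Γ(Z, ⊤))
    rw [halg, show e.appTop = e.app ⊤ from rfl, ← Scheme.Hom.ker_apply e ⟨⊤, isAffineOpen_top P⟩,
      ← e.ker.ker_subschemeι_app ⟨⊤, isAffineOpen_top P⟩, RingHom.mem_ker, LinearMap.mem_range]
    exact AmpleLib.mem_range_idealModι e.ker ⊤ a
  let eI : Γ(ClSub.idealMod e.ker, ⊤) ≃ₗ[Γ(P, ⊤)] I :=
    (LinearEquiv.ofInjective φ (Coherent.app_injective_of_mono (ClSub.idealModι e.ker) ⊤)).trans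
      (LinearEquiv.ofEq _ _ hrange)
  obtain ⟨E⟩ := Flatn12.nonempty_pullback_sections_equiv e (ClSub.idealMod e.ker) (isAffineOpen_top P)
    (isAffineOpen_top Z) le_top
  have hs : Function.Surjective (Algebra.ofId Γ(P, ⊤) Γ(Z, ⊤)) := by
    show Function.Surjective (algebraMap Γ(P, ⊤) Γ(Z, ⊤))
    rw [halg]; exact hsur
  let q : (Γ(P, ⊤) ⧸ I) ≃ₐ[Γ(P, ⊤)] Γ(Z, ⊤) := Ideal.quotientKerAlgEquivOfSurjective (f := Algebra.ofId Γ(P, ⊤) Γ(Z, ⊤)) hs
  let e1 : Γ(Z, ⊤) ⊗[Γ(P, ⊤)] Γ(ClSub.idealMod e.ker, ⊤) ≃ₗ[Γ(P, ⊤)] I.Cotangent :=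
    (TensorProduct.congr q.symm.toLinearEquiv eI).trans (TensorProduct.quotTensorEquivQuotSMul I I)
  let E₀ : Γ(Omega.conormal e, ⊤) ≃+ I.Cotangent := E.symm.toAddEquiv.trans e1.toAddEquiv
  have hsemi : ∀ (c : Γ(Z, ⊤)) (m : Γ(Omega.conormal e, ⊤)), E₀ (c • m) = q.symm c • E₀ m := by
    intro c m
    show e1 (E.symm (c • m)) = q.symm c • e1 (E.symm m)
    rw [map_smul]
    generalize E.symm m = t
    obtain ⟨a, rfl⟩ := hsur c
    rw [show e.appTop a = algebraMap Γ(P, ⊤) Γ(Z, ⊤) a from (congr($halg a)).symm, algebraMap_smul,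
      AlgEquiv.commutes, map_smul]
    rfl
  let bZ : Module.Basis (Fin n) Γ(Z, ⊤) Γ(Omega.conormal e, ⊤) := by
    letI := Module.compHom I.Cotangent q.symm.toRingEquiv.toRingHom
    let L : Γ(Omega.conormal e, ⊤) ≃ₗ[Γ(Z, ⊤)] I.Cotangent :=
      { E₀ with map_smul' := fun c m => hsemi c m }
    exact (b.mapCoeffs q.toRingEquiv fun c m => by
      show q.symm (q c) • m = c • m
      rw [AlgEquiv.symm_apply_apply]).map L.symm
  exact Props12.exists_iso_freeMod_of_basis _ bZ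

/-- A chart of a local complete intersection. -/
theorem exists_koszul_chart {X Y : Scheme.{u}} (f : X ⟶ Y) (x : X) (hf : Synt.IsKoszulAt f x) :
    ∃ (U₀ P₀ : Scheme.{u}) (j : U₀ ⟶ X) (_ : IsOpenImmersion j) (e : U₀ ⟶ P₀) (_ : IsClosedImmersion e)
      (π : P₀ ⟶ Y) (_ : Smooth π) (_ : IsAffine P₀) (n : ℕ) (r : Fin n → Γ(P₀, ⊤)),
      x ∈ j.opensRange ∧ e ≫ π = j ≫ f ∧ CAlgH.KoszulRegular.KReg r ∧
        RingHom.ker e.appTop.hom = Ideal.span (Set.range r) := by
  obtain ⟨U, P, i, π, hxU, -, ⟨-, hi⟩, hπ, hfac⟩ := hf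
  obtain ⟨⟨W, hW⟩, hxW, hc, rs, hrs, hk⟩ := hi ⟨x, hxU⟩
  haveI := hc
  haveI := hπ
  haveI : IsAffine (W : Scheme.{u}) := hW
  let τ : Γ(P, W) →+* Γ((W : Scheme.{u}), ⊤) := W.topIso.inv.hom
  have hrs' : CAlgH.KoszulRegular.KReg (fun k : Fin rs.length => rs.get k) := by
    refine (CAlgH.KoszulRegular.isKoszulRegularSeq_iff _).1 ?_
    rw [List.ofFn_get]; exact hrs
  refine ⟨(i ⁻¹ᵁ W : Scheme.Opens _), (W : Scheme.{u}), (i ⁻¹ᵁ W).ι ≫ U.ι, inferInstance, i ∣_ W, inferInstance,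
    W.ι ≫ π, inferInstance, inferInstance, rs.length, fun k => τ (rs.get k), ⟨⟨⟨x, hxU⟩, hxW⟩, rfl⟩, ?_,
    FlatMorKoszul.kreg_map (RingHom.Flat.of_bijective (ConcreteCategory.bijective_of_isIso W.topIso.inv)) hrs', ?_⟩
  · rw [← Category.assoc, morphismRestrict_ι, Category.assoc, hfac, Category.assoc]
  have key : ∀ {V : P.Opens} (hV : W.ι ''ᵁ ⊤ = V),
      RingHom.ker (i ∣_ W).appTop.hom = (RingHom.ker (i.app V).hom).map (P.presheaf.map (eqToHom hV).op).hom := by
    rintro V rfl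
    show RingHom.ker ((i ∣_ W).app ⊤).hom = _
    rw [morphismRestrict_app, CommRingCat.hom_comp,
      RingHom.ker_comp_of_injective _ (ConcreteCategory.bijective_of_isIso _).1]
    simp
  rw [key (Scheme.Opens.ι_image_top W), hk, Ideal.map_ofList]
  show Ideal.ofList _ = Ideal.span (Set.range fun k => τ (rs.get k))
  rw [Ideal.ofList]
  congr 1
  ext a
  simp only [List.mem_map, Set.mem_setOf_eq, Set.mem_range]
  constructor
  · rintro ⟨c, hc, rfl⟩
    obtain ⟨k, rfl⟩ := List.mem_iff_get.1 hc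
    exact ⟨k, rfl⟩
  · rintro ⟨k, rfl⟩
    exact ⟨rs.get k, List.get_mem _ _, rfl⟩

/-- The conormal sheaf of the universal thickening of a chart is finite locally free. -/
theorem isFinLocFree_conormal_chart {U₀ P₀ Y U' : Scheme.{u}} [IsAffine P₀] (e : U₀ ⟶ P₀) [IsClosedImmersion e]
    (π : P₀ ⟶ Y) [Smooth π] {n : ℕ} (r : Fin n → Γ(P₀, ⊤)) (hr : CAlgH.KoszulRegular.KReg r)
    (hk : RingHom.ker e.appTop.hom = Ideal.span (Set.range r)) {t : U₀ ⟶ U'} {h'' : U' ⟶ Y}
    (hu : OmegaSh.IsUnivThickening (e ≫ π) t h'') : FlatMod.IsFinLocFree (Omega.conormal t) := by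
  have hle : e.ker ^ 2 ≤ e.ker := by rw [pow_two]; exact mul_le_of_le_one_left' le_top
  let i' := e.toImage ≫ Scheme.IdealSheafData.inclusion hle
  let a := (e.ker ^ 2).subschemeι
  have hZ' : OmegaSh.IsUnivThickening e i' a := by
    have h := isUnivThickening_precomp_iso (isUnivThickening_sq e.ker hle) e.toImage
    rwa [show e.toImage ≫ e.ker.subschemeι = e from e.toImage_imageι] at h
  obtain ⟨k, ⟨hk₁, hk₂⟩, -⟩ := hu.2.2 U₀ _ i' (a ≫ π) (𝟙 U₀) hZ'.1
    (by rw [← Category.assoc, hZ'.2.1, Category.id_comp])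
  rw [Category.id_comp] at hk₁
  haveI := hZ'.1.1.1
  haveI := hu.1.1.1
  obtain ⟨ψ, hψ⟩ := exists_conormalMap (i := i') (i' := t) (g := k) (gZ := 𝟙 U₀) (by rw [Category.id_comp, hk₁])
  obtain ⟨θ, hθ⟩ := exists_conormalMap (i := i') (i' := e) (g := a) (gZ := 𝟙 U₀) (by rw [Category.id_comp, hZ'.2.1])
  haveI := isIso_conormalMap_sq hZ'.1 (Scheme.IdealSheafData.ker_subschemeι _) hθ
  obtain ⟨ef⟩ := exists_iso_freeMod_conormal e r hr hk
  let eN : Omega.conormal i' ≅ FlatMod.freeMod U₀ n :=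
    (asIso θ).symm ≪≫ (Scheme.Modules.pullbackId U₀).app _ ≪≫ ef
  intro z
  obtain ⟨V'', t', r', hz, sq, ht, hr₁, hr₂⟩ := exists_retraction (isFormallySmoothHom_of_smooth π) hZ' hu hk₁ hk₂ z
  obtain ⟨R, hR⟩ := exists_local_retract hψ sq ht hr₁ hr₂
  let V : U₀.Opens := t ⁻¹ᵁ V''
  let c : (Omega.conormal t).restrict V.ι ≅
      (Scheme.Modules.restrictFunctor V.ι).obj ((Scheme.Modules.pullback (𝟙 U₀)).obj (Omega.conormal t)) :=
    (Scheme.Modules.restrictFunctor V.ι).mapIso ((Scheme.Modules.pullbackId U₀).app _).symm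
  haveI := isQCoh_conormal t
  haveI : Coh.IsQCoh ((Omega.conormal t).restrict V.ι) := inferInstance
  have hN : FlatMod.IsFinLocFree ((Omega.conormal i').restrict V.ι) :=
    Coherent.CohBC.isFinLocFree_restrict _ _ fun y _ => by
      refine ⟨⊤, n, Opens.mem_top y, ⟨?_⟩⟩
      exact (Scheme.Modules.restrictFunctor (⊤ : U₀.Opens).ι).mapIso eN ≪≫
        (Scheme.Modules.restrictFunctorIsoPullback (⊤ : U₀.Opens).ι).app _ ≪≫
        (DCat.PerfTensor.nonempty_pullback_free (⊤ : U₀.Opens).ι n).some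
  obtain ⟨W, m, hzW, ⟨eW⟩⟩ := isFinLocFree_of_retract hN (c.hom ≫ (Scheme.Modules.restrictFunctor V.ι).map ψ)
    (R ≫ c.inv) (by rw [Category.assoc, ← Category.assoc ((Scheme.Modules.restrictFunctor V.ι).map ψ) R, hR,
      Category.id_comp, Iso.hom_inv_id]) ⟨z, hz⟩
  let q := W.ι ≫ V.ι
  obtain ⟨ef'⟩ := DCat.PerfTensor.nonempty_pullback_free q.isoOpensRange.inv m
  exact ⟨q.opensRange, m, ⟨⟨⟨z, hz⟩, hzW⟩, rfl⟩,
    ⟨(Scheme.Modules.restrictFunctorCongr q.isoOpensRange_inv_comp.symm).app _ ≪≫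
    (Scheme.Modules.restrictFunctorComp q.isoOpensRange.inv q).app _ ≪≫
    (Scheme.Modules.restrictFunctorIsoPullback q.isoOpensRange.inv).app _ ≪≫
    (Scheme.Modules.pullback q.isoOpensRange.inv).mapIso
      ((Scheme.Modules.restrictFunctorComp W.ι V.ι).app _ ≪≫ eW) ≪≫ ef'⟩⟩

end Groth.Agent.Omega15
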