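import Groth.Agent.OmegaLib.Universal

/-! Derivations on affine schemes are derivations of rings. -/

set_option autoImplicit false
set_option backward.isDefEq.respectTransparency.types false
set_option backward.isDefEq.respectTransparency false
universe u

open CategoryTheory AlgebraicGeometry TopologicalSpace Opposite

noncomputable section

namespace Groth.Agent.Omega15

open OmegaLib

variable {X S : Scheme.{u}} [IsAffine X] [IsAffine S] (f : X ⟶ S) (F : X.Modules)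

theorem exists_der (δ₁ : Γ(X, ⊤) →+ Γ(F, ⊤)) (hmul : ∀ a b, δ₁ (a * b) = a • δ₁ b + b • δ₁ a)
    (hzero : ∀ c : Γ(S, ⊤), δ₁ (f.appTop c) = 0) : ∃ D : OmegaSh.Der f F, D.app ⊤ = δ₁ := by
  have hU := isAffineOpen_top X
  have hW := isAffineOpen_top S
  have e : (⊤ : X.Opens) ≤ f ⁻¹ᵁ ⊤ := le_rfl
  letI := (f.appLE ⊤ ⊤ e).hom.toAlgebra
  let j := hU.fromSpec
  have hju : ∀ V : X.Opens, j ''ᵁ (j ⁻¹ᵁ V) = V := fun V => by
    rw [Scheme.Hom.image_preimage_eq_opensRange_inf, hU.opensRange_fromSpec, top_inf_eq]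
  let η : F ⟶ (Scheme.Modules.pushforward j).obj (F.restrict j) := (Scheme.Modules.restrictAdjunction j).unit.app F
  have hη : ∀ (V : X.Opens) (z : Γ(F, V)), η.app V z = F.presheaf.map (homOfLE (j.image_preimage_le V)).op z :=
    fun V z => rfl
  haveI : IsIso η := by
    rw [Scheme.Modules.Hom.isIso_iff_isIso_app]
    intro V
    rw [show η.app V = F.presheaf.map (homOfLE (j.image_preimage_le V)).op from by ext z; exact hη V z,
      show homOfLE (j.image_preimage_le V) = eqToHom (hju V) from Subsingleton.elim _ _]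
    infer_instance
  let N := (modulesSpecToSheaf.obj (F.restrict j)).presheaf.obj (op ⊤)
  letI : Module Γ(S, ⊤) N := Module.compHom N (algebraMap Γ(S, ⊤) Γ(X, ⊤))
  haveI : IsScalarTower Γ(S, ⊤) Γ(X, ⊤) N := IsScalarTower.of_algebraMap_smul fun _ _ => rfl
  have hsmul : ∀ (b : Γ(X, ⊤)) (z : Γ(F, j ''ᵁ ⊤)),
      (b • (show N from z) : N) = (show N from X.presheaf.map (homOfLE (image_top_le hU)).op b • z) := by
    intro b z
    rw [← appIso_inv_ΓSpecIso_inv hU b]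
    show (j.appIso ⊤).inv ((Spec Γ(X, ⊤)).presheaf.map (homOfLE (le_top : (⊤ : (Spec Γ(X, ⊤)).Opens) ≤ ⊤)).op
      ((Scheme.ΓSpecIso Γ(X, ⊤)).inv b)) • z = _
    rw [show (homOfLE (le_top : (⊤ : (Spec Γ(X, ⊤)).Opens) ≤ ⊤)) = 𝟙 _ from rfl, op_id,
      CategoryTheory.Functor.map_id]
    rfl
  let δ₀ : Γ(X, ⊤) →+ N := (F.presheaf.map (homOfLE (image_top_le hU)).op).hom.comp δ₁
  have hδmul : ∀ a b : Γ(X, ⊤), δ₀ (a * b) = a • δ₀ b + b • δ₀ a := by
    intro a b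
    rw [hsmul, hsmul]
    show F.presheaf.map _ (δ₁ (a * b)) = _
    rw [hmul, map_add, Scheme.Modules.map_smul, Scheme.Modules.map_smul]
    rfl
  have hδA : ∀ r : Γ(S, ⊤), δ₀ (algebraMap Γ(S, ⊤) Γ(X, ⊤) r) = 0 := by
    intro r
    show F.presheaf.map _ (δ₁ (f.appLE ⊤ ⊤ e r)) = 0
    rw [show f.appLE ⊤ ⊤ e = f.appTop from f.appLE_eq_app, hzero, map_zero]
  let δ : Derivation Γ(S, ⊤) Γ(X, ⊤) N := Derivation.mk'
    { toFun := δ₀
      map_add' := map_add δ₀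
      map_smul' := fun r b => by
        rw [Algebra.smul_def, hδmul, hδA, smul_zero, add_zero, RingHom.id_apply]
        exact algebraMap_smul Γ(X, ⊤) r (δ₀ b) }
    hδmul
  let lin : ModuleCat.of Γ(X, ⊤) (Ω[Γ(X, ⊤)⁄Γ(S, ⊤)]) ⟶ N :=
    @ModuleCat.ofHom _ _ (Ω[Γ(X, ⊤)⁄Γ(S, ⊤)]) N _ _ N.isAddCommGroup N.isModule δ.liftKaehlerDifferential
  let E := (tilde.adjunction (R := Γ(X, ⊤))).homEquiv (ModuleCat.of Γ(X, ⊤) (Ω[Γ(X, ⊤)⁄Γ(S, ⊤)])) (F.restrict j)
  let γ : omegaTilde e ⟶ F.restrict j := E.symm lin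
  have hγ : ∀ b : Γ(X, ⊤),
      γ.app ⊤ (tilde.toOpen (OmegaMod Γ(S, ⊤) Γ(X, ⊤)) ⊤ (KaehlerDifferential.D Γ(S, ⊤) Γ(X, ⊤) b)) =
        F.presheaf.map (homOfLE (image_top_le hU)).op (δ₁ b) := by
    intro b
    have h : E γ = lin := Equiv.apply_symm_apply _ _
    have h2 := congr($(h) (KaehlerDifferential.D Γ(S, ⊤) Γ(X, ⊤) b))
    rw [Adjunction.homEquiv_unit] at h2
    refine Eq.trans ?_ (h2.trans (δ.liftKaehlerDifferential_comp_D b))
    rfl
  let α : (Scheme.Modules.pushforward j).obj (omegaTilde e) ⟶ F := (Scheme.Modules.pushforward j).map γ ≫ inv η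
  refine ⟨(chartDer e hW hU).postcomp α.val, AddMonoidHom.ext fun b => ?_⟩
  show α.app ⊤ ((chartDer e hW hU).app ⊤ b) = δ₁ b
  apply (ConcreteCategory.bijective_of_isIso (η.app ⊤)).1
  rw [← ConcreteCategory.comp_apply, ← Scheme.Modules.Hom.comp_app]
  simp only [α, Category.assoc, IsIso.inv_hom_id, Category.comp_id]
  rw [hη, chartDer_app]
  show γ.app ⊤ (tildeDer Γ(S, ⊤) Γ(X, ⊤) ⊤ (j.app ⊤ b)) = _
  have hb : j.app ⊤ b = (Scheme.ΓSpecIso Γ(X, ⊤)).inv b := by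
    rw [← fromSpec_appLE_self hU b]
    exact congr($(j.appLE_eq_app (U := ⊤)) b).symm
  have ht := tildeDer_algebraMap Γ(S, ⊤) Γ(X, ⊤) ⊤ b
  rw [show (homOfLE (le_top : (⊤ : (Spec Γ(X, ⊤)).Opens) ≤ ⊤)) = 𝟙 _ from rfl, op_id, CategoryTheory.Functor.map_id] at ht
  rw [hb]
  exact (congrArg (γ.app ⊤) ht).trans (hγ b)

end Groth.Agent.Omega15
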