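import Groth.Agent.Omega15.ConormalBaseChange15
import Groth.Agent.EulerLib.InvClass
import Groth.Agent.VarietyLib.Dual
import Groth.Agent.KDet28.Hom

/-! Canonical sheaves of composites. -/

set_option autoImplicit false
set_option backward.isDefEq.respectTransparency.types false
set_option backward.isDefEq.respectTransparency false
set_option linter.style.haveILetI false
universe u

open CategoryTheory CategoryTheory.Limits AlgebraicGeometry TopologicalSpace Opposite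

noncomputable section

namespace Groth.Agent.Omega15

open OmegaLib Thick15 EulerLib

variable {Z Y X : Scheme.{u}}

theorem rank_of_freeAt {M : X.Modules} (h : FlatMod.IsFinLocFree M) {c : ℕ} (hc : ∀ x, FreeAt c M x) :
    FlatMod.IsFinLocFreeOfRank c M := fun x => by
  obtain ⟨U, n, hx, ⟨e⟩⟩ := h x
  have hn : FreeAt n M x := freeAt_of_restrict hx fun y => ⟨⊤, trivial,
    ⟨(Scheme.Modules.restrictFunctor _).mapIso e ≪≫ (Scheme.Modules.restrictFunctorIsoPullback _).app _ ≪≫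
      (DCat.PerfTensor.nonempty_pullback_free _ n).some⟩⟩
  obtain rfl := (hc x).unique hn
  exact ⟨U, hx, ⟨e⟩⟩

/-- determinants multiply in short exact sequences -/
theorem invCl_det_ses {S : ShortComplex X.Modules} (hS : S.ShortExact) {M₁ M₂ M₃ : X.Modules} (e₁ : S.X₁ ≅ M₁)
    (e₂ : S.X₂ ≅ M₂) (e₃ : S.X₃ ≅ M₃) {a c : ℕ} (h₁ : FlatMod.IsFinLocFreeOfRank a M₁)
    (h₃ : FlatMod.IsFinLocFreeOfRank c M₃) {L₁ L₂ L₃ : X.Modules} (p₁ : ExtPow.IsExtPow a M₁ L₁)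
    (p₂ : ExtPow.IsExtPow (a + c) M₂ L₂) (p₃ : ExtPow.IsExtPow c M₃ L₃) (i₁ : PicF.IsInvertible L₁)
    (i₂ : PicF.IsInvertible L₂) (i₃ : PicF.IsInvertible L₃) :
    InvCl.mk L₁ i₁ * InvCl.mk L₃ i₃ = InvCl.mk L₂ i₂ := by
  haveI := CAlgH3.LocFreeFactor.isQCoh_of_finLocFree (SerreDual.isFinLocFree_of_invertible i₁)
  haveI := CAlgH3.LocFreeFactor.isQCoh_of_finLocFree (SerreDual.isFinLocFree_of_invertible i₂)
  haveI := CAlgH3.LocFreeFactor.isQCoh_of_finLocFree (SerreDual.isFinLocFree_of_invertible i₃)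
  obtain ⟨t⟩ := FundLocal.nonempty_det_iso hS (rank_of_iso e₁.symm h₁) (rank_of_iso e₃.symm h₃)
    (EulerPn5.CanonOver.isExtPow_congr_source e₁.symm p₁) (EulerPn5.CanonOver.isExtPow_congr_source e₂.symm p₂)
    (EulerPn5.CanonOver.isExtPow_congr_source e₃.symm p₃)
  exact (InvCl.mk_mul i₁ i₃).trans (InvCl.mk_eq _ _ t)

/-- rank and determinant of the middle term -/
theorem exists_det_middle {S : ShortComplex X.Modules} (hS : S.ShortExact) {M₁ M₂ M₃ : X.Modules} (e₁ : S.X₁ ≅ M₁)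
    (e₂ : S.X₂ ≅ M₂) (e₃ : S.X₃ ≅ M₃) {a c : ℕ} (h₁ : FlatMod.IsFinLocFreeOfRank a M₁)
    (h₃ : FlatMod.IsFinLocFreeOfRank c M₃) :
    FlatMod.IsFinLocFreeOfRank (a + c) M₂ ∧
      ∃ (L : X.Modules), ExtPow.IsExtPow (a + c) M₂ L ∧ PicF.IsInvertible L := by
  have hf : FlatMod.IsFinLocFree M₂ := ExtFilt28.isFinLocFree_congr e₂ (ExtFilt28.isFinLocFree_extension hS
    (LocFreeLib.isFinLocFree_of_rank (rank_of_iso e₁.symm h₁)) (LocFreeLib.isFinLocFree_of_rank (rank_of_iso e₃.symm h₃)))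
  have hr : FlatMod.IsFinLocFreeOfRank (a + c) M₂ := rank_of_freeAt hf fun x =>
    (FreeAt.shortExact hS (freeAt_of_rank (rank_of_iso e₁.symm h₁) x) (freeAt_of_rank (rank_of_iso e₃.symm h₃) x)).of_iso e₂
  obtain ⟨L, -, hL⟩ := ExtPowEx28.exists_isExtPow hf (a + c)
  exact ⟨hr, L, hL, Canon15.isInvertible_of_isExtPow hr hL⟩

theorem isInvertible_of_cancel {ω C B : X.Modules} (hC : PicF.IsInvertible C) (hB : PicF.IsInvertible B)
    (e : CohB1.tensorMod ω C ≅ B) : PicF.IsInvertible ω := by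
  obtain ⟨M, hM⟩ := VarietyLib.exists_isInverseOf hB
  obtain ⟨m⟩ := hM
  exact MorProj.isInvertible_of_tensor_iso
    ((DCat.TensorAssoc.assocIso ω C M).symm ≪≫ AmpleLib.tensorIso e (Iso.refl M) ≪≫ m)

theorem invCl_of_iso {ω C B : X.Modules} (hω : PicF.IsInvertible ω) (hC : PicF.IsInvertible C) (hB : PicF.IsInvertible B)
    (e : CohB1.tensorMod ω C ≅ B) : InvCl.mk ω hω * InvCl.mk C hC = InvCl.mk B hB :=
  (InvCl.mk_mul hω hC).trans (InvCl.mk_eq _ _ e)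

theorem iso_of_invCl {L N : X.Modules} {hL : PicF.IsInvertible L} {hN : PicF.IsInvertible N}
    (h : InvCl.mk L hL = InvCl.mk N hN) : Nonempty (L ≅ N) :=
  Quotient.exact h

/-- a canonical module of a factorisation -/
theorem exists_isCanonicalVia (i : X ⟶ Z) (g : Z ⟶ Y) [QuasiSeparated g] {c n : ℕ}
    (hN : FlatMod.IsFinLocFreeOfRank c (Omega.conormal i)) (hΩ : FlatMod.IsFinLocFreeOfRank n (Omega.sheaf g)) :
    ∃ ω, Canon.IsCanonicalVia i g c n ω := by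
  obtain ⟨DC, -, hC⟩ := ExtPowEx28.exists_isExtPow (LocFreeLib.isFinLocFree_of_rank hN) c
  obtain ⟨DΩ, -, hD⟩ := ExtPowEx28.exists_isExtPow (LocFreeLib.isFinLocFree_of_rank hΩ) n
  obtain ⟨M, hM⟩ := VarietyLib.exists_isInverseOf (Canon15.isInvertible_of_isExtPow hN hC)
  obtain ⟨m⟩ := hM
  exact ⟨CohB1.tensorMod ((Scheme.Modules.pullback i).obj DΩ) M, DC, DΩ, hC, hD,
    ⟨DCat.TensorAssoc.assocIso _ M DC ≪≫ AmpleLib.tensorIso (Iso.refl _) (AmpleLib.tensorComm M DC ≪≫ m) ≪≫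
      AmpleLib.tensorComm _ _ ≪≫ AmpleLib.unitTensorIso _⟩⟩

/-- composition formula, with `f` factored through `P ×_Z Y` -/
theorem nonempty_canonical_comp {P Z₂ Z₃ : Scheme.{u}} [IsLocallyNoetherian Z]
    (s : P ⟶ Z) [QuasiSeparated s] {m : ℕ} [SmoothOfRelativeDimension m s]
    (i₂ : Y ⟶ Z₂) [IsImmersion i₂] [QuasiCompact i₂] (g₂ : Z₂ ⟶ Z) [QuasiSeparated g₂] {c₂ n₂ : ℕ}
    [SmoothOfRelativeDimension n₂ g₂] (hN₂ : FlatMod.IsFinLocFreeOfRank c₂ (Omega.conormal i₂))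
    (j : X ⟶ pullback s (i₂ ≫ g₂)) [IsImmersion j] [QuasiCompact j] {cj : ℕ}
    (hj : RegImm.IsRegularImmersion RegImm.Kind.h1 j) (hNj : FlatMod.IsFinLocFreeOfRank cj (Omega.conormal j))
    (i₃ : X ⟶ Z₃) [IsImmersion i₃] [QuasiCompact i₃] (g₃ : Z₃ ⟶ Z) [QuasiSeparated g₃] {c₃ n₃ : ℕ}
    [SmoothOfRelativeDimension n₃ g₃] (hN₃ : FlatMod.IsFinLocFreeOfRank c₃ (Omega.conormal i₃))
    (h₃ : i₃ ≫ g₃ = (j ≫ pullback.snd s (i₂ ≫ g₂)) ≫ i₂ ≫ g₂)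
    {ω₁ : X.Modules} {ω₂ : Y.Modules} {ω₃ : X.Modules}
    (hω₁ : Canon.IsCanonicalVia j (pullback.snd s (i₂ ≫ g₂)) cj m ω₁) (hω₂ : Canon.IsCanonicalVia i₂ g₂ c₂ n₂ ω₂)
    (hω₃ : Canon.IsCanonicalVia i₃ g₃ c₃ n₃ ω₃) :
    Nonempty (ω₃ ≅ CohB1.tensorMod ω₁ ((Scheme.Modules.pullback (j ≫ pullback.snd s (i₂ ≫ g₂))).obj ω₂)) := by
  rcases isEmpty_or_nonempty X with hX | hX
  · exact ⟨(FundLocal.isZero_of_isEmpty _).iso (FundLocal.isZero_of_isEmpty _)⟩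
  obtain ⟨x⟩ := hX
  haveI : Smooth s := SmoothOfRelativeDimension.smooth m s
  haveI : Smooth g₂ := SmoothOfRelativeDimension.smooth n₂ g₂
  haveI : Smooth g₃ := SmoothOfRelativeDimension.smooth n₃ g₃
  let p₁ := pullback.fst s (i₂ ≫ g₂)
  let q₁ := pullback.snd s (i₂ ≫ g₂)
  let f := j ≫ q₁
  let p₂ := pullback.fst s g₂
  let q₂ := pullback.snd s g₂
  haveI : SmoothOfRelativeDimension m q₁ :=
    (smoothOfRelativeDimension_isStableUnderBaseChange m).of_isPullback (IsPullback.of_hasPullback s (i₂ ≫ g₂)) ‹_›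
  haveI : SmoothOfRelativeDimension m q₂ :=
    (smoothOfRelativeDimension_isStableUnderBaseChange m).of_isPullback (IsPullback.of_hasPullback s g₂) ‹_›
  haveI : Smooth q₁ := SmoothOfRelativeDimension.smooth m q₁
  haveI : Smooth q₂ := SmoothOfRelativeDimension.smooth m q₂
  let b : pullback s (i₂ ≫ g₂) ⟶ pullback s g₂ :=
    pullback.lift p₁ (q₁ ≫ i₂) (by rw [Category.assoc]; exact pullback.condition)
  have hb₁ : b ≫ p₂ = p₁ := pullback.lift_fst _ _ _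
  have hb₂ : b ≫ q₂ = q₁ ≫ i₂ := pullback.lift_snd _ _ _
  have sqb : IsPullback b q₁ q₂ i₂ := by
    refine IsPullback.of_right ?_ hb₂ (IsPullback.of_hasPullback s g₂)
    rw [hb₁]
    exact IsPullback.of_hasPullback s (i₂ ≫ g₂)
  haveI : IsImmersion b := MorphismProperty.of_isPullback sqb.flip inferInstance
  haveI : QuasiCompact b := MorphismProperty.of_isPullback sqb.flip inferInstance
  let k := j ≫ b
  have hkq : k ≫ q₂ = f ≫ i₂ := by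
    show (j ≫ b) ≫ q₂ = (j ≫ q₁) ≫ i₂
    rw [Category.assoc, hb₂, Category.assoc]
  let fV := pullback.fst g₂ g₃
  let sV := pullback.snd g₂ g₃
  let K' : X ⟶ pullback g₂ g₃ := pullback.lift (f ≫ i₂) i₃ (by rw [Category.assoc]; exact h₃.symm)
  have hK₁ : K' ≫ fV = f ≫ i₂ := pullback.lift_fst _ _ _
  have hK₂ : K' ≫ sV = i₃ := pullback.lift_snd _ _ _
  haveI : IsImmersion (K' ≫ sV) := hK₂ ▸ inferInstance
  haveI : IsImmersion K' := IsImmersion.of_comp K' sV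
  haveI : QuasiCompact (K' ≫ sV) := hK₂ ▸ inferInstance
  haveI : QuasiCompact K' := QuasiCompact.of_comp K' sV
  haveI : SmoothOfRelativeDimension n₃ fV :=
    (smoothOfRelativeDimension_isStableUnderBaseChange n₃).of_isPullback (IsPullback.of_hasPullback g₂ g₃).flip ‹_›
  haveI : Smooth fV := SmoothOfRelativeDimension.smooth n₃ fV
  let K : X ⟶ pullback q₂ fV := pullback.lift k K' (by rw [hkq, hK₁])
  have hL₁ : K ≫ pullback.fst q₂ fV = k := pullback.lift_fst _ _ _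
  have hL₂ : K ≫ pullback.snd q₂ fV = K' := pullback.lift_snd _ _ _
  haveI : IsImmersion (K ≫ pullback.fst q₂ fV) := hL₁ ▸ inferInstance
  haveI : IsImmersion K := IsImmersion.of_comp K (pullback.fst q₂ fV)
  haveI : QuasiCompact (K ≫ pullback.fst q₂ fV) := hL₁ ▸ inferInstance
  haveI : QuasiCompact K := QuasiCompact.of_comp K (pullback.fst q₂ fV)
  -- the sheaves of differentials
  have hΩ₂ := FundLocal.isFinLocFreeOfRank_omega_qs g₂ n₂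
  have hΩ₃ := FundLocal.isFinLocFreeOfRank_omega_qs g₃ n₃
  have hΩq₁ := FundLocal.isFinLocFreeOfRank_omega_qs q₁ m
  obtain ⟨cq, hcq, -⟩ := existsUnique_compat b i₂ sqb.w.symm (OmegaLib.isUniversal_dOmega q₂) (OmegaSh.dOmega q₁)
  haveI := isIso_of_isPullback sqb (OmegaLib.isUniversal_dOmega q₂) (OmegaLib.isUniversal_dOmega q₁) hcq
  obtain ⟨cv, hcv, -⟩ := existsUnique_compat sV g₂ (IsPullback.of_hasPullback g₂ g₃).w
    (OmegaLib.isUniversal_dOmega g₃) (OmegaSh.dOmega fV)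
  haveI := isIso_of_isPullback (IsPullback.of_hasPullback g₂ g₃).flip (OmegaLib.isUniversal_dOmega g₃)
    (OmegaLib.isUniversal_dOmega fV) hcv
  -- the exact sequences
  obtain ⟨Sa, hSa, ⟨a₁⟩, ⟨a₂⟩, ⟨a₃⟩⟩ := exists_conormal_ses (IsPullback.of_hasPullback g₂ g₃).flip (𝟙 _) K' i₃ (f ≫ i₂)
    (by rw [Category.id_comp, hK₂]) (by rw [Category.id_comp, hK₁]) (OmegaLib.isUniversal_dOmega g₂)
  obtain ⟨Sb, hSb, ⟨u₁⟩, ⟨u₂⟩, ⟨u₃⟩⟩ := exists_conormal_ses (IsPullback.of_hasPullback q₂ fV).flip (𝟙 _) K K' k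
    (by rw [Category.id_comp, hL₂]) (by rw [Category.id_comp, hL₁]) (OmegaLib.isUniversal_dOmega q₂)
  obtain ⟨Sc, hSc, ⟨v₁⟩, ⟨v₂⟩, ⟨v₃⟩⟩ := exists_conormal_ses (IsPullback.of_hasPullback q₂ fV) (𝟙 _) K k K'
    (by rw [Category.id_comp, hL₁]) (by rw [Category.id_comp, hL₂]) (OmegaLib.isUniversal_dOmega fV)
  obtain ⟨α, hα⟩ := exists_conormalMap (i := j ≫ b) (i' := b) (g := 𝟙 _) (gZ := j) (Category.comp_id _).symm
  obtain ⟨β, hβ⟩ := exists_conormalMap (i := j) (i' := j ≫ b) (g := b) (gZ := 𝟙 X) (Category.id_comp _)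
  obtain ⟨w, hSd⟩ := RegImmH1.conormal_shortExact j b α hα β hβ hj
  obtain ⟨θ, hθ⟩ := exists_conormalMap (i := b) (i' := i₂) (g := q₂) (gZ := q₁) hb₂.symm
  haveI : IsIso θ := (S9372.result b i₂ q₂ q₁ sqb θ hθ).2 inferInstance
  let d₁ : (Scheme.Modules.pullback j).obj (Omega.conormal b) ≅ (Scheme.Modules.pullback f).obj (Omega.conormal i₂) :=
    (Scheme.Modules.pullback j).mapIso (asIso θ).symm ≪≫ (Scheme.Modules.pullbackComp j q₁).app _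
  -- the line bundles
  obtain ⟨C₁, A₀, hC₁, hA₀, ⟨e₁⟩⟩ := hω₁
  obtain ⟨C₂, D₂, hC₂, hD₂, ⟨e₂⟩⟩ := hω₂
  obtain ⟨C₃, D₃, hC₃, hD₃, ⟨e₃⟩⟩ := hω₃
  have hB₂ := VarietyLib.isFinLocFreeOfRank_pullback (f ≫ i₂) hΩ₂
  have hB₃ := VarietyLib.isFinLocFreeOfRank_pullback i₃ hΩ₃
  have hA := VarietyLib.isFinLocFreeOfRank_pullback j hΩq₁
  have hfN₂ := VarietyLib.isFinLocFreeOfRank_pullback f hN₂
  let kA : (Scheme.Modules.pullback k).obj (Omega.sheaf q₂) ≅ (Scheme.Modules.pullback j).obj (Omega.sheaf q₁) :=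
    ((Scheme.Modules.pullbackComp j b).app _).symm ≪≫ (Scheme.Modules.pullback j).mapIso (asIso cq)
  let kB : (Scheme.Modules.pullback K').obj (Omega.sheaf fV) ≅ (Scheme.Modules.pullback i₃).obj (Omega.sheaf g₃) :=
    (Scheme.Modules.pullback K').mapIso (asIso cv).symm ≪≫ (Scheme.Modules.pullbackComp K' sV).app _ ≪≫
      (Scheme.Modules.pullbackCongr hK₂).app _
  obtain ⟨hrK', DK', pK', iK'⟩ := exists_det_middle hSa a₁ a₂ a₃ hN₃ hB₂
  obtain ⟨hrk, Dk, pk, ik⟩ := exists_det_middle hSd d₁ (Iso.refl _) (Iso.refl _) hfN₂ hNj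
  obtain ⟨hrK, DK, pK, iK⟩ := exists_det_middle hSb u₁ u₂ (u₃ ≪≫ kA) hrK' hA
  obtain ⟨hrK₂, -⟩ := exists_det_middle hSc v₁ v₂ (v₃ ≪≫ kB) hrk hB₃
  have hr : c₃ + n₂ + m = c₂ + cj + n₃ := (freeAt_of_rank hrK x).unique (freeAt_of_rank hrK₂ x)
  have iC₁ := Canon15.isInvertible_of_isExtPow hNj hC₁
  have iC₂ := Canon15.isInvertible_of_isExtPow hN₂ hC₂
  have iC₃ := Canon15.isInvertible_of_isExtPow hN₃ hC₃
  have iD₂ := Canon15.isInvertible_of_isExtPow hΩ₂ hD₂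
  have iD₃ := Canon15.isInvertible_of_isExtPow hΩ₃ hD₃
  have iA₀ := Canon15.isInvertible_of_isExtPow hΩq₁ hA₀
  have pA := ExtPowEx28.isExtPow_pullback_vb j (LocFreeLib.isFinLocFree_of_rank hΩq₁) hA₀
  have iA := Canon15.isInvertible_of_isExtPow hA pA
  have pC₂ := ExtPowEx28.isExtPow_pullback_vb f (LocFreeLib.isFinLocFree_of_rank hN₂) hC₂
  have ifC₂ := Canon15.isInvertible_of_isExtPow hfN₂ pC₂
  have pB₂ := ExtPowEx28.isExtPow_pullback_vb (f ≫ i₂) (LocFreeLib.isFinLocFree_of_rank hΩ₂) hD₂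
  have iB₂ := Canon15.isInvertible_of_isExtPow hB₂ pB₂
  have pB₃ := ExtPowEx28.isExtPow_pullback_vb i₃ (LocFreeLib.isFinLocFree_of_rank hΩ₃) hD₃
  have iB₃ := Canon15.isInvertible_of_isExtPow hB₃ pB₃
  let e₂' : CohB1.tensorMod ((Scheme.Modules.pullback f).obj ω₂) ((Scheme.Modules.pullback f).obj C₂) ≅
      (Scheme.Modules.pullback (f ≫ i₂)).obj D₂ :=
    (DCat.PullTensor.pullTensorIso f ω₂ C₂).symm ≪≫ (Scheme.Modules.pullback f).mapIso e₂ ≪≫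
      (Scheme.Modules.pullbackComp f i₂).app D₂
  have iω₁ := isInvertible_of_cancel iC₁ iA e₁
  have ifω₂ := isInvertible_of_cancel ifC₂ iB₂ e₂'
  have iω₃ := isInvertible_of_cancel iC₃ iB₃ e₃
  have r₁ := invCl_of_iso iω₁ iC₁ iA e₁
  have r₂ := invCl_of_iso ifω₂ ifC₂ iB₂ e₂'
  have r₃ := invCl_of_iso iω₃ iC₃ iB₃ e₃
  have sa := invCl_det_ses hSa a₁ a₂ a₃ hN₃ hB₂ hC₃ pK' pB₂ iC₃ iK' iB₂
  have sd := invCl_det_ses hSd d₁ (Iso.refl _) (Iso.refl _) hfN₂ hNj pC₂ pk hC₁ ifC₂ ik iC₁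
  have sb := invCl_det_ses hSb u₁ u₂ (u₃ ≪≫ kA) hrK' hA pK' pK pA iK' iK iA
  have sc := invCl_det_ses hSc v₁ v₂ (v₃ ≪≫ kB) hrk hB₃ pk (hr ▸ pK) pB₃ ik iK iB₃
  rw [← sa, ← sc, ← sd, ← r₁, ← r₂, ← r₃] at sb
  have hu : IsUnit (InvCl.mk C₃ iC₃ * InvCl.mk C₁ iC₁ * InvCl.mk _ ifC₂) :=
    ((KDet28.isUnit_mk iC₃).mul (KDet28.isUnit_mk iC₁)).mul (KDet28.isUnit_mk ifC₂)
  refine iso_of_invCl (hL := iω₃) (hN := AmpleLib.isInvertible_tensorMod iω₁ ifω₂) ?_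
  rw [← InvCl.mk_mul iω₁ ifω₂]
  refine hu.mul_right_cancel ?_
  calc InvCl.mk ω₃ iω₃ * (InvCl.mk C₃ iC₃ * InvCl.mk C₁ iC₁ * InvCl.mk _ ifC₂)
      = InvCl.mk _ ifC₂ * InvCl.mk C₁ iC₁ * (InvCl.mk ω₃ iω₃ * InvCl.mk C₃ iC₃) := by ac_rfl
    _ = InvCl.mk C₃ iC₃ * (InvCl.mk _ ifω₂ * InvCl.mk _ ifC₂) * (InvCl.mk ω₁ iω₁ * InvCl.mk C₁ iC₁) := sb.symm
    _ = _ := by ac_rfl

end Groth.Agent.Omega15
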