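import Groth.Agent.Omega15.CanonComp15
import Groth.Agent.Nrm16Lib.RegImm
import Groth.Agent.KModel28.Basic
import Groth.Agent.FlatMorLocalStr.RingForm
import Groth.Agent.CAlgH.KoszulImmersion

/-! The canonical sheaf of the generic fibre. -/

set_option autoImplicit false
set_option backward.isDefEq.respectTransparency.types false
set_option backward.isDefEq.respectTransparency false
set_option linter.style.haveILetI false
universe u

open CategoryTheory CategoryTheory.Limits AlgebraicGeometry TopologicalSpace Opposite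
open scoped TensorProduct

noncomputable section

namespace Groth.Agent.Omega15

open OmegaLib Thick15

variable {Z Y X : Scheme.{u}}

theorem freeAt_conormal_length (i : Z ⟶ Y) [IsImmersion i] [QuasiCompact i] {x : Z} {W : Y.Opens} (hW : IsAffineOpen W)
    (hxW : i x ∈ W) (hc : IsClosedImmersion (i ∣_ W)) {rs : List Γ(Y, W)} (hrs₀ : RegImm.Kind.regular.Seq Γ(Y, W) rs)
    (hker : RingHom.ker (i.app W).hom = Ideal.ofList rs) : FreeAt rs.length (Omega.conormal i) x := by
  have hrs := SDiv28.RegSeq.seq_of_koszul (SDiv28.RegSeq.seq_koszul_of_regular hrs₀.toIsWeaklyRegular)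
  haveI : IsClosedImmersion (i ∣_ W) := hc
  haveI : IsAffine (W : Scheme.{u}) := hW
  let τ : Γ(Y, W) →+* Γ((W : Scheme.{u}), ⊤) := W.topIso.inv.hom
  have hfl : τ.Flat := RingHom.Flat.of_bijective (ConcreteCategory.bijective_of_isIso W.topIso.inv)
  have key : ∀ {V : Y.Opens} (hV : W.ι ''ᵁ ⊤ = V),
      RingHom.ker (i ∣_ W).appTop.hom = (RingHom.ker (i.app V).hom).map (Y.presheaf.map (eqToHom hV).op).hom := by
    rintro V rfl
    show RingHom.ker ((i ∣_ W).app ⊤).hom = _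
    rw [morphismRestrict_app, CommRingCat.hom_comp,
      RingHom.ker_comp_of_injective _ (ConcreteCategory.bijective_of_isIso _).1]
    simp
  have hk : RingHom.ker (i ∣_ W).appTop.hom = Ideal.span (Set.range fun k => τ (rs.get k)) := by
    rw [key (Scheme.Opens.ι_image_top W), hker, Ideal.map_ofList]
    show Ideal.ofList _ = Ideal.span (Set.range fun k => τ (rs.get k))
    rw [Ideal.ofList]
    congr 1
    ext a
    simp only [List.mem_map, Set.mem_range]
    constructor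
    · rintro ⟨c, hc, rfl⟩
      obtain ⟨k, rfl⟩ := List.mem_iff_get.1 hc
      exact ⟨k, rfl⟩
    · rintro ⟨k, rfl⟩
      exact ⟨rs.get k, List.get_mem _ _, rfl⟩
  have hrs' : CAlgX.IsH1Regular fun k : Fin rs.length => τ (rs.get k) := by
    letI := τ.toAlgebra
    haveI : Module.Flat Γ(Y, W) Γ((W : Scheme.{u}), ⊤) := hfl
    exact SDiv28.RegSeq.isH1Regular_map (S := Γ((W : Scheme.{u}), ⊤)) hrs
  obtain ⟨ef⟩ := RegImmH1.exists_iso_freeMod_conormal (i ∣_ W) _ hrs' hk
  have sq : IsPullback (i ∣_ W) (i ⁻¹ᵁ W).ι W.ι i := isPullback_morphismRestrict i W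
  obtain ⟨θ, hθ⟩ := exists_conormalMap (i := i ∣_ W) (i' := i) (g := W.ι) (gZ := (i ⁻¹ᵁ W).ι) sq.w.symm
  haveI : IsIso θ := (S9372.result (i ∣_ W) i W.ι (i ⁻¹ᵁ W).ι sq θ hθ).2 inferInstance
  refine freeAt_of_restrict (U := i ⁻¹ᵁ W) hxW fun y => ⟨⊤, trivial, ⟨?_⟩⟩
  exact (Scheme.Modules.restrictFunctor _).mapIso ((Scheme.Modules.restrictFunctorIsoPullback (i ⁻¹ᵁ W).ι).app _ ≪≫ asIso θ ≪≫ ef) ≪≫
    (Scheme.Modules.restrictFunctorIsoPullback _).app _ ≪≫ (DCat.PerfTensor.nonempty_pullback_free _ rs.length).some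

/-- a regular immersion with conormal sheaf of constant rank has constant codimension -/
theorem isRegularImmersionOfCodim_of_rank (i : Z ⟶ Y) [IsImmersion i] [QuasiCompact i]
    (hi : RegImm.IsRegularImmersion RegImm.Kind.regular i) {c : ℕ}
    (hN : FlatMod.IsFinLocFreeOfRank c (Omega.conormal i)) : RegImm.IsRegularImmersionOfCodim RegImm.Kind.regular c i :=
  ⟨hi.1, fun z => by
    obtain ⟨U, hz, hc, rs, hrs, hker⟩ := hi.2 z
    exact ⟨U, hz, hc, rs, (freeAt_conormal_length i U.2 hz hc hrs hker).unique (freeAt_of_rank hN z), hrs, hker⟩⟩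

theorem isKoszulPt_of_isLCIMor {f : X ⟶ Y} (hf : Dual3.IsLCIMor f) (x : X) : FlatMorKoszul.IsKoszulPt f x := by
  obtain ⟨U, V, e, hx, hl⟩ := hf x
  exact ⟨U.1, V.1, U.2, V.2, e, hx, hl⟩

theorem isKoszulPt_restrict (f : X ⟶ Y) (hf : ∀ x, FlatMorKoszul.IsKoszulPt f x) {U₀ V₀ : Scheme.{u}} (u : U₀ ⟶ X)
    (v : V₀ ⟶ Y) [IsOpenImmersion u] [IsOpenImmersion v] (f₀ : U₀ ⟶ V₀) (h : f₀ ≫ v = u ≫ f) (x : U₀) :
    FlatMorKoszul.IsKoszulPt f₀ x :=
  Synt15.isKoszulPt_of_comp_smooth f₀ v (by rw [h]; exact Synt15.isKoszulPt_comp u f (Synt15.isKoszulPt_of_smooth _ _) (hf _))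

/-- over an integral scheme the conormal sheaf of a Koszul immersion has constant rank -/
theorem exists_rank_of_preirreducible [PreirreducibleSpace ↥X] {M : X.Modules} (h : FlatMod.IsFinLocFree M) :
    ∃ r, FlatMod.IsFinLocFreeOfRank r M := by
  rcases isEmpty_or_nonempty X with hX | hX
  · exact ⟨0, fun x => isEmptyElim x⟩
  haveI : PreconnectedSpace ↥X := PreirreducibleSpace.preconnectedSpace ..
  haveI : ConnectedSpace ↥X := { toNonempty := hX }
  exact KModel28.exists_rank h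

/-- an affine scheme of finite type over `F` is closed in some affine space -/
theorem exists_affine_embedding {F : Type u} [CommRing F] {B : Scheme.{u}} [IsAffine B]
    (p : B ⟶ Spec (CommRingCat.of F)) [LocallyOfFiniteType p] :
    ∃ (N : ℕ) (A : Scheme.{u}) (e : B ⟶ A) (s : A ⟶ Spec (CommRingCat.of F)),
      IsClosedImmersion e ∧ SmoothOfRelativeDimension N s ∧ QuasiSeparated s ∧ e ≫ s = p := by
  obtain ⟨φ, hφ⟩ : ∃ φ : CommRingCat.of F ⟶ Γ(B, ⊤), Spec.map φ = B.isoSpec.inv ≫ p :=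
    ⟨_, Spec.map_preimage _⟩
  have hft : φ.hom.FiniteType := by
    rw [← HasRingHomProperty.Spec_iff (P := @LocallyOfFiniteType), hφ]
    infer_instance
  letI := φ.hom.toAlgebra
  haveI : Algebra.FiniteType F Γ(B, ⊤) := hft
  obtain ⟨N, π, hπ⟩ := Algebra.FiniteType.iff_quotient_mvPolynomial''.1 (inferInstance : Algebra.FiniteType F Γ(B, ⊤))
  haveI : IsClosedImmersion (Spec.map (CommRingCat.ofHom (π : MvPolynomial (Fin N) F →+* Γ(B, ⊤)))) :=
    IsClosedImmersion.spec_of_surjective _ hπ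
  refine ⟨N, Spec (CommRingCat.of (MvPolynomial (Fin N) F)),
    B.isoSpec.hom ≫ Spec.map (CommRingCat.ofHom (π : MvPolynomial (Fin N) F →+* Γ(B, ⊤))),
    Spec.map (CommRingCat.ofHom (algebraMap F (MvPolynomial (Fin N) F))), inferInstance, ?_, inferInstance, ?_⟩
  · rw [HasRingHomProperty.Spec_iff (P := @SmoothOfRelativeDimension N)]
    exact RingHom.locally_of RingHom.isStandardSmoothOfRelativeDimension_respectsIso _
      (RingHom.isStandardSmoothOfRelativeDimension_algebraMap N |>.2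
        (FlatMorLocalStr.isStandardSmoothOfRelativeDimension_mvPolynomial F N))
  · rw [Category.assoc, ← Spec.map_comp]
    have h : CommRingCat.ofHom (algebraMap F (MvPolynomial (Fin N) F)) ≫
        CommRingCat.ofHom (π : MvPolynomial (Fin N) F →+* Γ(B, ⊤)) = φ := by
      ext a
      exact π.commutes a
    rw [h, hφ, Iso.hom_inv_id_assoc]

theorem isInvertible_pullback' (f : X ⟶ Y) {L : Y.Modules} (hL : PicF.IsInvertible L) :
    PicF.IsInvertible ((Scheme.Modules.pullback f).obj L) :=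
  Canon15.isInvertible_of_isExtPow (VarietyLib.isFinLocFreeOfRank_pullback f (PicLib.isFinLocFreeOfRank_one hL))
    (KvbLam28.isExtPow_one _)

open Coherent PicLib AmpleLib in
/-- Invertible modules on a one-point scheme are trivial. -/
theorem nonempty_iso_structure_of_point [Subsingleton X] [Nonempty X] (L : X.Modules) (hL : PicF.IsInvertible L) :
    Nonempty (L ≅ Coh.structureModule X) := by
  obtain ⟨W, hW, m, hm⟩ := exists_isGen hL (Classical.arbitrary X)
  obtain rfl : W = ⊤ := eq_top_iff.2 fun x _ => Subsingleton.elim (Classical.arbitrary X) x ▸ hW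
  have : IsIso (unitDesc L m) := isIso_of_isGen _ (by rw [unitVal_unitDesc, resM_self]; exact hm)
  exact ⟨(asIso (unitDesc L m)).symm⟩

theorem isCanonical_of_iso {f : X ⟶ Y} {ω ω' : X.Modules} (e : ω ≅ ω') (h : Canon.IsCanonical f ω) :
    Canon.IsCanonical f ω' := by
  obtain ⟨Z, i, g, c, n, h₁, h₂, h₃, h₄, h₅, DC, DΩ, h₆, h₇, ⟨e'⟩⟩ := h
  exact ⟨Z, i, g, c, n, h₁, h₂, h₃, h₄, h₅, DC, DΩ, h₆, h₇, ⟨AmpleLib.tensorIso e.symm (Iso.refl DC) ≪≫ e'⟩⟩

/-- base change of a Koszul factorisation to a point over a flat map -/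
theorem isCanonical_baseChange_flat {P : Scheme.{u}} [IsLocallyNoetherian Y] (f₀ : X ⟶ Y) (j : X ⟶ P) [IsImmersion j] [QuasiCompact j]
    (q : P ⟶ Y) [QuasiSeparated q] {c n : ℕ} [SmoothOfRelativeDimension n q] (hjq : j ≫ q = f₀)
    (hf : ∀ x, FlatMorKoszul.IsKoszulPt f₀ x) (hN : FlatMod.IsFinLocFreeOfRank c (Omega.conormal j)) {ω : X.Modules}
    (hω : Canon.IsCanonicalVia j q c n ω) {Y' X' : Scheme.{u}} [IsLocallyNoetherian Y'] (u : Y' ⟶ Y) [Flat u]
    (p : X' ⟶ X) (f' : X' ⟶ Y') (sq : IsPullback p f' f₀ u) :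
    Canon.IsCanonical f' ((Scheme.Modules.pullback p).obj ω) := by
  haveI : Smooth q := SmoothOfRelativeDimension.smooth n q
  let q' := pullback.snd q u
  let b := pullback.fst q u
  haveI : SmoothOfRelativeDimension n q' :=
    (smoothOfRelativeDimension_isStableUnderBaseChange n).of_isPullback (IsPullback.of_hasPullback q u) ‹_›
  haveI : Smooth q' := SmoothOfRelativeDimension.smooth n q'
  haveI : IsLocallyNoetherian (pullback q u) := LocallyOfFiniteType.isLocallyNoetherian q'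
  let i' : X' ⟶ pullback q u := pullback.lift (p ≫ j) f' (by rw [Category.assoc, hjq]; exact sq.w)
  have hi'b : i' ≫ b = p ≫ j := pullback.lift_fst _ _ _
  have hi'q : i' ≫ q' = f' := pullback.lift_snd _ _ _
  have sqj : IsPullback p i' j b := IsPullback.of_bot (by rw [hi'q, hjq]; exact sq) hi'b.symm (IsPullback.of_hasPullback q u)
  haveI : IsImmersion i' := MorphismProperty.of_isPullback sqj inferInstance
  haveI : QuasiCompact i' := MorphismProperty.of_isPullback sqj inferInstance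
  haveI : Flat b := MorphismProperty.of_isPullback (IsPullback.of_hasPullback q u).flip ‹Flat u›
  obtain ⟨φ, hφ⟩ := exists_conormalMap (i := i') (i' := j) (g := b) (gZ := p) sqj.w
  haveI : IsIso φ := (S9372.result i' j b p sqj.flip φ hφ).2 inferInstance
  have hN' := rank_of_iso (asIso φ) (VarietyLib.isFinLocFreeOfRank_pullback p hN)
  have hk : ∀ z, FlatMorKoszul.IsKoszulPt f' z := fun z =>
    Synt15.isKoszulPt_of_isKoszulAt _ (Synt15.isKoszulAt_of_isPullback f₀ u f' p sq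
      (Synt15.isKoszulAt_of_isKoszulPt _ (hf _)))
  have hreg : RegImm.IsRegularImmersion RegImm.Kind.regular i' :=
    Nrm16Lib.isRegularImmersion_regular_of_quasi ((SDiv28.RegImmKinds.implications i').2.2
      ((SDiv28.RegImmKinds.implications i').2.1 (Synt15.isRegularImmersion_of_isKoszulPt i' fun z =>
        Synt15.isKoszulPt_of_comp_smooth i' q' (by rw [hi'q]; exact hk z))))
  exact ⟨_, i', q', c, n, hi'q, isRegularImmersionOfCodim_of_rank i' hreg hN', inferInstance, inferInstance, inferInstance,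
    isCanonicalVia_baseChange (IsPullback.of_hasPullback q u) sqj.w (asIso φ) (LocFreeLib.isFinLocFree_of_rank hN)
      (LocFreeLib.isFinLocFree_of_rank (FundLocal.isFinLocFreeOfRank_omega_qs q n)) hω⟩

theorem isPullback_resLE {f : X ⟶ Y} {V : Y.Opens} {U : X.Opens} (h : U = f ⁻¹ᵁ V) :
    IsPullback (Scheme.Opens.ι U) (f.resLE V U h.le) f (Scheme.Opens.ι V) := by
  subst h
  rw [Scheme.Hom.resLE_eq_morphismRestrict]
  exact (isPullback_morphismRestrict f V).flip

/-- the canonical sheaf restricted to the generic fibre -/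
theorem isCanonical_generic (F : Type u) [Field F] {B : Scheme.{u}} [IsIntegral X] [IsIntegral B]
    (pX : X ⟶ Spec (CommRingCat.of F)) (pB : B ⟶ Spec (CommRingCat.of F))
    [LocallyOfFiniteType pX] [LocallyOfFiniteType pB] (π : X ⟶ B) (hπ : π ≫ pB = pX)
    (hπk : ∀ x, FlatMorKoszul.IsKoszulPt π x) (hBk : ∀ b, FlatMorKoszul.IsKoszulPt pB b)
    (ω : X.Modules) (hω : Canon.IsCanonical pX ω) :
    Canon.IsCanonical (pullback.snd π (B.fromSpecStalk (genericPoint B)))
      ((Scheme.Modules.pullback (pullback.fst π (B.fromSpecStalk (genericPoint B)))).obj ω) := by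
  obtain ⟨Z, i, g, c, n, hig, hi, hg, hqi, hqg, hvia⟩ := hω
  haveI := hi.1
  haveI := hg
  haveI : Smooth g := SmoothOfRelativeDimension.smooth n g
  haveI : IsLocallyNoetherian B := LocallyOfFiniteType.isLocallyNoetherian pB
  haveI : IsLocallyNoetherian X := LocallyOfFiniteType.isLocallyNoetherian pX
  haveI : IsLocallyNoetherian Z := LocallyOfFiniteType.isLocallyNoetherian g
  let η := genericPoint B
  obtain ⟨B₀, hB₀, hη, -⟩ := Opens.isBasis_iff_nbhd.mp B.isBasis_affineOpens (Opens.mem_top η)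
  haveI : IsAffine (B₀ : Scheme.{u}) := hB₀
  haveI : Nonempty (B₀ : Scheme.{u}) := ⟨⟨η, hη⟩⟩
  haveI : IsIntegral (B₀ : Scheme.{u}) := isIntegral_of_isOpenImmersion (Scheme.Opens.ι B₀)
  obtain ⟨O, hO, hOe⟩ := (i.isEmbedding.isInducing.isOpen_iff).1 (π ⁻¹ᵁ B₀).isOpen
  let W : Z.Opens := ⟨O, hO⟩
  have hXW : i ⁻¹ᵁ W = π ⁻¹ᵁ B₀ := TopologicalSpace.Opens.ext hOe
  let π₀ := π.resLE B₀ (i ⁻¹ᵁ W) hXW.le
  have sq₀ : IsPullback (Scheme.Opens.ι (i ⁻¹ᵁ W)) π₀ π (Scheme.Opens.ι B₀) := isPullback_resLE hXW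
  have hk₀ : ∀ x, FlatMorKoszul.IsKoszulPt π₀ x :=
    isKoszulPt_restrict π hπk (Scheme.Opens.ι (i ⁻¹ᵁ W)) (Scheme.Opens.ι B₀) π₀ sq₀.w.symm
  -- the base
  obtain ⟨NB, A, e, s, he, hs, hsq, hes⟩ := exists_affine_embedding ((Scheme.Opens.ι B₀) ≫ pB)
  haveI : Smooth s := SmoothOfRelativeDimension.smooth NB s
  have hkB : ∀ b, FlatMorKoszul.IsKoszulPt ((Scheme.Opens.ι B₀) ≫ pB) b := fun b =>
    Synt15.isKoszulPt_comp (Scheme.Opens.ι B₀) pB (Synt15.isKoszulPt_of_smooth _ _) (hBk _)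
  obtain ⟨cB, hNB⟩ := exists_rank_of_preirreducible (isFinLocFree_conormal_of_isKoszulPt _ s e hes hkB)
  obtain ⟨ωB, hωB⟩ := exists_isCanonicalVia e s hNB (FundLocal.isFinLocFreeOfRank_omega_qs s NB)
  -- the factorisation of `X₀`
  let i₃ := i ∣_ W
  haveI : IsImmersion i₃ := MorphismProperty.of_isPullback (isPullback_morphismRestrict i W).flip inferInstance
  haveI : QuasiCompact i₃ := MorphismProperty.of_isPullback (isPullback_morphismRestrict i W).flip inferInstance
  let g₃ := (Scheme.Opens.ι W) ≫ g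
  haveI : SmoothOfRelativeDimension n g₃ := by
    simpa using (inferInstance : SmoothOfRelativeDimension (0 + n) g₃)
  let q := pullback.snd g (e ≫ s)
  haveI : SmoothOfRelativeDimension n q :=
    (smoothOfRelativeDimension_isStableUnderBaseChange n).of_isPullback (IsPullback.of_hasPullback g (e ≫ s)) ‹_›
  haveI : Smooth q := SmoothOfRelativeDimension.smooth n q
  have hi3 : i₃ ≫ g₃ = π₀ ≫ e ≫ s := by
    show (i ∣_ W) ≫ (Scheme.Opens.ι W) ≫ g = _
    rw [morphismRestrict_ι_assoc, hig, hes, ← Category.assoc π₀, ← sq₀.w, Category.assoc, hπ]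
  let j : ((i ⁻¹ᵁ W : X.Opens) : Scheme.{u}) ⟶ pullback g (e ≫ s) :=
    pullback.lift (i₃ ≫ Scheme.Opens.ι W) π₀ (by rw [Category.assoc]; exact hi3)
  have hj₁ : j ≫ pullback.fst g (e ≫ s) = i₃ ≫ Scheme.Opens.ι W := pullback.lift_fst _ _ _
  have hj₂ : j ≫ q = π₀ := pullback.lift_snd _ _ _
  haveI : IsImmersion (j ≫ pullback.fst g (e ≫ s)) := hj₁ ▸ inferInstance
  haveI : IsImmersion j := IsImmersion.of_comp j (pullback.fst g (e ≫ s))
  haveI : QuasiCompact (j ≫ pullback.fst g (e ≫ s)) := hj₁ ▸ inferInstance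
  haveI : QuasiCompact j := QuasiCompact.of_comp j (pullback.fst g (e ≫ s))
  have hreg : RegImm.IsRegularImmersion RegImm.Kind.h1 j :=
    (SDiv28.RegImmKinds.implications j).2.1 (Synt15.isRegularImmersion_of_isKoszulPt j fun z =>
      Synt15.isKoszulPt_of_comp_smooth j q (by rw [hj₂]; exact hk₀ z))
  haveI : PreirreducibleSpace ↥((i ⁻¹ᵁ W : X.Opens) : Scheme.{u}) := by
    rcases isEmpty_or_nonempty ↥((i ⁻¹ᵁ W : X.Opens) : Scheme.{u}) with h | h
    · exact ⟨Set.subsingleton_univ.isPreirreducible⟩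
    · haveI : IsIntegral ((i ⁻¹ᵁ W : X.Opens) : Scheme.{u}) := isIntegral_of_isOpenImmersion (Scheme.Opens.ι (i ⁻¹ᵁ W))
      infer_instance
  obtain ⟨cj, hNj⟩ := exists_rank_of_preirreducible (RegImmH1.isFinLocFree_conormal j hreg)
  obtain ⟨ω₁, hω₁⟩ := exists_isCanonicalVia j q hNj (FundLocal.isFinLocFreeOfRank_omega_qs q n)
  have hN := isFinLocFreeOfRank_conormal_immersion i hi
  have hvia₀ := isCanonicalVia_restrict i g W (LocFreeLib.isFinLocFree_of_rank hN)
    (LocFreeLib.isFinLocFree_of_rank (FundLocal.isFinLocFreeOfRank_omega_qs g n)) hvia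
  obtain ⟨θ, hθ⟩ := exists_conormalMap (i := i₃) (i' := i) (g := Scheme.Opens.ι W)
    (gZ := Scheme.Opens.ι (i ⁻¹ᵁ W)) (isPullback_morphismRestrict i W).w.symm
  haveI : IsIso θ := (S9372.result i₃ i (Scheme.Opens.ι W) (Scheme.Opens.ι (i ⁻¹ᵁ W))
    (isPullback_morphismRestrict i W) θ hθ).2 inferInstance
  have hN₃ := rank_of_iso (asIso θ) (VarietyLib.isFinLocFreeOfRank_pullback (Scheme.Opens.ι (i ⁻¹ᵁ W)) hN)
  obtain ⟨ee⟩ := nonempty_canonical_comp g e s hNB j hreg hNj i₃ g₃ hN₃ (hi3.trans (by rw [hj₂])) hω₁ hωB hvia₀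
  -- to the generic point
  let K := B.presheaf.stalk η
  let u := Scheme.Opens.fromSpecStalkOfMem B₀ η hη
  have hu : u ≫ Scheme.Opens.ι B₀ = B.fromSpecStalk η := Scheme.Opens.fromSpecStalkOfMem_ι _ _ _
  haveI : Flat (B.fromSpecStalk η) := Props12.flat_fromSpecStalk η
  have squ : IsPullback u (𝟙 _) (Scheme.Opens.ι B₀) (B.fromSpecStalk η) :=
    IsPullback.of_vert_isIso_mono ⟨by rw [hu, Category.id_comp]⟩
  haveI : Flat u := MorphismProperty.of_isPullback squ.flip ‹Flat (B.fromSpecStalk η)›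
  let P := pullback π (B.fromSpecStalk η)
  have hrange : pullback.fst π (B.fromSpecStalk η) ≫ π = (pullback.snd π (B.fromSpecStalk η) ≫ u) ≫ Scheme.Opens.ι B₀ := by
    rw [Category.assoc, hu]
    exact pullback.condition
  let p₀ : P ⟶ ((i ⁻¹ᵁ W : X.Opens) : Scheme.{u}) := sq₀.lift (pullback.fst π (B.fromSpecStalk η))
    (pullback.snd π (B.fromSpecStalk η) ≫ u) hrange
  have hp₁ : p₀ ≫ Scheme.Opens.ι (i ⁻¹ᵁ W) = pullback.fst π (B.fromSpecStalk η) := sq₀.lift_fst _ _ _
  have hp₂ : p₀ ≫ π₀ = pullback.snd π (B.fromSpecStalk η) ≫ u := sq₀.lift_snd _ _ _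
  have sqP : IsPullback p₀ (pullback.snd π (B.fromSpecStalk η)) π₀ u :=
    IsPullback.of_right (by rw [hp₁, hu]; exact IsPullback.of_hasPullback π (B.fromSpecStalk η)) hp₂ sq₀
  haveI : IsLocallyNoetherian (Spec K) := inferInstance
  have hcan := isCanonical_baseChange_flat π₀ j q hj₂ hk₀ hNj hω₁ u p₀ (pullback.snd π (B.fromSpecStalk η)) sqP
  obtain ⟨CB, DB, hCB, hDB, ⟨eB⟩⟩ := hωB
  have iωB : PicF.IsInvertible ωB := isInvertible_of_cancel (Canon15.isInvertible_of_isExtPow hNB hCB)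
    (isInvertible_pullback' e (Canon15.isInvertible_of_isExtPow (FundLocal.isFinLocFreeOfRank_omega_qs s NB) hDB)) eB
  have hKf : IsField K := Field.toIsField _
  haveI : Subsingleton (Spec K) :=
    letI := hKf.toField
    (inferInstance : Subsingleton (PrimeSpectrum K))
  haveI : Nonempty (Spec K) :=
    letI := hKf.toField
    (inferInstance : Nonempty (PrimeSpectrum K))
  obtain ⟨t⟩ := nonempty_iso_structure_of_point _ (isInvertible_pullback' u iωB)
  obtain ⟨so⟩ := AmpleLib.exists_pullStructureIso (pullback.snd π (B.fromSpecStalk η))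
  refine isCanonical_of_iso ?_ hcan
  exact (AmpleLib.tensorIso (Iso.refl _)
      ((Scheme.Modules.pullbackComp p₀ π₀).app ωB ≪≫ (Scheme.Modules.pullbackCongr hp₂).app ωB ≪≫
        ((Scheme.Modules.pullbackComp (pullback.snd π (B.fromSpecStalk η)) u).app ωB).symm ≪≫
        (Scheme.Modules.pullback _).mapIso t ≪≫ so) ≪≫ AmpleLib.tensorComm _ _ ≪≫ AmpleLib.unitTensorIso _).symm ≪≫
    (DCat.PullTensor.pullTensorIso p₀ ω₁ _).symm ≪≫
    (Scheme.Modules.pullback p₀).mapIso
      (ee ≪≫ AmpleLib.tensorIso (Iso.refl ω₁) ((Scheme.Modules.pullbackCongr hj₂).app ωB)).symm ≪≫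
    (Scheme.Modules.pullbackComp p₀ (Scheme.Opens.ι (i ⁻¹ᵁ W))).app ω ≪≫ (Scheme.Modules.pullbackCongr hp₁).app ω

end Groth.Agent.Omega15
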