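import Groth.Agent.Omega15.FactorSeq15
import Groth.Agent.FundLocal.SmoothImm
import Groth.Agent.FundLocal.TopForms
import Groth.Agent.EulerPn5.CanonOver
import Groth.Agent.VarietyLib.CurveDegree
import Groth.Agent.Hyper5.QCohExt
import Groth.Agent.ExtPow5.PullQC

/-! The canonical sheaf does not depend on the factorisation. -/

set_option autoImplicit false
set_option backward.isDefEq.respectTransparency.types false
set_option backward.isDefEq.respectTransparency false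
set_option linter.style.haveILetI false
universe u

open CategoryTheory CategoryTheory.Limits AlgebraicGeometry TopologicalSpace Opposite
open scoped TensorProduct

noncomputable section

namespace Groth.Agent.Omega15

open OmegaLib Thick15

variable {Z Y X V V' : Scheme.{u}}

/-- conormal sheaf of a regular immersion of codimension `c` -/
theorem isFinLocFreeOfRank_conormal_immersion (i : Z ⟶ Y) [IsImmersion i] [QuasiCompact i] {c : ℕ}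
    (hi : RegImm.IsRegularImmersionOfCodim RegImm.Kind.regular c i) : FlatMod.IsFinLocFreeOfRank c (Omega.conormal i) := by
  intro x
  obtain ⟨⟨W, hW⟩, hxW, hc, rs, rfl, hrs₀, hker⟩ := hi.2 x
  have hrs := SDiv28.RegSeq.seq_of_koszul (SDiv28.RegSeq.seq_koszul_of_regular hrs₀.toIsWeaklyRegular)
  haveI : IsClosedImmersion (i ∣_ W) := hc
  haveI : IsAffine (W : Scheme.{u}) := hW
  let τ : Γ(Y, W) →+* Γ((W : Scheme.{u}), ⊤) := W.topIso.inv.hom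
  have hfl : τ.Flat := RingHom.Flat.of_bijective (ConcreteCategory.bijective_of_isIso W.topIso.inv)
  have key : ∀ {V : Y.Opens} (hV : W.ι ''ᵁ ⊤ = V),
      RingHom.ker (i ∣_ W).appTop.hom = (RingHom.ker (i.app V).hom).map (Y.presheaf.map (eqToHom hV).op).hom := by
    rintro V rfl
    show RingHom.ker ((i ∣_ W).app ⊤).hom = _
    rw [morphismRestrict_app, CommRingCat.hom_comp,
      RingHom.ker_comp_of_injective _ (ConcreteCategory.bijective_of_isIso _).1]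
    simp
  have hk : RingHom.ker (i ∣_ W).appTop.hom = Ideal.span (Set.range fun k => τ (rs.get k)) := by
    rw [key (Scheme.Opens.ι_image_top W), hker, Ideal.map_ofList]
    show Ideal.ofList _ = Ideal.span (Set.range fun k => τ (rs.get k))
    rw [Ideal.ofList]
    congr 1
    ext a
    simp only [List.mem_map, Set.mem_range]
    constructor
    · rintro ⟨c, hc, rfl⟩
      obtain ⟨k, rfl⟩ := List.mem_iff_get.1 hc
      exact ⟨k, rfl⟩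
    · rintro ⟨k, rfl⟩
      exact ⟨rs.get k, List.get_mem _ _, rfl⟩
  have hrs' : CAlgX.IsH1Regular fun k : Fin rs.length => τ (rs.get k) := by
    letI := τ.toAlgebra
    haveI : Module.Flat Γ(Y, W) Γ((W : Scheme.{u}), ⊤) := hfl
    exact SDiv28.RegSeq.isH1Regular_map (S := Γ((W : Scheme.{u}), ⊤)) hrs
  obtain ⟨ef⟩ := RegImmH1.exists_iso_freeMod_conormal (i ∣_ W) _ hrs' hk
  have sq : IsPullback (i ∣_ W) (i ⁻¹ᵁ W).ι W.ι i := isPullback_morphismRestrict i W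
  obtain ⟨θ, hθ⟩ := exists_conormalMap (i := i ∣_ W) (i' := i) (g := W.ι) (gZ := (i ⁻¹ᵁ W).ι) sq.w.symm
  haveI : IsIso θ := (S9372.result (i ∣_ W) i W.ι (i ⁻¹ᵁ W).ι sq θ hθ).2 inferInstance
  exact ⟨i ⁻¹ᵁ W, hxW, ⟨(Scheme.Modules.restrictFunctorIsoPullback (i ⁻¹ᵁ W).ι).app _ ≪≫ asIso θ ≪≫ ef⟩⟩

theorem freeAt_of_rank {M : X.Modules} {n : ℕ} (h : FlatMod.IsFinLocFreeOfRank n M) (x : X) : FreeAt n M x :=
  SplitP1.nonempty_basis_stalk h x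

theorem rank_of_iso {M N : X.Modules} (e : M ≅ N) {n : ℕ} (h : FlatMod.IsFinLocFreeOfRank n M) :
    FlatMod.IsFinLocFreeOfRank n N := fun x =>
  let ⟨U, hx, ⟨f⟩⟩ := h x
  ⟨U, hx, ⟨(Scheme.Modules.restrictFunctor U.ι).mapIso e.symm ≪≫ f⟩⟩

/-- `ω ⊗ det N ≅ det Ω` determines `ω` independently of the factorisation -/
theorem nonempty_canonical_iso (g₁ : V ⟶ Y) (g₂ : V' ⟶ Y) [Smooth g₁] [Smooth g₂] [QuasiSeparated g₁] [QuasiSeparated g₂]
    (i₁ : X ⟶ V) (i₂ : X ⟶ V') [IsImmersion i₁] [IsImmersion i₂] [QuasiCompact i₁] [QuasiCompact i₂]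
    (h : i₁ ≫ g₁ = i₂ ≫ g₂) {c₁ n₁ c₂ n₂ : ℕ}
    (hN₁ : FlatMod.IsFinLocFreeOfRank c₁ (Omega.conormal i₁)) (hN₂ : FlatMod.IsFinLocFreeOfRank c₂ (Omega.conormal i₂))
    (hΩ₁ : FlatMod.IsFinLocFreeOfRank n₁ (Omega.sheaf g₁)) (hΩ₂ : FlatMod.IsFinLocFreeOfRank n₂ (Omega.sheaf g₂))
    {ω₁ ω₂ : X.Modules} (hω₁ : Canon.IsCanonicalVia i₁ g₁ c₁ n₁ ω₁) (hω₂ : Canon.IsCanonicalVia i₂ g₂ c₂ n₂ ω₂) :
    Nonempty (ω₁ ≅ ω₂) := by
  rcases isEmpty_or_nonempty X with hX | hX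
  · exact ⟨(FundLocal.isZero_of_isEmpty _).iso (FundLocal.isZero_of_isEmpty _)⟩
  obtain ⟨C₁, D₁, hC₁, hD₁, ⟨e₁⟩⟩ := hω₁
  obtain ⟨C₂, D₂, hC₂, hD₂, ⟨e₂⟩⟩ := hω₂
  let j : X ⟶ pullback g₁ g₂ := pullback.lift i₁ i₂ h
  have hj₁ : j ≫ pullback.fst g₁ g₂ = i₁ := pullback.lift_fst _ _ _
  have hj₂ : j ≫ pullback.snd g₁ g₂ = i₂ := pullback.lift_snd _ _ _
  haveI : IsImmersion (j ≫ pullback.fst g₁ g₂) := hj₁ ▸ inferInstance
  haveI : IsImmersion j := IsImmersion.of_comp j (pullback.fst g₁ g₂)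
  haveI : QuasiCompact (j ≫ pullback.fst g₁ g₂) := hj₁ ▸ inferInstance
  haveI : QuasiCompact j := QuasiCompact.of_comp j (pullback.fst g₁ g₂)
  obtain ⟨S, hS, ⟨a₁⟩, ⟨a₂⟩, ⟨a₃⟩⟩ := exists_conormal_ses (IsPullback.of_hasPullback g₁ g₂) (𝟙 _) j i₁ i₂
    (by rw [Category.id_comp, hj₁]) (by rw [Category.id_comp, hj₂]) (OmegaLib.isUniversal_dOmega g₂)
  obtain ⟨S', hS', ⟨b₁⟩, ⟨b₂⟩, ⟨b₃⟩⟩ := exists_conormal_ses (IsPullback.of_hasPullback g₁ g₂).flip (𝟙 _) j i₂ i₁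
    (by rw [Category.id_comp, hj₂]) (by rw [Category.id_comp, hj₁]) (OmegaLib.isUniversal_dOmega g₁)
  have hF₁ := VarietyLib.isFinLocFreeOfRank_pullback i₁ hΩ₁
  have hF₂ := VarietyLib.isFinLocFreeOfRank_pullback i₂ hΩ₂
  have hS₁ := rank_of_iso a₁.symm hN₁
  have hS₃ := rank_of_iso a₃.symm hF₂
  have hS₁' := rank_of_iso b₁.symm hN₂
  have hS₃' := rank_of_iso b₃.symm hF₁
  obtain ⟨x⟩ := hX
  have hr : c₁ + n₂ = c₂ + n₁ :=
    ((FreeAt.shortExact hS (freeAt_of_rank hS₁ x) (freeAt_of_rank hS₃ x)).of_iso (a₂ ≪≫ b₂.symm)).unique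
      (FreeAt.shortExact hS' (freeAt_of_rank hS₁' x) (freeAt_of_rank hS₃' x))
  have hX₂ : FlatMod.IsFinLocFree S.X₂ := ExtFilt28.isFinLocFree_extension hS (LocFreeLib.isFinLocFree_of_rank hS₁)
    (LocFreeLib.isFinLocFree_of_rank hS₃)
  obtain ⟨D, hDf, hD⟩ := ExtPowEx28.exists_isExtPow hX₂ (c₁ + n₂)
  haveI := CAlgH3.LocFreeFactor.isQCoh_of_finLocFree hDf
  have hD' : ExtPow.IsExtPow (c₂ + n₁) S'.X₂ D := hr ▸ EulerPn5.CanonOver.isExtPow_congr_source (a₂ ≪≫ b₂.symm) hD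
  let F₁ := (Scheme.Modules.pullback i₁).obj D₁
  let F₂ := (Scheme.Modules.pullback i₂).obj D₂
  have iC₁ := Canon15.isInvertible_of_isExtPow hN₁ hC₁
  have iC₂ := Canon15.isInvertible_of_isExtPow hN₂ hC₂
  have iD₁ := Canon15.isInvertible_of_isExtPow hΩ₁ hD₁
  have iD₂ := Canon15.isInvertible_of_isExtPow hΩ₂ hD₂
  haveI := CAlgH3.LocFreeFactor.isQCoh_of_finLocFree (SerreDual.isFinLocFree_of_invertible iC₁)
  haveI := CAlgH3.LocFreeFactor.isQCoh_of_finLocFree (SerreDual.isFinLocFree_of_invertible iC₂)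
  haveI : Coh.IsQCoh F₁ := CAlgH3.LocFreeFactor.isQCoh_of_finLocFree
    (DCat.PullPerf.isFinLocFree_pullback i₁ (SerreDual.isFinLocFree_of_invertible iD₁))
  haveI : Coh.IsQCoh F₂ := CAlgH3.LocFreeFactor.isQCoh_of_finLocFree
    (DCat.PullPerf.isFinLocFree_pullback i₂ (SerreDual.isFinLocFree_of_invertible iD₂))
  have p₁ : ExtPow.IsExtPow n₁ S'.X₃ F₁ := EulerPn5.CanonOver.isExtPow_congr_source b₃.symm
    (ExtPowEx28.isExtPow_pullback_vb i₁ (LocFreeLib.isFinLocFree_of_rank hΩ₁) hD₁)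
  have p₂ : ExtPow.IsExtPow n₂ S.X₃ F₂ := EulerPn5.CanonOver.isExtPow_congr_source a₃.symm
    (ExtPowEx28.isExtPow_pullback_vb i₂ (LocFreeLib.isFinLocFree_of_rank hΩ₂) hD₂)
  obtain ⟨t⟩ := FundLocal.nonempty_det_iso hS hS₁ hS₃ (EulerPn5.CanonOver.isExtPow_congr_source a₁.symm hC₁) hD p₂
  obtain ⟨t'⟩ := FundLocal.nonempty_det_iso hS' hS₁' hS₃' (EulerPn5.CanonOver.isExtPow_congr_source b₁.symm hC₂) hD' p₁
  let C := CohB1.tensorMod C₁ C₂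
  have iC : PicF.IsInvertible C := AmpleLib.isInvertible_tensorMod iC₁ iC₂
  let E₂ : CohB1.tensorMod C ω₂ ≅ D :=
    DCat.TensorAssoc.assocIso C₁ C₂ ω₂ ≪≫ AmpleLib.tensorIso (Iso.refl C₁) (AmpleLib.tensorComm C₂ ω₂ ≪≫ e₂) ≪≫ t
  let E₁ : CohB1.tensorMod C ω₁ ≅ D :=
    AmpleLib.tensorIso (AmpleLib.tensorComm C₁ C₂) (Iso.refl ω₁) ≪≫ DCat.TensorAssoc.assocIso C₂ C₁ ω₁ ≪≫
      AmpleLib.tensorIso (Iso.refl C₂) (AmpleLib.tensorComm C₁ ω₁ ≪≫ e₁) ≪≫ t'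
  obtain ⟨u₁⟩ := FundLocal.nonempty_internalHom_cancel iC E₁
  obtain ⟨u₂⟩ := FundLocal.nonempty_internalHom_cancel iC E₂
  exact ⟨u₁.symm ≪≫ u₂⟩

end Groth.Agent.Omega15
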