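import Groth.Agent.Omega15.CanonIndep15
import Groth.Agent.DCat.PullTensor
import Groth.Agent.KvbLam28.Basic
import Groth.Agent.S9372

/-! The canonical sheaf on the smooth locus. -/

set_option autoImplicit false
set_option backward.isDefEq.respectTransparency.types false
set_option backward.isDefEq.respectTransparency false
set_option linter.style.haveILetI false
universe u

open CategoryTheory CategoryTheory.Limits AlgebraicGeometry TopologicalSpace Opposite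

noncomputable section

namespace Groth.Agent.Omega15

open OmegaLib Thick15

variable {Z Y X : Scheme.{u}}

theorem isZero_conormal_id : IsZero (Omega.conormal (𝟙 X)) := by
  rw [IsZero.iff_id_eq_zero]
  refine Scheme.Modules.hom_ext _ _ fun U => ConcreteCategory.hom_ext _ _ fun a => ?_
  refine AmpleLib.sec_ext (Omega.conormal (𝟙 X)) _ _ fun y hy => ?_
  obtain ⟨π, hπ⟩ := exists_pi (𝟙 X) y (y := y) rfl
  haveI : Subsingleton ((DerSch.stalkFunctor X y).obj (Omega.conormal (𝟙 X))) := by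
    refine subsingleton_of_forall_eq 0 fun m => ?_
    obtain ⟨r, rfl⟩ := hπ.1 m
    refine (hπ.2.1 r).2 ?_
    have h : r.1 = 0 := (RegImmH1.tm_id_apply y r.1).symm.trans r.2
    rw [h]
    exact zero_mem _
  obtain ⟨W, hyW, iU, iV, hW⟩ := TopCat.Presheaf.germ_eq (Omega.conormal (𝟙 X)).presheaf y hy hy _ _
    (Subsingleton.elim (α := (DerSch.stalkFunctor X y).obj (Omega.conormal (𝟙 X))) _ _)
  exact ⟨W, leOfHom iU, hyW, hW⟩

/-- a factorisation restricted to an open of the ambient scheme -/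
theorem isCanonicalVia_restrict (i : X ⟶ Z) [IsImmersion i] [QuasiCompact i] (g : Z ⟶ Y) [QuasiSeparated g]
    (W : Z.Opens) [QuasiSeparated ((Scheme.Opens.ι W) ≫ g)] {c n : ℕ} (hN : FlatMod.IsFinLocFree (Omega.conormal i))
    (hΩ : FlatMod.IsFinLocFree (Omega.sheaf g)) {ω : X.Modules} (h : Canon.IsCanonicalVia i g c n ω) :
    Canon.IsCanonicalVia (i ∣_ W) ((Scheme.Opens.ι W) ≫ g) c n
      ((Scheme.Modules.pullback (Scheme.Opens.ι (i ⁻¹ᵁ W))).obj ω) := by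
  haveI : IsImmersion (i ∣_ W) := MorphismProperty.of_isPullback (isPullback_morphismRestrict i W).flip inferInstance
  haveI : QuasiCompact (i ∣_ W) := MorphismProperty.of_isPullback (isPullback_morphismRestrict i W).flip inferInstance
  obtain ⟨DC, DΩ, hC, hD, ⟨e⟩⟩ := h
  have sq : IsPullback (i ∣_ W) (Scheme.Opens.ι (i ⁻¹ᵁ W)) (Scheme.Opens.ι W) i := isPullback_morphismRestrict i W
  obtain ⟨θ, hθ⟩ := exists_conormalMap (i := i ∣_ W) (i' := i) (g := Scheme.Opens.ι W)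
    (gZ := Scheme.Opens.ι (i ⁻¹ᵁ W)) sq.w.symm
  haveI : IsIso θ := (S9372.result (i ∣_ W) i (Scheme.Opens.ι W) (Scheme.Opens.ι (i ⁻¹ᵁ W)) sq θ hθ).2 inferInstance
  have hsq : (Scheme.Opens.ι W) ≫ g = ((Scheme.Opens.ι W) ≫ g) ≫ 𝟙 Y := (Category.comp_id _).symm
  obtain ⟨cc, hcc, -⟩ := existsUnique_compat (Scheme.Opens.ι W) (𝟙 Y) hsq.symm (OmegaLib.isUniversal_dOmega g)
    (OmegaSh.dOmega ((Scheme.Opens.ι W) ≫ g))
  haveI := isIso_of_etale (Scheme.Opens.ι W) (𝟙 Y) hsq (OmegaLib.isUniversal_dOmega g)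
    (OmegaLib.isUniversal_dOmega ((Scheme.Opens.ι W) ≫ g)) hcc
  refine ⟨(Scheme.Modules.pullback (Scheme.Opens.ι (i ⁻¹ᵁ W))).obj DC, (Scheme.Modules.pullback (Scheme.Opens.ι W)).obj DΩ,
    EulerPn5.CanonOver.isExtPow_congr_source (asIso θ) (ExtPowEx28.isExtPow_pullback_vb _ hN hC),
    EulerPn5.CanonOver.isExtPow_congr_source (asIso cc) (ExtPowEx28.isExtPow_pullback_vb _ hΩ hD), ⟨?_⟩⟩
  exact (DCat.PullTensor.pullTensorIso (Scheme.Opens.ι (i ⁻¹ᵁ W)) ω DC).symm ≪≫ (Scheme.Modules.pullback _).mapIso e ≪≫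
    (Scheme.Modules.pullbackComp _ i).app DΩ ≪≫ (Scheme.Modules.pullbackCongr sq.w.symm).app DΩ ≪≫
    ((Scheme.Modules.pullbackComp (i ∣_ W) (Scheme.Opens.ι W)).app DΩ).symm

/-- on an open where `f` is smooth the canonical sheaf is the top exterior power of `Ω` -/
theorem isTopDiff_restrict (i : X ⟶ Z) [IsImmersion i] [QuasiCompact i] (g : Z ⟶ Y) [QuasiSeparated g] [IsLocallyNoetherian Z]
    {c n : ℕ} [SmoothOfRelativeDimension n g] (hi : RegImm.IsRegularImmersionOfCodim RegImm.Kind.regular c i)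
    {ω : X.Modules} (h : Canon.IsCanonicalVia i g c n ω) (W : Z.Opens) (d : ℕ)
    [SmoothOfRelativeDimension d ((Scheme.Opens.ι (i ⁻¹ᵁ W)) ≫ i ≫ g)]
    [QuasiSeparated ((Scheme.Opens.ι (i ⁻¹ᵁ W)) ≫ i ≫ g)] :
    Canon.IsTopDiff ((Scheme.Opens.ι (i ⁻¹ᵁ W)) ≫ i ≫ g) d ((Scheme.Modules.pullback (Scheme.Opens.ι (i ⁻¹ᵁ W))).obj ω) := by
  let f' := (Scheme.Opens.ι (i ⁻¹ᵁ W)) ≫ i ≫ g
  haveI : Smooth g := SmoothOfRelativeDimension.smooth n g
  haveI : Smooth f' := SmoothOfRelativeDimension.smooth d f'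
  have hN := isFinLocFreeOfRank_conormal_immersion i hi
  have hΩ := FundLocal.isFinLocFreeOfRank_omega_qs g n
  haveI : IsImmersion (i ∣_ W) := MorphismProperty.of_isPullback (isPullback_morphismRestrict i W).flip inferInstance
  haveI : QuasiCompact (i ∣_ W) := MorphismProperty.of_isPullback (isPullback_morphismRestrict i W).flip inferInstance
  have hc := isCanonicalVia_restrict i g W (LocFreeLib.isFinLocFree_of_rank hN) (LocFreeLib.isFinLocFree_of_rank hΩ) h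
  obtain ⟨θ, hθ⟩ := exists_conormalMap (i := i ∣_ W) (i' := i) (g := Scheme.Opens.ι W)
    (gZ := Scheme.Opens.ι (i ⁻¹ᵁ W)) (isPullback_morphismRestrict i W).w.symm
  haveI : IsIso θ := (S9372.result (i ∣_ W) i (Scheme.Opens.ι W) (Scheme.Opens.ι (i ⁻¹ᵁ W))
    (isPullback_morphismRestrict i W) θ hθ).2 inferInstance
  have hNW := rank_of_iso (asIso θ) (VarietyLib.isFinLocFreeOfRank_pullback (Scheme.Opens.ι (i ⁻¹ᵁ W)) hN)
  haveI : SmoothOfRelativeDimension n ((Scheme.Opens.ι W) ≫ g) := by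
    simpa using (inferInstance : SmoothOfRelativeDimension (0 + n) ((Scheme.Opens.ι W) ≫ g))
  have hΩW := FundLocal.isFinLocFreeOfRank_omega_qs ((Scheme.Opens.ι W) ≫ g) n
  have h0 : FlatMod.IsFinLocFreeOfRank 0 (Omega.conormal (𝟙 ((i ⁻¹ᵁ W : X.Opens) : Scheme.{u}))) := fun x =>
    ⟨⊤, trivial, ⟨((Scheme.Modules.restrictFunctor _).map_isZero isZero_conormal_id).iso
      ((IsZero.iff_id_eq_zero _).2 (Limits.Sigma.hom_ext _ _ fun j => j.elim0))⟩⟩
  have hΩ' := FundLocal.isFinLocFreeOfRank_omega_qs f' d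
  obtain ⟨L, -, hL⟩ := ExtPowEx28.exists_isExtPow (LocFreeLib.isFinLocFree_of_rank hΩ') d
  have hc' : Canon.IsCanonicalVia (𝟙 ((i ⁻¹ᵁ W : X.Opens) : Scheme.{u})) f' 0 d L :=
    ⟨_, L, KvbLam28.isExtPow_zero _, hL, ⟨AmpleLib.tensorComm _ _ ≪≫ AmpleLib.unitTensorIso L ≪≫
      ((Scheme.Modules.pullbackId _).app L).symm⟩⟩
  obtain ⟨e⟩ := nonempty_canonical_iso ((Scheme.Opens.ι W) ≫ g) f' (i ∣_ W) (𝟙 _)
    (by rw [Category.id_comp, morphismRestrict_ι_assoc]) hNW h0 hΩW hΩ' hc hc'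
  show ExtPow.IsExtPow d (Omega.sheaf f') _
  exact ExtPowEx28.isExtPow_of_iso e.symm hL

end Groth.Agent.Omega15
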