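import Groth.Agent.Omega15.CanonSmooth15
import Groth.Agent.CAlgH3.RelRegularBC

/-! Base change of conormal sheaves of relative regular immersions, and of canonical sheaves. -/

set_option autoImplicit false
set_option backward.isDefEq.respectTransparency.types false
set_option backward.isDefEq.respectTransparency false
set_option linter.style.haveILetI false
universe u

open CategoryTheory CategoryTheory.Limits AlgebraicGeometry TopologicalSpace Opposite
open scoped TensorProduct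

noncomputable section

namespace Groth.Agent.Omega15

open OmegaLib Thick15

variable {Z Y X : Scheme.{u}}

/-- conormal sheaf of an `H₁`-regular immersion of codimension `c` -/
theorem isFinLocFreeOfRank_conormal_h1 (i : Z ⟶ Y) [IsImmersion i] [QuasiCompact i] {c : ℕ}
    (hi : RegImm.IsRegularImmersionOfCodim RegImm.Kind.h1 c i) : FlatMod.IsFinLocFreeOfRank c (Omega.conormal i) := by
  intro x
  obtain ⟨⟨W, hW⟩, hxW, hc, rs, rfl, hrs, hker⟩ := hi.2 x
  haveI : IsClosedImmersion (i ∣_ W) := hc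
  haveI : IsAffine (W : Scheme.{u}) := hW
  let τ : Γ(Y, W) →+* Γ((W : Scheme.{u}), ⊤) := W.topIso.inv.hom
  have hfl : τ.Flat := RingHom.Flat.of_bijective (ConcreteCategory.bijective_of_isIso W.topIso.inv)
  have key : ∀ {V : Y.Opens} (hV : W.ι ''ᵁ ⊤ = V),
      RingHom.ker (i ∣_ W).appTop.hom = (RingHom.ker (i.app V).hom).map (Y.presheaf.map (eqToHom hV).op).hom := by
    rintro V rfl
    show RingHom.ker ((i ∣_ W).app ⊤).hom = _
    rw [morphismRestrict_app, CommRingCat.hom_comp,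
      RingHom.ker_comp_of_injective _ (ConcreteCategory.bijective_of_isIso _).1]
    simp
  have hk : RingHom.ker (i ∣_ W).appTop.hom = Ideal.span (Set.range fun k => τ (rs.get k)) := by
    rw [key (Scheme.Opens.ι_image_top W), hker, Ideal.map_ofList]
    show Ideal.ofList _ = Ideal.span (Set.range fun k => τ (rs.get k))
    rw [Ideal.ofList]
    congr 1
    ext a
    simp only [List.mem_map, Set.mem_range]
    constructor
    · rintro ⟨c, hc, rfl⟩
      obtain ⟨k, rfl⟩ := List.mem_iff_get.1 hc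
      exact ⟨k, rfl⟩
    · rintro ⟨k, rfl⟩
      exact ⟨rs.get k, List.get_mem _ _, rfl⟩
  have hrs' : CAlgX.IsH1Regular fun k : Fin rs.length => τ (rs.get k) := by
    letI := τ.toAlgebra
    haveI : Module.Flat Γ(Y, W) Γ((W : Scheme.{u}), ⊤) := hfl
    exact SDiv28.RegSeq.isH1Regular_map (S := Γ((W : Scheme.{u}), ⊤)) hrs
  obtain ⟨ef⟩ := RegImmH1.exists_iso_freeMod_conormal (i ∣_ W) _ hrs' hk
  have sq : IsPullback (i ∣_ W) (i ⁻¹ᵁ W).ι W.ι i := isPullback_morphismRestrict i W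
  obtain ⟨θ, hθ⟩ := exists_conormalMap (i := i ∣_ W) (i' := i) (g := W.ι) (gZ := (i ⁻¹ᵁ W).ι) sq.w.symm
  haveI : IsIso θ := (S9372.result (i ∣_ W) i W.ι (i ⁻¹ᵁ W).ι sq θ hθ).2 inferInstance
  exact ⟨i ⁻¹ᵁ W, hxW, ⟨(Scheme.Modules.restrictFunctorIsoPullback (i ⁻¹ᵁ W).ι).app _ ≪≫ asIso θ ≪≫ ef⟩⟩

/-- base change of a relative `H₁`-regular immersion keeps the codimension -/
theorem baseChange_codim {Z X S S' : Scheme.{u}} (f : X ⟶ S) (i : Z ⟶ X) [Flat (i ≫ f)] {c : ℕ}
    (hi : RegImm.IsRegularImmersionOfCodim RegImm.Kind.h1 c i) (g : S' ⟶ S) :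
    RegImm.IsRegularImmersionOfCodim RegImm.Kind.h1 c (pullback.snd i (pullback.fst f g)) := by
  obtain ⟨himm, hreg⟩ := hi
  have hflat : Flat (i ≫ f) := inferInstance
  have hk : RegImm.Kind.h1 = RegImm.Kind.h1 ∨ RegImm.Kind.h1 = RegImm.Kind.quasi := Or.inl rfl
  have hsq : IsPullback (pullback.fst i (pullback.fst f g)) (pullback.snd i (pullback.fst f g)) i (pullback.fst f g) :=
    IsPullback.of_hasPullback _ _
  have H := IsPullback.of_hasPullback f g
  refine ⟨MorphismProperty.of_isPullback (P := @IsImmersion) hsq himm, fun z => ?_⟩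
  obtain ⟨⟨U, hU⟩, hz, hc, rs, hlen, hrs, hker⟩ := hreg (pullback.fst i (pullback.fst f g) z)
  haveI := hc
  obtain ⟨x', hx'⟩ : ∃ x', x' = pullback.snd i (pullback.fst f g) z := ⟨_, rfl⟩
  have hxU : pullback.fst f g x' ∈ U := by
    rw [hx', ← Scheme.Hom.comp_apply, ← hsq.w, Scheme.Hom.comp_apply]
    exact hz
  obtain ⟨V, hV, hxV, -⟩ := exists_isAffineOpen_mem_and_subset (x := f (pullback.fst f g x'))
    (U := (⊤ : S.Opens)) trivial
  obtain ⟨U₁, hU₁, hxU₁, hle⟩ := exists_isAffineOpen_mem_and_subset (x := pullback.fst f g x')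
    (U := U ⊓ f ⁻¹ᵁ V) ⟨hxU, hxV⟩
  have hleU : U₁ ≤ U := fun y hy => (hle hy).1
  have e : U₁ ≤ f ⁻¹ᵁ V := fun y hy => (hle hy).2
  obtain ⟨hc₁, hker₁⟩ := CAlgH.KoszulChart.restrict i hU hU₁ hleU
  haveI := hc₁
  rw [hker, Ideal.map_ofList] at hker₁
  have hrs₁ : RegImm.Kind.h1.Seq Γ(X, U₁) (rs.map (X.presheaf.map (homOfLE hleU).op).hom) := by
    have hfl := CAlgH.KoszulChart.flat_restrict hU hU₁ hleU
    algebraize [(X.presheaf.map (homOfLE hleU).op).hom]
    show CAlgX.IsH1Regular (rs.map (algebraMap Γ(X, U) Γ(X, U₁))).get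
    rw [SDiv28.RegImmKinds.get_map, SDiv28.RegImmKinds.h1_cast]
    exact SDiv28.RegSeq.isH1Regular_map (S := Γ(X, U₁)) hrs
  have hy : pullback.snd f g x' ∈ g ⁻¹ᵁ V := by
    show g (pullback.snd f g x') ∈ V
    rw [← Scheme.Hom.comp_apply, ← H.w, Scheme.Hom.comp_apply]
    exact hxV
  obtain ⟨V', hV', hyV', e'⟩ := exists_isAffineOpen_mem_and_subset (U := g ⁻¹ᵁ V) hy
  have e' : V' ≤ g ⁻¹ᵁ V := e'
  let P₀ := pullback.fst f g ⁻¹ᵁ U₁ ⊓ pullback.snd f g ⁻¹ᵁ V'
  have hxP : x' ∈ P₀ := ⟨hxU₁, hyV'⟩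
  haveI : IsAffine U₁.toScheme := hU₁
  haveI : IsAffine V'.toScheme := hV'
  haveI : IsAffine V.toScheme := hV
  have hP₀ : IsAffineOpen P₀ :=
    .of_isIso (Scheme.Hom.isPullback_resLE H e' e (rfl : P₀ = _)).isoPullback.hom
  have hp := (isIso_pushoutSection_iff H e' e (rfl : P₀ = _)).mp
    (isIso_pushoutSection_of_isAffineOpen H e' e rfl hV hV' hU₁)
  obtain ⟨hc', hk'⟩ := CAlgH.KoszulChart.baseChange i (pullback.fst f g) _ _ hsq hU₁ hP₀
    (inf_le_left : P₀ ≤ pullback.fst f g ⁻¹ᵁ U₁)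
  rw [hker₁, Ideal.map_ofList] at hk'
  have hfl := CAlgH3.RelRegularBC.flat_quotient f i hU₁ hV e
  rw [hker₁] at hfl
  letI : Algebra Γ(S, V) Γ(X, U₁) := (f.appLE V U₁ e).hom.toAlgebra
  letI : Algebra Γ(S, V) Γ(S', V') := (g.appLE V V' e').hom.toAlgebra
  letI : Algebra Γ(X, U₁) Γ(pullback f g, P₀) :=
    ((pullback.fst f g).appLE U₁ P₀ inf_le_left).hom.toAlgebra
  letI : Algebra Γ(S', V') Γ(pullback f g, P₀) :=
    ((pullback.snd f g).appLE V' P₀ inf_le_right).hom.toAlgebra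
  letI : Algebra Γ(S, V) Γ(pullback f g, P₀) :=
    (f.appLE V U₁ e ≫ (pullback.fst f g).appLE U₁ P₀ inf_le_left).hom.toAlgebra
  haveI : IsScalarTower Γ(S, V) Γ(X, U₁) Γ(pullback f g, P₀) := IsScalarTower.of_algebraMap_eq' rfl
  haveI : IsScalarTower Γ(S, V) Γ(S', V') Γ(pullback f g, P₀) :=
    IsScalarTower.of_algebraMap_eq' (congrArg CommRingCat.Hom.hom hp.w)
  haveI : Algebra.IsPushout Γ(S, V) Γ(S', V') Γ(X, U₁) Γ(pullback f g, P₀) :=
    CommRingCat.isPushout_iff_isPushout.1 hp.flip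
  refine ⟨⟨P₀, hP₀⟩, hx' ▸ hxP, hc', _, ?_, ?_, hk'⟩
  · simp only [List.length_map, hlen]
  exact CAlgH3.RelRegularBC.seq_pushout (A := Γ(S, V)) (A' := Γ(S', V')) _ hk hrs₁ hfl

theorem isIso_of_epi_rank {M N : X.Modules} (φ : M ⟶ N) [Epi φ] {c : ℕ} (hM : FlatMod.IsFinLocFreeOfRank c M)
    (hN : FlatMod.IsFinLocFreeOfRank c N) : IsIso φ := by
  refine ModStalk.isIso_of_stalks φ fun x => ?_
  obtain ⟨bM⟩ := freeAt_of_rank hM x
  obtain ⟨bN⟩ := freeAt_of_rank hN x
  let ψ := (DerSch.stalkFunctor X x).map φ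
  have hs : Function.Surjective ψ.hom := (ModuleCat.epi_iff_surjective ψ).1 inferInstance
  have hi : Function.Injective ((bN.equiv bM (Equiv.refl _)).toLinearMap ∘ₗ ψ.hom) := by
    haveI : Module.Finite (X.presheaf.stalk x) ((DerSch.stalkFunctor X x).obj M) := Module.Finite.of_basis bM
    exact OrzechProperty.injective_of_surjective_endomorphism _ ((bN.equiv bM (Equiv.refl _)).surjective.comp hs)
  exact (ConcreteCategory.isIso_iff_bijective _).2 ⟨fun a b h => hi (congrArg (bN.equiv bM (Equiv.refl _)) h), hs⟩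

/-- canonical sheaves commute with base change, given the conormal sheaf does -/
theorem isCanonicalVia_baseChange {X' Z' Y' : Scheme.{u}} {i : X ⟶ Z} {g : Z ⟶ Y} [QuasiSeparated g]
    {q : Z' ⟶ Z} {g' : Z' ⟶ Y'} {u : Y' ⟶ Y} [QuasiSeparated g'] (sqZ : IsPullback q g' g u)
    {i' : X' ⟶ Z'} {p : X' ⟶ X} (hw : p ≫ i = i' ≫ q)
    (θ : (Scheme.Modules.pullback p).obj (Omega.conormal i) ≅ Omega.conormal i')
    {c n : ℕ} (hN : FlatMod.IsFinLocFree (Omega.conormal i)) (hΩ : FlatMod.IsFinLocFree (Omega.sheaf g))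
    {ω : X.Modules} (h : Canon.IsCanonicalVia i g c n ω) :
    Canon.IsCanonicalVia i' g' c n ((Scheme.Modules.pullback p).obj ω) := by
  obtain ⟨DC, DΩ, hC, hD, ⟨e⟩⟩ := h
  obtain ⟨cc, hcc, -⟩ := existsUnique_compat q u sqZ.w.symm (OmegaLib.isUniversal_dOmega g) (OmegaSh.dOmega g')
  haveI := isIso_of_isPullback sqZ (OmegaLib.isUniversal_dOmega g) (OmegaLib.isUniversal_dOmega g') hcc
  refine ⟨(Scheme.Modules.pullback p).obj DC, (Scheme.Modules.pullback q).obj DΩ,
    EulerPn5.CanonOver.isExtPow_congr_source θ (ExtPowEx28.isExtPow_pullback_vb _ hN hC),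
    EulerPn5.CanonOver.isExtPow_congr_source (asIso cc) (ExtPowEx28.isExtPow_pullback_vb _ hΩ hD), ⟨?_⟩⟩
  exact (DCat.PullTensor.pullTensorIso p ω DC).symm ≪≫ (Scheme.Modules.pullback _).mapIso e ≪≫
    (Scheme.Modules.pullbackComp _ i).app DΩ ≪≫ (Scheme.Modules.pullbackCongr hw).app DΩ ≪≫
    ((Scheme.Modules.pullbackComp i' q).app DΩ).symm

/-- base change of the canonical sheaf, `f` or `u` flat -/
theorem nonempty_canonical_baseChange {Y' : Scheme.{u}} (i : X ⟶ Z) [IsImmersion i] [QuasiCompact i] (g : Z ⟶ Y)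
    [QuasiSeparated g] {c n : ℕ} [SmoothOfRelativeDimension n g]
    (hi : RegImm.IsRegularImmersionOfCodim RegImm.Kind.regular c i) (u : Y' ⟶ Y) (hfl : Flat (i ≫ g) ∨ Flat u)
    {ω : X.Modules} (hω : Canon.IsCanonicalVia i g c n ω)
    {Z₂ : Scheme.{u}} (i₂ : pullback (i ≫ g) u ⟶ Z₂) [IsImmersion i₂] [QuasiCompact i₂] (g₂ : Z₂ ⟶ Y') [QuasiSeparated g₂]
    {c₂ n₂ : ℕ} [SmoothOfRelativeDimension n₂ g₂] (h₂ : i₂ ≫ g₂ = pullback.snd (i ≫ g) u)
    (hi₂ : RegImm.IsRegularImmersionOfCodim RegImm.Kind.regular c₂ i₂) {ω' : (pullback (i ≫ g) u).Modules}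
    (hω' : Canon.IsCanonicalVia i₂ g₂ c₂ n₂ ω') :
    Nonempty (ω' ≅ (Scheme.Modules.pullback (pullback.fst (i ≫ g) u)).obj ω) := by
  haveI : Smooth g := SmoothOfRelativeDimension.smooth n g
  haveI : Smooth g₂ := SmoothOfRelativeDimension.smooth n₂ g₂
  let p := pullback.fst (i ≫ g) u
  let f' := pullback.snd (i ≫ g) u
  let q := pullback.fst g u
  let g' := pullback.snd g u
  haveI : SmoothOfRelativeDimension n g' :=
    (smoothOfRelativeDimension_isStableUnderBaseChange n).of_isPullback (IsPullback.of_hasPullback g u) ‹_›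
  haveI : Smooth g' := SmoothOfRelativeDimension.smooth n g'
  let i' : pullback (i ≫ g) u ⟶ pullback g u := pullback.lift (p ≫ i) f' (by rw [Category.assoc]; exact pullback.condition)
  have hi'q : i' ≫ q = p ≫ i := pullback.lift_fst _ _ _
  have hi'g : i' ≫ g' = f' := pullback.lift_snd _ _ _
  have sq : IsPullback p i' i q := IsPullback.of_bot (by rw [hi'g]; exact IsPullback.of_hasPullback (i ≫ g) u)
    hi'q.symm (IsPullback.of_hasPullback g u)
  haveI : IsImmersion i' := MorphismProperty.of_isPullback sq inferInstance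
  haveI : QuasiCompact i' := MorphismProperty.of_isPullback sq inferInstance
  obtain ⟨φ, hφ⟩ := exists_conormalMap (i := i') (i' := i) (g := q) (gZ := p) sq.w
  obtain ⟨hep, hflat⟩ := S9372.result i' i q p sq.flip φ hφ
  haveI := hep
  have hN := isFinLocFreeOfRank_conormal_immersion i hi
  have hpN := VarietyLib.isFinLocFreeOfRank_pullback p hN
  haveI : IsIso φ := by
    rcases hfl with hf | hu
    · haveI := hf
      have hh : RegImm.IsRegularImmersionOfCodim RegImm.Kind.h1 c i := ⟨hi.1, fun z => by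
        obtain ⟨U, hz, hc, rs, hl, hrs, hker⟩ := hi.2 z
        exact ⟨U, hz, hc, rs, hl,
          SDiv28.RegSeq.seq_of_koszul (SDiv28.RegSeq.seq_koszul_of_regular hrs.toIsWeaklyRegular), hker⟩⟩
      have hh₀ := baseChange_codim g i hh u
      haveI : IsImmersion (pullback.snd i q) := hh₀.1
      have hN₀ := isFinLocFreeOfRank_conormal_h1 (pullback.snd i q) hh₀
      have se : IsPullback i' sq.isoPullback.hom (𝟙 _) (pullback.snd i q) :=
        IsPullback.of_vert_isIso ⟨by rw [Category.comp_id]; exact sq.isoPullback_hom_snd.symm⟩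
      obtain ⟨θ, hθ⟩ := exists_conormalMap (i := i') (i' := pullback.snd i q) (g := 𝟙 _) (gZ := sq.isoPullback.hom) se.w.symm
      haveI : IsIso θ := (S9372.result i' (pullback.snd i q) (𝟙 _) sq.isoPullback.hom se θ hθ).2 inferInstance
      exact isIso_of_epi_rank φ hpN (rank_of_iso (asIso θ) (VarietyLib.isFinLocFreeOfRank_pullback _ hN₀))
    · haveI := hu
      haveI : Flat q := MorphismProperty.of_isPullback (IsPullback.of_hasPullback g u).flip hu
      exact hflat inferInstance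
  exact nonempty_canonical_iso g₂ g' i₂ i' (h₂.trans hi'g.symm) (isFinLocFreeOfRank_conormal_immersion i₂ hi₂)
    (rank_of_iso (asIso φ) hpN) (FundLocal.isFinLocFreeOfRank_omega_qs g₂ n₂) (FundLocal.isFinLocFreeOfRank_omega_qs g' n)
    hω' (isCanonicalVia_baseChange (IsPullback.of_hasPullback g u) sq.w (asIso φ) (LocFreeLib.isFinLocFree_of_rank hN)
      (LocFreeLib.isFinLocFree_of_rank (FundLocal.isFinLocFreeOfRank_omega_qs g n)) hω)

end Groth.Agent.Omega15
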