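import Groth.Agent.Omega15.FactorSeq15
import Groth.Agent.DCat.LiftCriterion
import Groth.Agent.H8Lim.ModSections
import Mathlib.Algebra.Homology.HomologySequence

/-! The two-term cotangent complexes of two smooth factorisations are quasi-isomorphic. -/

set_option autoImplicit false
set_option backward.isDefEq.respectTransparency.types false
set_option backward.isDefEq.respectTransparency false
set_option linter.style.haveILetI false
set_option maxHeartbeats 400000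
universe u v w

open CategoryTheory CategoryTheory.Limits AlgebraicGeometry TopologicalSpace Opposite

noncomputable section

namespace Groth.Agent.Omega15

open OmegaLib Thick15

section abstract

variable {C : Type w} [Category.{v} C] [Abelian C]

theorem quasiIso_f_of_acyclic {S : ShortComplex (CochainComplex C ℤ)} (hS : S.ShortExact) (h : S.X₃.Acyclic) :
    QuasiIso S.f := by
  rw [quasiIso_iff]
  intro i
  rw [quasiIsoAt_iff_isIso_homologyMap]
  have hz : ∀ k, IsZero (S.X₃.homology k) := fun k => (S.X₃.exactAt_iff_isZero_homology k).1 (h k)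
  haveI : Mono (HomologicalComplex.homologyMap S.f i) :=
    (hS.homology_exact₁ (i - 1) i (by simp)).mono_g ((hz (i - 1)).eq_of_src _ _)
  haveI : Epi (HomologicalComplex.homologyMap S.f i) :=
    (hS.homology_exact₂ i).epi_f ((hz i).eq_of_tgt _ _)
  exact isIso_of_mono_of_epi _

theorem rel_neg_one : (ComplexShape.up ℤ).Rel (-1 : ℤ) 0 := neg_add_cancel (1 : ℤ)

/-- enlarging a two-term complex by an acyclic one gives a quasi-isomorphism -/
theorem exists_quasiIso_double {N₁ A N E B : C} (φ : N₁ ⟶ A) (κ : N ⟶ E) (ψ : N₁ ⟶ N) (r : A ⟶ E) (s : E ⟶ B)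
    (hψ : ψ ≫ κ = φ ≫ r) (h₁ : ψ ≫ κ ≫ s = 0) (hS₁ : (ShortComplex.mk ψ (κ ≫ s) h₁).ShortExact) (h₂ : r ≫ s = 0)
    (hS₂ : (ShortComplex.mk r s h₂).ShortExact) (hr : (ComplexShape.up ℤ).Rel (-1 : ℤ) 0) :
    ∃ F : HomologicalComplex.double φ hr ⟶ HomologicalComplex.double κ hr, QuasiIso F := by
  open HomologicalComplex in
  have hne : (-1 : ℤ) ≠ 0 := by decide
  let D := double φ hr
  let M := double κ hr
  let T := double (𝟙 B) hr
  let F : D ⟶ M := mkHomFromDouble hr hne (ψ ≫ (doubleXIso₀ κ hr).inv) (r ≫ (doubleXIso₁ κ hr hne).inv)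
    (by rw [double_d κ hr hne]; simp [reassoc_of% hψ])
    (fun k hk => (isZero_double_X κ hr k (by change 0 + 1 = k at hk; omega) (by change 0 + 1 = k at hk; omega)).eq_of_tgt _ _)
  let G : M ⟶ T := mkHomFromDouble hr hne ((κ ≫ s) ≫ (doubleXIso₀ (𝟙 B) hr).inv) (s ≫ (doubleXIso₁ (𝟙 B) hr hne).inv)
    (by rw [double_d (𝟙 B) hr hne]; simp)
    (fun k hk => (isZero_double_X (𝟙 B) hr k (by change 0 + 1 = k at hk; omega) (by change 0 + 1 = k at hk; omega)).eq_of_tgt _ _)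
  have hFG : F ≫ G = 0 := by
    apply from_double_hom_ext
    · simp [F, G, reassoc_of% h₁]
    · simp [F, G, reassoc_of% h₂]
  have hS : (ShortComplex.mk F G hFG).ShortExact := by
    refine shortExact_of_degreewise_shortExact _ fun k => ?_
    by_cases hk₀ : k = -1
    · subst hk₀
      exact ShortComplex.shortExact_of_iso (ShortComplex.isoMk (doubleXIso₀ φ hr).symm (doubleXIso₀ κ hr).symm
        (doubleXIso₀ (𝟙 B) hr).symm (by simp [F, D, M]) (by simp [G, M, T])) hS₁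
    · by_cases hk₁ : k = 0
      · subst hk₁
        exact ShortComplex.shortExact_of_iso (ShortComplex.isoMk (doubleXIso₁ φ hr hne).symm (doubleXIso₁ κ hr hne).symm
          (doubleXIso₁ (𝟙 B) hr hne).symm (by simp [F, D, M]) (by simp [G, M, T])) hS₂
      · have z : ∀ {P Q : C} (f : P ⟶ Q), IsZero ((double f hr).X k) := fun f => isZero_double_X f hr k hk₀ hk₁
        exact ShortComplex.ShortExact.mk' (ShortComplex.exact_of_isZero_X₂ _ (z κ))
          ⟨fun _ _ _ => (z φ).eq_of_tgt _ _⟩ ⟨fun _ _ _ => (z (𝟙 B)).eq_of_src _ _⟩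
  refine ⟨F, quasiIso_f_of_acyclic hS ?_⟩
  exact DCat.acyclic_double_id B (-1)

end abstract

variable {X V P S : Scheme.{u}}

theorem hom_ext_of_stalks {M N : X.Modules} (a b : M ⟶ N)
    (h : ∀ x v, (DerSch.stalkFunctor X x).map a v = (DerSch.stalkFunctor X x).map b v) : a = b := by
  ext U s
  apply TopCat.Presheaf.section_ext ⟨N.presheaf, N.isSheaf⟩ U
  intro x hx
  exact (map_gm M hx a s).symm.trans ((h x (gm M U x hx s)).trans (map_gm M hx b s))

/-- the comparison `(𝟙)^* i^* Ω → j^* h^* Ω` -/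
def pullTriangle (i : X ⟶ V) (h : P ⟶ V) (j : X ⟶ P) (w : j ≫ h = i) :
    Scheme.Modules.pullback i ⋙ Scheme.Modules.pullback (𝟙 X) ≅ Scheme.Modules.pullback h ⋙ Scheme.Modules.pullback j :=
  Scheme.Modules.pullbackComp (𝟙 X) i ≪≫ Scheme.Modules.pullbackCongr (show 𝟙 X ≫ i = j ≫ h by rw [w, Category.id_comp]) ≪≫
    (Scheme.Modules.pullbackComp j h).symm

theorem gm_map_pull {A B : Scheme.{u}} (f : A ⟶ B) {M N : B.Modules} (φ : M ⟶ N) {U : B.Opens} (m : Γ(M, U))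
    {x : A} (hx : x ∈ f ⁻¹ᵁ U) :
    (DerSch.stalkFunctor A x).map ((Scheme.Modules.pullback f).map φ) (gm _ (f ⁻¹ᵁ U) x hx (PicLib.pullSec f m)) =
      gm _ (f ⁻¹ᵁ U) x hx (PicLib.pullSec f (φ.app U m)) :=
  (map_gm _ hx _ _).trans (congrArg (gm _ _ x hx) (H8Lim.map_app_pullSec f φ m))

theorem gm_pullComp {A B D : Scheme.{u}} (a : A ⟶ B) (b : B ⟶ D) (M : D.Modules) {U : D.Opens} (m : Γ(M, U))
    {x : A} (hx : x ∈ (a ≫ b) ⁻¹ᵁ U) :
    (DerSch.stalkFunctor A x).map ((Scheme.Modules.pullbackComp a b).hom.app M)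
        (gm _ ((a ≫ b) ⁻¹ᵁ U) x hx (PicLib.pullSec a (PicLib.pullSec b m))) =
      gm _ ((a ≫ b) ⁻¹ᵁ U) x hx (PicLib.pullSec (a ≫ b) m) :=
  (map_gm _ hx _ _).trans (congrArg (gm _ _ x hx) (H8Lim.pullbackComp_hom_app_pullSec a b M m))

theorem gm_pullComp_inv {A B D : Scheme.{u}} (a : A ⟶ B) (b : B ⟶ D) (M : D.Modules) {U : D.Opens} (m : Γ(M, U))
    {x : A} (hx : x ∈ (a ≫ b) ⁻¹ᵁ U) :
    (DerSch.stalkFunctor A x).map ((Scheme.Modules.pullbackComp a b).inv.app M)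
        (gm _ ((a ≫ b) ⁻¹ᵁ U) x hx (PicLib.pullSec (a ≫ b) m)) =
      gm _ ((a ≫ b) ⁻¹ᵁ U) x hx (PicLib.pullSec a (PicLib.pullSec b m)) :=
  (map_gm _ hx _ _).trans (congrArg (gm _ _ x hx) (Coherent.pullbackComp_inv_app_pullSec a b M _ m))

theorem gm_pullCongr {A B : Scheme.{u}} {a b : A ⟶ B} (e : a = b) (M : B.Modules) {U : B.Opens} (m : Γ(M, U))
    {x : A} (ha : x ∈ a ⁻¹ᵁ U) (hb : x ∈ b ⁻¹ᵁ U) :
    (DerSch.stalkFunctor A x).map ((Scheme.Modules.pullbackCongr e).hom.app M)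
        (gm _ (a ⁻¹ᵁ U) x ha (PicLib.pullSec a m)) = gm _ (b ⁻¹ᵁ U) x hb (PicLib.pullSec b m) := by
  subst e
  exact map_gm _ ha _ _

/-- naturality of the conormal differential -/
theorem conormalDiff_compat {S' : Scheme.{u}} {i : X ⟶ V} {h : P ⟶ V} {j : X ⟶ P} [IsImmersion i] [IsImmersion j]
    [QuasiCompact i] [QuasiCompact j] (w : j ≫ h = i) {g : V ⟶ S} {q : P ⟶ S'} {Ω : V.Modules} {d : OmegaSh.Der g Ω}
    {Ω' : P.Modules} {d' : OmegaSh.Der q Ω'} {c : (Scheme.Modules.pullback h).obj Ω ⟶ Ω'}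
    (hc : OmegaSh.IsDiffCompat h d d' c)
    {ψ : (Scheme.Modules.pullback (𝟙 X)).obj (Omega.conormal i) ⟶ Omega.conormal j}
    (hψ : OmegaSh.IsConormalMap j i h (𝟙 X) ψ)
    {φ : Omega.conormal i ⟶ (Scheme.Modules.pullback i).obj Ω} (hφ : OmegaSh.IsConormalDiff i d φ)
    {φ' : Omega.conormal j ⟶ (Scheme.Modules.pullback j).obj Ω'} (hφ' : OmegaSh.IsConormalDiff j d' φ') :
    ψ ≫ φ' = (Scheme.Modules.pullback (𝟙 X)).map φ ≫ (pullTriangle i h j w).hom.app Ω ≫
      (Scheme.Modules.pullback j).map c := by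
  refine hom_ext_of_stalks _ _ fun x v => ?_
  obtain ⟨π', hπ'⟩ := exists_pi i ((𝟙 X : X ⟶ X) x) (y := i ((𝟙 X : X ⟶ X) x)) rfl
  obtain ⟨Q, hQs, hQ⟩ := exists_pullId (Omega.conormal i) x
  obtain ⟨v, rfl⟩ := hQs v
  obtain ⟨⟨a, ha⟩, rfl⟩ := hπ'.1 v
  obtain ⟨U, hU, t, rfl⟩ := exists_germ_idealSect i ((𝟙 X : X ⟶ X) x) rfl ha
  erw [hπ'.2.2.2 U hU t ha, hQ]
  have hle : i.ker ≤ j.ker.map h := by
    rw [Scheme.IdealSheafData.map_ker, w]
  obtain ⟨t', ht'⟩ := exists_idealSect_app h j.ker i.ker hle U t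
  have hxj : x ∈ j ⁻¹ᵁ (h ⁻¹ᵁ U) := by
    show (j ≫ h) x ∈ U
    rw [w]; exact hU
  rw [Functor.map_comp, ModuleCat.comp_apply]
  refine (congrArg _ (conormalMap_gm hψ U t t' ht' x hU hxj)).trans ?_
  let m := d.app U (OmegaSh.idealSect i.ker U t)
  have hxi : x ∈ (𝟙 X ≫ i) ⁻¹ᵁ U := hU
  refine (map_gm _ hxj φ' _).trans ?_
  rw [hφ' (h ⁻¹ᵁ U) t', ht', ← hc U]
  simp only [pullTriangle, Iso.trans_hom, Iso.symm_hom, NatTrans.comp_app, Category.assoc, Functor.map_comp,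
    ModuleCat.comp_apply]
  refine Eq.symm ((congrArg _ (congrArg _ (congrArg _ (congrArg _
    (gm_map_pull (𝟙 X) φ (OmegaSh.conormalSect i U t) hU))))).trans ?_)
  rw [hφ U t]
  refine (congrArg _ (congrArg _ (congrArg _ (gm_pullComp (𝟙 X) i Ω m hxi)))).trans ?_
  refine (congrArg _ (congrArg _ (gm_pullCongr _ Ω m hxi hxj))).trans ?_
  refine (congrArg _ (gm_pullComp_inv j h Ω m hxj)).trans ?_
  exact gm_map_pull j c (PicLib.pullSec h m) hxj

/-- composites of compatible maps of differentials -/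
theorem isDiffCompat_comp {A B D S₁ S₂ S₃ : Scheme.{u}} {h : B ⟶ D} {v : A ⟶ B} {f : D ⟶ S₁} {f₁ : B ⟶ S₂} {f₂ : A ⟶ S₃}
    {M : D.Modules} {M₁ : B.Modules} {M₂ : A.Modules} {d : OmegaSh.Der f M} {d₁ : OmegaSh.Der f₁ M₁}
    {d₂ : OmegaSh.Der f₂ M₂} {c₁ : (Scheme.Modules.pullback h).obj M ⟶ M₁} {c₂ : (Scheme.Modules.pullback v).obj M₁ ⟶ M₂}
    (h₁ : OmegaSh.IsDiffCompat h d d₁ c₁) (h₂ : OmegaSh.IsDiffCompat v d₁ d₂ c₂) :
    OmegaSh.IsDiffCompat (v ≫ h) d d₂
      ((Scheme.Modules.pullbackComp v h).inv.app M ≫ (Scheme.Modules.pullback v).map c₁ ≫ c₂) := by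
  intro U s
  show c₂.app _ (((Scheme.Modules.pullback v).map c₁).app _ (((Scheme.Modules.pullbackComp v h).inv.app M).app _
    (PicLib.pullSec (v ≫ h) (d.app U s)))) = _
  refine (congrArg _ (congrArg _ (Coherent.pullbackComp_inv_app_pullSec v h M U (d.app U s)))).trans ?_
  refine (congrArg _ (H8Lim.map_app_pullSec v c₁ (PicLib.pullSec h (d.app U s)))).trans ?_
  refine (congrArg (fun m => c₂.app _ (PicLib.pullSec v m)) (h₁ U s)).trans ?_
  exact (h₂ (h ⁻¹ᵁ U) (h.app U s)).trans (congrArg _ (congr($(Scheme.Hom.comp_app v h U) s)).symm)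

/-- differentials of an open piece of a base change, with the comparison map -/
theorem exists_compat_baseChange {V' W Y : Scheme.{u}} {g : V ⟶ Y} {g' : V' ⟶ Y} {p₀ : P ⟶ V} {q₀ : P ⟶ V'}
    (sq : IsPullback p₀ q₀ g g') (v : W ⟶ P) [IsOpenImmersion v] {Ω' : V'.Modules} {d' : OmegaSh.Der g' Ω'}
    (hd' : OmegaSh.IsUniversal d') :
    ∃ (ΩW : W.Modules) (dW : OmegaSh.Der (v ≫ p₀) ΩW) (c : (Scheme.Modules.pullback (v ≫ q₀)).obj Ω' ⟶ ΩW),
      OmegaSh.IsUniversal dW ∧ IsIso c ∧ OmegaSh.IsDiffCompat (v ≫ q₀) d' dW c := by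
  obtain ⟨ΩP, dP, hdP⟩ := exists_universal_der p₀
  obtain ⟨c₁, hc₁, -⟩ := existsUnique_compat q₀ g sq.w hd' dP
  haveI := isIso_of_isPullback sq.flip hd' hdP hc₁
  obtain ⟨ΩW, dW, hdW⟩ := exists_universal_der (v ≫ p₀)
  have hsq : v ≫ p₀ = (v ≫ p₀) ≫ 𝟙 V := (Category.comp_id _).symm
  obtain ⟨c₂, hc₂, -⟩ := existsUnique_compat v (𝟙 V) hsq.symm hdP dW
  haveI := isIso_of_etale v (𝟙 V) hsq hdP hdW hc₂
  exact ⟨ΩW, dW, _, hdW, inferInstance, isDiffCompat_comp hc₁ hc₂⟩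

/-- the two-term cotangent complexes of two factorisations are linked by quasi-isomorphisms -/
theorem exists_quasiIso_factor {Y V' : Scheme.{u}} (g : V ⟶ Y) [Smooth g] (i : X ⟶ V) [IsImmersion i] [QuasiCompact i]
    (g' : V' ⟶ Y) [Smooth g'] (i' : X ⟶ V') [IsImmersion i'] [QuasiCompact i'] (hgg : i ≫ g = i' ≫ g')
    {Ω : V.Modules} {d : OmegaSh.Der g Ω} (hd : OmegaSh.IsUniversal d)
    {Ω' : V'.Modules} {d' : OmegaSh.Der g' Ω'} (hd' : OmegaSh.IsUniversal d')
    {φ : Omega.conormal i ⟶ (Scheme.Modules.pullback i).obj Ω} (hφ : OmegaSh.IsConormalDiff i d φ)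
    {φ' : Omega.conormal i' ⟶ (Scheme.Modules.pullback i').obj Ω'} (hφ' : OmegaSh.IsConormalDiff i' d' φ')
    (hr : (ComplexShape.up ℤ).Rel (-1 : ℤ) 0) :
    ∃ (M : CochainComplex X.Modules ℤ) (F : HomologicalComplex.double φ hr ⟶ M) (F' : HomologicalComplex.double φ' hr ⟶ M),
      QuasiIso F ∧ QuasiIso F' := by
  let J : X ⟶ pullback g g' := pullback.lift i i' hgg
  have hJ₁ : J ≫ pullback.fst g g' = i := pullback.lift_fst _ _ _
  have hJ₂ : J ≫ pullback.snd g g' = i' := pullback.lift_snd _ _ _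
  haveI : IsImmersion (J ≫ pullback.fst g g') := hJ₁ ▸ inferInstance
  haveI : IsImmersion J := IsImmersion.of_comp J (pullback.fst g g')
  let v := J.coborderRange.ι
  let j := J.liftCoborder
  haveI : Smooth (pullback.fst g g') := MorphismProperty.of_isPullback (IsPullback.of_hasPullback g g').flip inferInstance
  haveI : Smooth (pullback.snd g g') := MorphismProperty.of_isPullback (IsPullback.of_hasPullback g g') inferInstance
  let p := v ≫ pullback.fst g g'
  let q := v ≫ pullback.snd g g'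
  have hp : j ≫ p = i := by
    show J.liftCoborder ≫ J.coborderRange.ι ≫ _ = _
    rw [Scheme.Hom.liftCoborder_ι_assoc, hJ₁]
  have hq : j ≫ q = i' := by
    show J.liftCoborder ≫ J.coborderRange.ι ≫ _ = _
    rw [Scheme.Hom.liftCoborder_ι_assoc, hJ₂]
  obtain ⟨ΩA, dA, cA, hdA, hcAi, hcA⟩ := exists_compat_baseChange (IsPullback.of_hasPullback g g').flip v hd
  obtain ⟨ΩB, dB, cB, hdB, hcBi, hcB⟩ := exists_compat_baseChange (IsPullback.of_hasPullback g g') v hd'
  obtain ⟨ψ, hψ⟩ := exists_conormalMap (i := j) (i' := i) (g := p) (gZ := 𝟙 X) (show 𝟙 X ≫ i = j ≫ p by rw [hp, Category.id_comp])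
  obtain ⟨ψ', hψ'⟩ := exists_conormalMap (i := j) (i' := i') (g := q) (gZ := 𝟙 X) (show 𝟙 X ≫ i' = j ≫ q by rw [hq, Category.id_comp])
  obtain ⟨α, hα⟩ := exists_conormalDiff j dA
  obtain ⟨β, hβ⟩ := exists_conormalDiff j dB
  obtain ⟨w, hex, hepi⟩ := conormal_omega_exact hdB hψ hβ
  obtain ⟨w', hex', hepi'⟩ := conormal_omega_exact hdA hψ' hα
  haveI := mono_conormalMap_of_formallySmooth (isFormallySmoothHom_of_smooth p) hψ
  haveI := mono_conormalMap_of_formallySmooth (isFormallySmoothHom_of_smooth q) hψ'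
  haveI := hepi
  haveI := hepi'
  haveI := hcAi
  haveI := hcBi
  have hS : (ShortComplex.mk ψ β w).ShortExact := ShortComplex.ShortExact.mk' hex ‹Mono ψ› ‹Epi β›
  have hS' : (ShortComplex.mk ψ' α w').ShortExact := ShortComplex.ShortExact.mk' hex' ‹Mono ψ'› ‹Epi α›
  have ca := conormalDiff_compat hp hcA hψ hφ hα
  have cb := conormalDiff_compat hq hcB hψ' hφ' hβ
  let I := Scheme.Modules.pullbackId X
  let A := (Scheme.Modules.pullback j).obj ΩA
  let B := (Scheme.Modules.pullback j).obj ΩB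
  let ra : (Scheme.Modules.pullback i).obj Ω ≅ A :=
    (I.app _).symm ≪≫ (pullTriangle i p j hp).app Ω ≪≫ (Scheme.Modules.pullback j).mapIso (asIso cA)
  let rb : (Scheme.Modules.pullback i').obj Ω' ≅ B :=
    (I.app _).symm ≪≫ (pullTriangle i' q j hq).app Ω' ≪≫ (Scheme.Modules.pullback j).mapIso (asIso cB)
  let κ : Omega.conormal j ⟶ A ⊞ B := biprod.lift α β
  have ea : (I.inv.app (Omega.conormal i) ≫ ψ) ≫ α = φ ≫ ra.hom := by
    rw [Category.assoc, ca]
    exact (reassoc_of% (I.inv.naturality φ)) _ |>.symm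
  have eb : (I.inv.app (Omega.conormal i') ≫ ψ') ≫ β = φ' ≫ rb.hom := by
    rw [Category.assoc, cb]
    exact (reassoc_of% (I.inv.naturality φ')) _ |>.symm
  have za : (I.inv.app (Omega.conormal i) ≫ ψ) ≫ β = 0 := by rw [Category.assoc, w, comp_zero]
  have zb : (I.inv.app (Omega.conormal i') ≫ ψ') ≫ α = 0 := by rw [Category.assoc, w', comp_zero]
  obtain ⟨F, hF⟩ := exists_quasiIso_double φ κ (I.inv.app (Omega.conormal i) ≫ ψ) (ra.hom ≫ biprod.inl) biprod.snd
    (by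
      refine biprod.hom_ext _ _ ?_ ?_
      · simpa [κ] using ea
      · simpa [κ] using za)
    (by simpa [κ] using za)
    (ShortComplex.shortExact_of_iso
      (show ShortComplex.mk ψ β w ≅ _ from ShortComplex.isoMk (I.app _) (Iso.refl _) (Iso.refl _) (by simp [I]) (by simp [κ])) hS)
    (by simp)
    (ShortComplex.shortExact_of_iso
      (show ShortComplex.mk (biprod.inl : A ⟶ A ⊞ B) biprod.snd (by simp) ≅ _ from ShortComplex.isoMk ra.symm (Iso.refl _) (Iso.refl _) (by simp) (by simp))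
      (ShortComplex.Splitting.ofHasBinaryBiproduct A B).shortExact) hr
  obtain ⟨F', hF'⟩ := exists_quasiIso_double φ' κ (I.inv.app (Omega.conormal i') ≫ ψ') (rb.hom ≫ biprod.inr) biprod.fst
    (by
      refine biprod.hom_ext _ _ ?_ ?_
      · simpa [κ] using zb
      · simpa [κ] using eb)
    (by simpa [κ] using zb)
    (ShortComplex.shortExact_of_iso
      (show ShortComplex.mk ψ' α w' ≅ _ from ShortComplex.isoMk (I.app _) (Iso.refl _) (Iso.refl _) (by simp [I]) (by simp [κ])) hS')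
    (by simp)
    (ShortComplex.shortExact_of_iso
      (show ShortComplex.mk (biprod.inr : B ⟶ A ⊞ B) biprod.fst (by simp) ≅ _ from ShortComplex.isoMk rb.symm (Iso.refl _) (Iso.refl _) (by simp) (by simp))
      (ShortComplex.Splitting.shortExact (S := ShortComplex.mk (biprod.inr : B ⟶ A ⊞ B) biprod.fst (by simp))
        { r := biprod.snd
          s := biprod.inl
          f_r := by simp
          s_g := by simp
          id := by simp [add_comm, biprod.total] })) hr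
  exact ⟨_, F, F', hF, hF'⟩

end Groth.Agent.Omega15
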