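import Groth.Prelude.Def_Omega3
import Mathlib.Algebra.Category.ModuleCat.Differentials.Presheaf
import Mathlib.Algebra.Category.ModuleCat.Presheaf.Sheafification

/-! Every morphism of schemes has a universal derivation. -/

set_option autoImplicit false
set_option backward.isDefEq.respectTransparency.types false
set_option backward.isDefEq.respectTransparency false
universe u

open CategoryTheory CategoryTheory.Limits AlgebraicGeometry TopologicalSpace Opposite

noncomputable section

namespace Groth.Agent.Omega15

variable {X Y : Scheme.{u}} (f : X ⟶ Y)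

/-- the local functions coming from the base -/
def baseSub (U : X.Opens) : Subring Γ(X, U) :=
  Subring.closure {t | ∃ (V : Y.Opens) (h : U ≤ f ⁻¹ᵁ V) (a : Γ(Y, V)), t = f.appLE V U h a}

theorem baseSub_map {U U' : X.Opens} (i : op U ⟶ op U') :
    baseSub f U ≤ (baseSub f U').comap (X.presheaf.map i).hom := by
  rw [baseSub, Subring.closure_le]
  rintro _ ⟨V, h, a, rfl⟩
  refine Subring.subset_closure ⟨V, (leOfHom i.unop).trans h, a, ?_⟩
  exact congr($(f.appLE_map h i) a)

/-- the presheaf of local functions coming from the base -/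
def basePsh : X.Opensᵒᵖ ⥤ CommRingCat.{u} where
  obj U := CommRingCat.of (baseSub f U.unop)
  map {U U'} i := CommRingCat.ofHom (((X.presheaf.map i).hom.comp (baseSub f U.unop).subtype).codRestrict
    (baseSub f U'.unop) fun x => baseSub_map f i x.2)
  map_id U := by
    ext x
    show X.presheaf.map (𝟙 U) _ = _
    simp
  map_comp {U U' U''} i j := by
    ext x
    show X.presheaf.map (i ≫ j) _ = X.presheaf.map j (X.presheaf.map i _)
    simp

/-- its inclusion -/
def baseIncl : basePsh f ⟶ X.presheaf where
  app U := CommRingCat.ofHom (baseSub f U.unop).subtype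

theorem exists_universal_der : ∃ (Ω : X.Modules) (d : OmegaSh.Der f Ω), OmegaSh.IsUniversal d := by
  let M₀ := PresheafOfModules.DifferentialsConstruction.relativeDifferentials' (baseIncl f)
  let d₀ := PresheafOfModules.DifferentialsConstruction.derivation' (baseIncl f)
  let univ := PresheafOfModules.DifferentialsConstruction.isUniversal' (baseIncl f)
  let adj := PresheafOfModules.sheafificationAdjunction (𝟙 X.ringCatSheaf.obj)
  let Ω : X.Modules := (PresheafOfModules.sheafification (𝟙 X.ringCatSheaf.obj)).obj M₀
  let η : M₀ ⟶ Ω.val := adj.unit.app M₀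
  let d : OmegaSh.Der f Ω :=
    { d := fun {U} => (η.app U).hom.toAddMonoidHom.comp d₀.d
      d_mul := fun {U} a b => (d₀.postcomp η).d_mul a b
      d_map := fun {U U'} i x => (d₀.postcomp η).d_map i x
      d_app := fun {V} a => by
        have hmem : f.c.app V a ∈ baseSub f (f ⁻¹ᵁ V.unop) :=
          Subring.subset_closure ⟨V.unop, le_rfl, a, congr($(Scheme.Hom.app_eq_appLE (f := f) (U := V.unop)) a)⟩
        exact (d₀.postcomp η).d_app (X := op (f ⁻¹ᵁ V.unop)) (⟨_, hmem⟩ : baseSub f _) }
  refine ⟨Ω, d, fun F D => ?_⟩
  let D' : F.val.Derivation' (baseIncl f) :=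
    { d := fun {U} => D.d
      d_mul := fun {U} a b => D.d_mul a b
      d_map := fun {U U'} i x => D.d_map i x
      d_app := fun {U} a => by
        show D.d (X := U) a.1 = 0
        obtain ⟨a, ha⟩ := a
        show D.d (X := U) a = 0
        induction ha using Subring.closure_induction with
        | mem t ht =>
          obtain ⟨V, h, c, rfl⟩ := ht
          show D.d (X := U) (X.presheaf.map (homOfLE h).op (f.c.app (op V) c)) = 0
          erw [D.d_map (homOfLE h).op (f.c.app (op V) c), D.d_app (X := op V) c, map_zero]
        | zero => exact map_zero _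
        | one => exact D.d_one _
        | add t t' _ _ e e' => rw [map_add, e, e', add_zero]
        | neg t _ e => rw [map_neg, e, neg_zero]
        | mul t t' _ _ e e' => erw [D.d_mul t t']; rw [e, e', smul_zero, smul_zero, add_zero] }
  let α₀ : M₀ ⟶ F.val := univ.desc D'
  have hα₀ : ∀ (β : Ω ⟶ F), d.postcomp β.val = D ↔ η ≫ β.val = α₀ := fun β => by
    constructor
    · intro h
      refine univ.postcomp_injective _ _ ((?_ : d₀.postcomp (η ≫ β.val) = D').trans (univ.fac D').symm)
      ext U x
      exact PresheafOfModules.Derivation.congr_d h x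
    · intro h
      ext U x
      have := PresheafOfModules.Derivation.congr_d ((congrArg (d₀.postcomp ·) h).trans (univ.fac D')) x
      exact this
  have hu : ∀ (β : Ω ⟶ F), adj.homEquiv _ _ β = η ≫ β.val := fun β => adj.homEquiv_unit _ _ β
  refine ⟨(adj.homEquiv _ _).symm α₀, (hα₀ _).2 ((hu _).symm.trans (Equiv.apply_symm_apply _ _)), fun β hβ => ?_⟩
  rw [Equiv.eq_symm_apply, hu]
  exact (hα₀ β).1 hβ

end Groth.Agent.Omega15
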