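import Groth.Agent.Omega15.VirtDimComp15
import Groth.Agent.Omega15.UnivExists15
import Groth.Agent.Synt15.LCIPermanence

/-! Conormal sequences comparing two smooth factorisations. -/

set_option autoImplicit false
set_option backward.isDefEq.respectTransparency.types false
set_option linter.style.haveILetI false
universe u

open CategoryTheory CategoryTheory.Limits AlgebraicGeometry TopologicalSpace Opposite

noncomputable section

namespace Groth.Agent.Omega15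

open OmegaLib Thick15

variable {X Y V V' P W : Scheme.{u}}

/-- differentials of an open piece of a base change -/
theorem exists_universal_baseChange {g : V ⟶ Y} {g' : V' ⟶ Y} {p₀ : P ⟶ V} {q₀ : P ⟶ V'} (sq : IsPullback p₀ q₀ g g')
    (v : W ⟶ P) [IsOpenImmersion v] {Ω' : V'.Modules} {d' : OmegaSh.Der g' Ω'} (hd' : OmegaSh.IsUniversal d') :
    ∃ (ΩW : W.Modules) (dW : OmegaSh.Der (v ≫ p₀) ΩW),
      OmegaSh.IsUniversal dW ∧ Nonempty ((Scheme.Modules.pullback (v ≫ q₀)).obj Ω' ≅ ΩW) := by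
  obtain ⟨ΩP, dP, hdP⟩ := exists_universal_der p₀
  obtain ⟨c₁, hc₁, -⟩ := existsUnique_compat q₀ g sq.w hd' dP
  haveI := isIso_of_isPullback sq.flip hd' hdP hc₁
  obtain ⟨ΩW, dW, hdW⟩ := exists_universal_der (v ≫ p₀)
  have hsq : v ≫ p₀ = (v ≫ p₀) ≫ 𝟙 V := (Category.comp_id _).symm
  obtain ⟨c₂, hc₂, -⟩ := existsUnique_compat v (𝟙 V) hsq.symm hdP dW
  haveI := isIso_of_etale v (𝟙 V) hsq hdP hdW hc₂
  exact ⟨ΩW, dW, hdW, ⟨((Scheme.Modules.pullbackComp v q₀).app Ω').symm ≪≫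
    (Scheme.Modules.pullback v).mapIso (asIso c₁) ≪≫ asIso c₂⟩⟩

/-- `0 → N_i → N_j → i'^* Ω' → 0` -/
theorem exists_conormal_ses {g : V ⟶ Y} {g' : V' ⟶ Y} [Smooth g'] {p₀ : P ⟶ V} {q₀ : P ⟶ V'}
    (sq : IsPullback p₀ q₀ g g') (v : W ⟶ P) [IsOpenImmersion v] (j : X ⟶ W) (i : X ⟶ V) (i' : X ⟶ V')
    [IsImmersion i] [IsImmersion j] [QuasiCompact i] [QuasiCompact j] (hi : j ≫ v ≫ p₀ = i) (hi' : j ≫ v ≫ q₀ = i')
    {Ω' : V'.Modules} {d' : OmegaSh.Der g' Ω'} (hd' : OmegaSh.IsUniversal d') :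
    ∃ S : ShortComplex X.Modules, S.ShortExact ∧ Nonempty (S.X₁ ≅ Omega.conormal i) ∧
      Nonempty (S.X₂ ≅ Omega.conormal j) ∧ Nonempty (S.X₃ ≅ (Scheme.Modules.pullback i').obj Ω') := by
  haveI : Smooth p₀ := MorphismProperty.of_isPullback sq.flip inferInstance
  obtain ⟨ΩW, dW, hdW, ⟨e⟩⟩ := exists_universal_baseChange sq v hd'
  obtain ⟨ψ, hψ⟩ := exists_conormalMap (i := j) (i' := i) (g := v ≫ p₀) (gZ := 𝟙 X)
    (show 𝟙 X ≫ i = j ≫ v ≫ p₀ by rw [hi, Category.id_comp])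
  obtain ⟨φ, hφ⟩ := exists_conormalDiff j dW
  obtain ⟨w, hex, hepi⟩ := conormal_omega_exact hdW hψ hφ
  haveI := mono_conormalMap_of_formallySmooth (isFormallySmoothHom_of_smooth (v ≫ p₀)) hψ
  haveI := hepi
  refine ⟨_, ShortComplex.ShortExact.mk' hex ‹Mono ψ› ‹Epi φ›, ⟨(Scheme.Modules.pullbackId X).app _⟩, ⟨Iso.refl _⟩,
    ⟨(Scheme.Modules.pullback j).mapIso e.symm ≪≫ (Scheme.Modules.pullbackComp j (v ≫ q₀)).app Ω' ≪≫
      (Scheme.Modules.pullbackCongr hi').app Ω'⟩⟩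

theorem isFinLocFree_conormal_of_isKoszulPt (f : X ⟶ Y) (g : V ⟶ Y) [Smooth g] (i : X ⟶ V) [IsImmersion i]
    [QuasiCompact i] (hi : i ≫ g = f) (hf : ∀ x : X, FlatMorKoszul.IsKoszulPt f x) :
    FlatMod.IsFinLocFree (Omega.conormal i) :=
  RegImmH1.isFinLocFree_conormal i ((SDiv28.RegImmKinds.implications i).2.1
    (Synt15.isRegularImmersion_of_isKoszulPt i fun z => Synt15.isKoszulPt_of_comp_smooth i g (by rw [hi]; exact hf z)))

end Groth.Agent.Omega15
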