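import Groth.Agent.OmegaLib.StalkCompat
import Groth.Agent.EGA41Lib.FieldSeparableSmooth
import Groth.Agent.EGA41Lib.CartierEquality
import Groth.Agent.DimLib.Components
import Groth.Agent.EGA43.FibDepth.Points
import Groth.Agent.FlatMor12.FreeCharts
import Groth.Agent.Clifford24.StalkBasis
import Groth.Agent.Props12.Stalks

/-! # Independent differentials coming from the image of a separable map -/

set_option autoImplicit false
set_option backward.isDefEq.respectTransparency.types false
set_option linter.style.haveILetI false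
universe u
open CategoryTheory CategoryTheory.Limits AlgebraicGeometry TopologicalSpace
open scoped TensorProduct

namespace Groth.Agent.Omega15

open scoped TensorProduct in
/-- A scheme with a flat preimmersion to a reduced scheme is reduced. -/
theorem isReduced_of_flat_preimmersion {A B : Scheme.{u}} (m : A ⟶ B) [IsPreimmersion m] [Flat m]
    [IsReduced B] : IsReduced A := by
  haveI : ∀ a : A, _root_.IsReduced (A.presheaf.stalk a) := fun a => by
    letI := (m.stalkMap a).hom.toAlgebra
    haveI : Module.Flat (B.presheaf.stalk (m a)) (A.presheaf.stalk a) := Flat.stalkMap m a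
    haveI : IsLocalHom (algebraMap (B.presheaf.stalk (m a)) (A.presheaf.stalk a)) :=
      inferInstanceAs (IsLocalHom (m.stalkMap a).hom)
    haveI := Module.FaithfullyFlat.of_flat_of_isLocalHom (A := B.presheaf.stalk (m a)) (B := A.presheaf.stalk a)
    let e := RingEquiv.ofBijective (m.stalkMap a).hom
      ⟨FaithfulSMul.algebraMap_injective (B.presheaf.stalk (m a)) (A.presheaf.stalk a), m.stalkMap_surjective a⟩
    exact isReduced_of_injective e.symm e.symm.injective
  exact isReduced_of_isReduced_stalk A

open scoped TensorProduct in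
/-- The residue extension at the generic point of a geometrically reduced fibre is separable. -/
theorem isReduced_tensor {X Z : Scheme.{u}} (f : X ⟶ Z) (x : X) (ψ : Z.residueField (f x) ⟶ X.presheaf.stalk x) (hψ : Z.residue (f x) ≫ ψ = f.stalkMap x)
    (hsep : GeometricallyReduced (pullback.snd f (Z.fromSpecResidueField (f x))))
    (L : Type u) [Field L] [Algebra (Z.residueField (f x)) L] :
    letI := ψ.hom.toAlgebra
    _root_.IsReduced (X.presheaf.stalk x ⊗[Z.residueField (f x)] L) := by
  letI := ψ.hom.toAlgebra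
  let A := Z.residueField (f x)
  let B := X.presheaf.stalk x
  let r := Z.fromSpecResidueField (f x)
  let F := pullback f r
  have hw : X.fromSpecStalk x ≫ f = Spec.map ψ ≫ r := by
    show _ = Spec.map ψ ≫ Spec.map (Z.residue (f x)) ≫ Z.fromSpecStalk (f x)
    rw [← Spec.map_comp_assoc, hψ, Scheme.SpecMap_stalkMap_fromSpecStalk]
  let j : Spec B ⟶ F := pullback.lift (X.fromSpecStalk x) (Spec.map ψ) hw
  have hjf : j ≫ pullback.fst f r = X.fromSpecStalk x := pullback.lift_fst _ _ _
  have hjs : j ≫ pullback.snd f r = Spec.map ψ := pullback.lift_snd _ _ _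
  haveI : IsPreimmersion (Z.fromSpecResidueField (f x)) := inferInstance
  haveI : IsPreimmersion (pullback.fst f r) := inferInstance
  have sqj : IsPullback j (𝟙 _) (pullback.fst f r) (X.fromSpecStalk x) := by
    refine ⟨⟨by rw [hjf, Category.id_comp]⟩, ⟨PullbackCone.IsLimit.mk _ (fun s => s.snd) (fun s => ?_)
      (fun s => Category.comp_id _) (fun s m _ h2 => by simpa using h2)⟩⟩
    rw [← cancel_mono (pullback.fst f r), Category.assoc, hjf]
    exact s.condition.symm
  haveI : IsPreimmersion (j ≫ pullback.fst f r) := by rw [hjf]; infer_instance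
  haveI : IsPreimmersion j := IsPreimmersion.of_comp j (pullback.fst f r)
  haveI : Flat (X.fromSpecStalk x) := inferInstance
  haveI : Flat j := MorphismProperty.of_isPullback sqj.flip (by assumption)
  let l : Spec (CommRingCat.of L) ⟶ Spec (Z.residueField (f x)) :=
    Spec.map (CommRingCat.ofHom (algebraMap A L))
  haveI : IsReduced (pullback (pullback.snd f r) l) :=
    pullback_of_geometrically (GeometricallyReduced.geometrically_isReduced (f := pullback.snd f r)) L l
  let m : pullback (Spec.map ψ) (Spec.map (CommRingCat.ofHom (algebraMap A L))) ⟶ pullback (pullback.snd f r) l :=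
    pullback.lift (pullback.fst (Spec.map ψ) (Spec.map (CommRingCat.ofHom (algebraMap A L))) ≫ j)
      (pullback.snd _ _) (by
        rw [Category.assoc, hjs, pullback.condition])
  have sq : IsPullback m (pullback.fst _ _) (pullback.fst (pullback.snd f r) l) j := by
    refine IsPullback.flip (IsPullback.of_bot ?_ ?_ (IsPullback.of_hasPullback (pullback.snd f r) l))
    · simp only [m, l, pullback.lift_snd, hjs]
      exact IsPullback.of_hasPullback _ _
    · exact (pullback.lift_fst _ _ _).symm
  haveI : IsPreimmersion m := MorphismProperty.of_isPullback (P := @IsPreimmersion) sq.flip (by assumption)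
  haveI : Flat m := MorphismProperty.of_isPullback (P := @Flat) sq.flip (by assumption)
  haveI hP : IsReduced (pullback (Spec.map ψ) (Spec.map (CommRingCat.ofHom (algebraMap A L)))) :=
    isReduced_of_flat_preimmersion m
  haveI : IsReduced (Spec (CommRingCat.of (B ⊗[A] L))) := by
    haveI : IsReduced (pullback (Spec.map (CommRingCat.ofHom (algebraMap A B))) (Spec.map (CommRingCat.ofHom (algebraMap A L)))) := hP
    exact isReduced_of_isOpenImmersion (pullbackSpecIso A B L).inv
  exact isReduced_of_injective (Scheme.ΓSpecIso (CommRingCat.of (B ⊗[A] L))).inv.hom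
    (ConcreteCategory.bijective_of_isIso (Scheme.ΓSpecIso (CommRingCat.of (B ⊗[A] L))).inv).1


/-- `Γ(Spec k, ⊤) → κ(z)` for a point of a `k`-scheme. -/
noncomputable def toResidue {k : Type u} [Field k] {Z : Scheme.{u}} (g : Z ⟶ Spec (CommRingCat.of k)) (z : Z) :
    Γ(Spec (CommRingCat.of k), ⊤) ⟶ Z.residueField z :=
  (Spec (CommRingCat.of k)).presheaf.germ ⊤ (g z) trivial ≫ g.stalkMap z ≫ Z.residue z

theorem baseRingHom_eq {k : Type u} [Field k] {Z : Scheme.{u}} (g : Z ⟶ Spec (CommRingCat.of k)) (z : Z) :
    CommRingCat.ofHom (DimLib.baseRingHom g z) = (Scheme.ΓSpecIso (CommRingCat.of k)).inv ≫ toResidue g z := by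
  apply Spec.map_injective
  rw [DimLib.specMap_baseRingHom, toResidue, Spec.map_comp, Spec.map_comp, Spec.map_comp, Category.assoc,
    Category.assoc, ← Scheme.fromSpecStalk_toSpecΓ, Category.assoc, toSpecΓ_SpecMap_ΓSpecIso_inv, Category.comp_id,
    Scheme.SpecMap_stalkMap_fromSpecStalk, Scheme.fromSpecResidueField, Category.assoc]

theorem essFiniteType_toResidue {k : Type u} [Field k] {Z : Scheme.{u}} (g : Z ⟶ Spec (CommRingCat.of k))
    [LocallyOfFiniteType g] (z : Z) :
    letI := (toResidue g z).hom.toAlgebra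
    Algebra.EssFiniteType Γ(Spec (CommRingCat.of k), ⊤) (Z.residueField z) := by
  letI := (toResidue g z).hom.toAlgebra
  obtain ⟨V, hV, hzV, -⟩ := Opens.isBasis_iff_nbhd.mp Z.isBasis_affineOpens (Opens.mem_top z)
  letI : Algebra Γ(Spec (CommRingCat.of k), ⊤) Γ(Z, V) := (g.appLE ⊤ V le_top).hom.toAlgebra
  haveI : Algebra.FiniteType Γ(Spec (CommRingCat.of k), ⊤) Γ(Z, V) :=
    g.finiteType_appLE (isAffineOpen_top _) hV le_top
  letI : Algebra Γ(Z, V) (Z.presheaf.stalk z) := (Z.presheaf.germ V z hzV).hom.toAlgebra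
  haveI := hV.isLocalization_stalk ⟨z, hzV⟩
  haveI : Algebra.EssFiniteType Γ(Z, V) (Z.presheaf.stalk z) :=
    .of_isLocalization _ (hV.primeIdealOf ⟨z, hzV⟩).asIdeal.primeCompl
  letI : Algebra Γ(Spec (CommRingCat.of k), ⊤) (Z.presheaf.stalk z) :=
    ((Spec (CommRingCat.of k)).presheaf.germ ⊤ (g z) trivial ≫ g.stalkMap z).hom.toAlgebra
  haveI : IsScalarTower Γ(Spec (CommRingCat.of k), ⊤) Γ(Z, V) (Z.presheaf.stalk z) :=
    IsScalarTower.of_algebraMap_eq fun r => by
      change g.stalkMap z ((Spec (CommRingCat.of k)).presheaf.germ ⊤ (g z) trivial r) =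
        Z.presheaf.germ V z hzV (g.appLE ⊤ V le_top r)
      rw [Scheme.Hom.germ_stalkMap_apply, Scheme.Hom.appLE, CommRingCat.comp_apply]
      exact (Z.presheaf.germ_res_apply _ z hzV _).symm
  haveI : Algebra.EssFiniteType Γ(Spec (CommRingCat.of k), ⊤) (Z.presheaf.stalk z) :=
    Algebra.EssFiniteType.comp _ Γ(Z, V) _
  letI : Algebra (Z.presheaf.stalk z) (Z.residueField z) := (Z.residue z).hom.toAlgebra
  haveI : IsScalarTower Γ(Spec (CommRingCat.of k), ⊤) (Z.presheaf.stalk z) (Z.residueField z) :=
    IsScalarTower.of_algebraMap_eq fun _ => rfl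
  exact Algebra.EssFiniteType.of_surjective
    (IsScalarTower.toAlgHom Γ(Spec (CommRingCat.of k), ⊤) (Z.presheaf.stalk z) (Z.residueField z))
    Ideal.Quotient.mk_surjective

/-- The dimension of the closure of a point is at most the number of independent differentials of its residue field. -/
theorem le_finrank_kaehler {k : Type u} [Field k] {Z : Scheme.{u}} (g : Z ⟶ Spec (CommRingCat.of k))
    [LocallyOfFiniteType g] (z : Z) (m : ℕ) (hm : topologicalKrullDim (closure ({z} : Set Z)) = m) :
    letI := (toResidue g z).hom.toAlgebra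
    Module.Finite (Z.residueField z) (Ω[Z.residueField z⁄Γ(Spec (CommRingCat.of k), ⊤)]) ∧
      m ≤ Module.finrank (Z.residueField z) (Ω[Z.residueField z⁄Γ(Spec (CommRingCat.of k), ⊤)]) := by
  let ε := (Scheme.ΓSpecIso (CommRingCat.of k)).commRingCatIsoToRingEquiv
  letI : Field Γ(Spec (CommRingCat.of k), ⊤) := (ε.toMulEquiv.isField (Field.toIsField k)).toField
  letI := (toResidue g z).hom.toAlgebra
  haveI := essFiniteType_toResidue g z
  obtain ⟨d, hd, hfin, -, hle, -⟩ := EGA41Lib.exists_indexProp Γ(Spec (CommRingCat.of k), ⊤)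
    Γ(Spec (CommRingCat.of k), ⊤) (Z.residueField z)
  refine ⟨hfin, le_trans (le_of_eq ?_) ((Nat.le_add_left d _).trans hle)⟩
  rw [DimLib.topologicalKrullDim_eq_ptDim_of_isGenericPoint g isGenericPoint_closure] at hm
  have he : DimLib.baseRingHom g z = (toResidue g z).hom.comp (ε.symm : k →+* Γ(Spec (CommRingCat.of k), ⊤)) :=
    congrArg CommRingCat.Hom.hom (baseRingHom_eq g z)
  rw [DimLib.ptDim, he, EGA43.FibDepth.trdegHom_ringEquiv_comp, ← RingHom.algebraMap_toAlgebra (toResidue g z).hom,
    DimLib.trdegHom_algebraMap, hd, Cardinal.toNat_natCast] at hm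
  exact_mod_cast hm.symm

/-- Enough independent pulled back differentials at the generic point. -/
theorem exists_linearIndependent_gm {k : Type u} [Field k] {X Z : Scheme.{u}} [IsIntegral X] (f : X ⟶ Z)
    {g : Z ⟶ Spec (CommRingCat.of k)} {q : X ⟶ Spec (CommRingCat.of k)} [LocallyOfFiniteType g] (hf : f ≫ g = q)
    (hsep : GeometricallyReduced (pullback.snd f (Z.fromSpecResidueField (f (genericPoint X)))))
    (m : ℕ) (hm : topologicalKrullDim (closure ({f (genericPoint X)} : Set Z)) = m)
    {ΩZ : Z.Modules} {dZ : OmegaSh.Der g ΩZ} (hdZ : OmegaSh.IsUniversal dZ)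
    {ΩX : X.Modules} {dX : OmegaSh.Der q ΩX} (hdX : OmegaSh.IsUniversal dX)
    {c : (Scheme.Modules.pullback f).obj ΩZ ⟶ ΩX} (hc : OmegaSh.IsDiffCompat f dZ dX c)
    {d : ℕ} (ψ₀ : (Scheme.Modules.pullback f).obj ΩZ ≅ FlatMod.freeMod X d) :
    ∃ s : Fin m → Γ(ΩX, ⊤), LinearIndependent (X.presheaf.stalk (genericPoint X))
      (fun i => OmegaLib.gm ΩX ⊤ (genericPoint X) trivial (s i)) := by
  classical
  let x : X := genericPoint X
  show ∃ s : Fin m → Γ(ΩX, ⊤), LinearIndependent (X.presheaf.stalk x)
      (fun i => OmegaLib.gm ΩX ⊤ x trivial (s i))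
  have hB : IsField (X.presheaf.stalk x) := Field.toIsField X.functionField
  letI : Field (X.presheaf.stalk x) := hB.toField
  haveI : IsIso (X.residue x) := by
    refine (ConcreteCategory.isIso_iff_bijective _).2 ⟨?_, IsLocalRing.residue_surjective⟩
    exact (injective_iff_map_eq_zero _).2 fun a ha => by
      have : a ∈ IsLocalRing.maximalIdeal (X.presheaf.stalk x) := (IsLocalRing.residue_eq_zero_iff a).1 ha
      rwa [IsLocalRing.isField_iff_maximalIdeal_eq.1 hB, Ideal.mem_bot] at this
  let ψ : Z.residueField (f x) ⟶ X.presheaf.stalk x := f.residueFieldMap x ≫ inv (X.residue x)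
  have hψ : Z.residue (f x) ≫ ψ = f.stalkMap x := by
    rw [← Category.assoc, Scheme.residue_residueFieldMap, Category.assoc, IsIso.hom_inv_id, Category.comp_id]
  let R := Γ(Spec (CommRingCat.of k), ⊤)
  letI : Algebra R (Z.residueField (f x)) := (toResidue g (f x)).hom.toAlgebra
  letI : Algebra (Z.residueField (f x)) (X.presheaf.stalk x) := ψ.hom.toAlgebra
  letI := (f.stalkMap x).hom.toAlgebra
  letI : Algebra R (Z.presheaf.stalk (f x)) :=
    ((Spec (CommRingCat.of k)).presheaf.germ ⊤ (g (f x)) trivial ≫ g.stalkMap (f x)).hom.toAlgebra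
  letI : Algebra R (X.presheaf.stalk x) :=
    (((Spec (CommRingCat.of k)).presheaf.germ ⊤ (g (f x)) trivial ≫ g.stalkMap (f x)) ≫ f.stalkMap x).hom.toAlgebra
  haveI : IsScalarTower R (Z.presheaf.stalk (f x)) (X.presheaf.stalk x) :=
    IsScalarTower.of_algebraMap_eq fun _ => rfl
  haveI : IsScalarTower R (Z.residueField (f x)) (X.presheaf.stalk x) :=
    IsScalarTower.of_algebraMap_eq fun r => by
      change f.stalkMap x _ = ψ (Z.residue (f x) _)
      exact (DFunLike.congr_fun (congrArg CommRingCat.Hom.hom hψ) _).symm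
  haveI : Algebra.IsGeometricallyReduced (Z.residueField (f x)) (X.presheaf.stalk x) := by
    rw [Algebra.isGeometricallyReduced_field_iff]
    haveI := isReduced_tensor f x ψ hψ hsep (AlgebraicClosure (Z.residueField (f x)))
    exact isReduced_of_injective _ (Algebra.TensorProduct.comm (Z.residueField (f x))
      (AlgebraicClosure (Z.residueField (f x))) (X.presheaf.stalk x)).injective
  obtain ⟨E₂, hE₂⟩ := OmegaLib.exists_stalk_equiv hdX (isAffineOpen_top (Spec (CommRingCat.of k))) x trivial
    (fun r => by
      have key : ∀ (h : X ⟶ Spec (CommRingCat.of k)), f ≫ g = h →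
          f.stalkMap x (g.stalkMap (f x) ((Spec (CommRingCat.of k)).presheaf.germ ⊤ (g (f x)) trivial r)) =
            h.stalkMap x ((Spec (CommRingCat.of k)).presheaf.germ ⊤ (h x) trivial r) := by
        rintro _ rfl
        rw [Scheme.Hom.stalkMap_comp]
        rfl
      exact key _ hf)
  obtain ⟨E₁, hE₁⟩ := OmegaLib.exists_stalk_compat hdZ hc (isAffineOpen_top (Spec (CommRingCat.of k))) x trivial
    (fun _ => rfl) E₂ hE₂
  obtain ⟨hfin, hle⟩ := le_finrank_kaehler g (f x) m hm
  obtain ⟨t, ht⟩ := FlatMor12.FreeCharts.exists_isBasisOn_top ψ₀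
  obtain ⟨b, hb⟩ := Clifford24.exists_basis_germ ht (x := x) trivial
  let T : Set ((DerSch.stalkFunctor X x).obj ΩX) :=
    Set.range fun i => OmegaLib.gm ΩX ⊤ x trivial (c.app ⊤ (t i))
  have hc' : ∀ v, (DerSch.stalkFunctor X x).map c v ∈ Submodule.span (X.presheaf.stalk x) T := fun v => by
    have hv : v ∈ Submodule.span (X.presheaf.stalk x)
        (Set.range fun i => OmegaLib.gm ((Scheme.Modules.pullback f).obj ΩZ) ⊤ x trivial (t i)) := by
      rw [show (fun i => OmegaLib.gm ((Scheme.Modules.pullback f).obj ΩZ) ⊤ x trivial (t i)) = ⇑b from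
        funext fun i => (hb i).symm]
      exact b.mem_span v
    refine Submodule.span_induction (fun v hv => ?_) ?_ (fun _ _ _ _ h h' => ?_) (fun a _ _ h => ?_) hv
    · obtain ⟨i, rfl⟩ := hv
      rw [OmegaLib.map_gm]
      exact Submodule.subset_span ⟨i, rfl⟩
    · rw [map_zero]; exact zero_mem _
    · rw [map_add]; exact add_mem h h'
    · rw [map_smul]; exact Submodule.smul_mem _ a h
  have hW : ∀ u, E₂ (KaehlerDifferential.mapBaseChange R (Z.residueField (f x)) (X.presheaf.stalk x) u) ∈
      Submodule.span (X.presheaf.stalk x) T := fun u => by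
    induction u using TensorProduct.induction_on with
    | zero => rw [map_zero, map_zero]; exact zero_mem _
    | add a b ha hb => rw [map_add, map_add]; exact add_mem ha hb
    | tmul a w =>
      rw [KaehlerDifferential.mapBaseChange_tmul, map_smul]
      refine Submodule.smul_mem _ _ ?_
      have hw : w ∈ Submodule.span (Z.residueField (f x))
          (Set.range (KaehlerDifferential.D R (Z.residueField (f x)))) := by
        rw [KaehlerDifferential.span_range_derivation]; exact Submodule.mem_top
      refine Submodule.span_induction (fun w hw => ?_) ?_ (fun _ _ _ _ h h' => ?_) (fun a _ _ h => ?_) hw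
      · obtain ⟨e, rfl⟩ := hw
        obtain ⟨a, rfl⟩ : ∃ a, Z.residue (f x) a = e := Ideal.Quotient.mk_surjective e
        rw [KaehlerDifferential.map_D]
        have h := hc' (E₁ (1 ⊗ₜ KaehlerDifferential.D R (Z.presheaf.stalk (f x)) a))
        rw [hE₁, KaehlerDifferential.mapBaseChange_tmul, one_smul, KaehlerDifferential.map_D] at h
        rwa [show algebraMap (Z.residueField (f x)) (X.presheaf.stalk x) (Z.residue (f x) a) =
          algebraMap (Z.presheaf.stalk (f x)) (X.presheaf.stalk x) a from
          DFunLike.congr_fun (congrArg CommRingCat.Hom.hom hψ) a]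
      · rw [map_zero, map_zero]; exact zero_mem _
      · rw [map_add, map_add]; exact add_mem h h'
      · rw [map_smul, ← algebraMap_smul (X.presheaf.stalk x) a, map_smul]; exact Submodule.smul_mem _ _ h
  haveI : Module.Finite (X.presheaf.stalk x) (Submodule.span (X.presheaf.stalk x) T) :=
    Module.Finite.span_of_finite _ (Set.finite_range _)
  have hrank : m ≤ Module.finrank (X.presheaf.stalk x) (Submodule.span (X.presheaf.stalk x) T) := by
    refine le_trans ?_ (LinearMap.finrank_le_finrank_of_injective
      (f := (E₂.toLinearMap.comp (KaehlerDifferential.mapBaseChange R (Z.residueField (f x))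
        (X.presheaf.stalk x))).codRestrict _ hW) ?_)
    · rw [Module.finrank_baseChange]; exact hle
    · intro u v huv
      exact EGA41Lib.injective_mapBaseChange_of_isGeometricallyReduced R (Z.residueField (f x))
        (X.presheaf.stalk x) (E₂.injective (congrArg Subtype.val huv))
  obtain ⟨F, hFT, -, hFli⟩ := Submodule.exists_fun_fin_finrank_span_eq (X.presheaf.stalk x) T
  choose i hi using fun j => hFT (Fin.castLE hrank j)
  refine ⟨fun j => c.app ⊤ (t (i j)), ?_⟩
  have := hFli.comp (Fin.castLE hrank) (Fin.castLE_injective hrank)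
  convert this using 1
  exact funext hi

end Groth.Agent.Omega15
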