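import Mathlib.RingTheory.Kaehler.TensorProduct
import Mathlib.RingTheory.Etale.Kaehler
import Mathlib.RingTheory.IsTensorProduct
import Mathlib.RingTheory.Smooth.Basic

/-! When is `B ⊗_A Ω[A⁄R] → Ω[B⁄R']` bijective. -/

set_option autoImplicit false
set_option linter.unusedSectionVars false
set_option linter.style.haveILetI false
universe u

open scoped TensorProduct
open KaehlerDifferential

noncomputable section

namespace Groth.Agent.Omega15

variable (R R' A B : Type u) [CommRing R] [CommRing R'] [CommRing A] [CommRing B]
  [Algebra R R'] [Algebra R A] [Algebra R B] [Algebra R' B] [Algebra A B]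
  [IsScalarTower R A B] [IsScalarTower R R' B] [SMulCommClass R' A B]

theorem bijective_of_formallyEtale [Algebra.FormallyEtale A B] [Algebra.FormallyUnramified R R'] :
    Function.Bijective ((map R R' A B).liftBaseChange B) := by
  haveI : SMulCommClass R' B B := ⟨fun a b c => by simp only [Algebra.smul_def, smul_eq_mul]; ring⟩
  have key : (map R R' A B).liftBaseChange B = (map R R' B B) ∘ₗ (map R R A B).liftBaseChange B := by
    refine LinearMap.ext fun t => ?_
    induction t using TensorProduct.induction_on with
    | zero => simp
    | add x y hx hy => simp only [map_add, hx, hy]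
    | tmul b y =>
      simp only [LinearMap.liftBaseChange_tmul, LinearMap.comp_apply, map_smul]
      congr 1
      have hy : y ∈ Submodule.span A (Set.range (KaehlerDifferential.D R A)) := by
        rw [span_range_derivation]; trivial
      induction hy using Submodule.span_induction with
      | mem z hz => obtain ⟨a, rfl⟩ := hz; simp [map_D]
      | zero => simp
      | add z w _ _ hz hw => simp only [map_add, hz, hw]
      | smul a z _ hz => rw [map_smul, map_smul, ← algebraMap_smul B a ((map R R A B) z), map_smul, hz, algebraMap_smul]
  rw [key, LinearMap.coe_comp]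
  refine Function.Bijective.comp ⟨?_, map_surjective R R' B⟩ (isBaseChange_of_formallyEtale R A B)
  rw [injective_iff_map_eq_zero]
  intro z hz
  obtain ⟨w, rfl⟩ := (exact_mapBaseChange_map R R' B z).1 hz
  rw [Subsingleton.elim w 0, map_zero]

theorem bijective_of_pushout (A₀ P : Type u) [CommRing A₀] [CommRing P]
    [Algebra R A₀] [Algebra R P] [Algebra R' P] [Algebra A₀ P] [IsScalarTower R A₀ P] [IsScalarTower R R' P]
    [Algebra.IsPushout R R' A₀ P]
    [Algebra A₀ A] [IsScalarTower R A₀ A] [Algebra.FormallyEtale A₀ A]
    [Algebra P B] [IsScalarTower R' P B] [Algebra.FormallyEtale P B]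
    [Algebra A₀ B] [IsScalarTower A₀ P B] [IsScalarTower A₀ A B] :
    Function.Bijective ((map R R' A B).liftBaseChange B) := by
  haveI : SMulCommClass R' A₀ P := ⟨fun a b c => by simp only [Algebra.smul_def, smul_eq_mul]; ring⟩
  haveI : SMulCommClass R' A₀ B := ⟨fun a b c => by simp only [Algebra.smul_def, smul_eq_mul]; ring⟩
  have h2 : IsBaseChange P (map R R' A₀ P) := by
    refine IsBaseChange.of_equiv (tensorKaehlerEquiv R R' A₀ P) fun y => ?_
    have hy : y ∈ Submodule.span A₀ (Set.range (KaehlerDifferential.D R A₀)) := by
      rw [span_range_derivation]; trivial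
    induction hy using Submodule.span_induction with
    | mem z hz => obtain ⟨a, rfl⟩ := hz; rw [tensorKaehlerEquiv_tmul_D, one_smul, map_D]
    | zero => simp
    | add z w _ _ hz hw => simp only [TensorProduct.tmul_add, map_add, hz, hw]
    | smul a z _ hz =>
      rw [TensorProduct.tmul_smul, (map R R' A₀ P).map_smul, ← algebraMap_smul P a ((1 : P) ⊗ₜ[A₀] z), LinearEquiv.map_smul, hz, algebraMap_smul]
  have h3 := h2.comp (isBaseChange_of_formallyEtale R' P B)
  have e : ((map R' R' P B).restrictScalars A₀).comp (map R R' A₀ P) =
      ((map R R' A B).restrictScalars A₀).comp (map R R A₀ A) := by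
    refine LinearMap.ext_on_range (span_range_derivation R A₀) fun a => ?_
    simp only [LinearMap.comp_apply, LinearMap.restrictScalars_apply, map_D, ← IsScalarTower.algebraMap_apply]
  rw [e] at h3
  have h4 := IsBaseChange.of_comp (isBaseChange_of_formallyEtale R A₀ A) h3
  convert h4.equiv.bijective using 1
  refine funext fun t => ?_
  induction t using TensorProduct.induction_on with
  | zero => simp
  | add x y hx hy => simp only [map_add, hx, hy]
  | tmul b y => rw [IsBaseChange.equiv_tmul, LinearMap.liftBaseChange_tmul]

end Groth.Agent.Omega15
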