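import Groth.Agent.OmegaLib.StalkCompat
import Groth.Agent.ModStalk.Exact
import Groth.Agent.Omega15.Ring

/-! The stalk of the compatible map of differentials over a commutative square; isomorphism criterion. -/

set_option autoImplicit false
set_option backward.isDefEq.respectTransparency.types false
set_option backward.isDefEq.respectTransparency false
universe u

open CategoryTheory AlgebraicGeometry TopologicalSpace Opposite
open scoped TensorProduct

noncomputable section

namespace Groth.Agent.Omega15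

open OmegaLib

variable {X S X' S' : Scheme.{u}} {g : X ⟶ S} {g' : X' ⟶ S'} {h : X' ⟶ X}

/-- The stalk of the compatible map of differentials. -/
theorem stalk_bijective {Ω : X.Modules} {d : OmegaSh.Der g Ω} (hd : OmegaSh.IsUniversal d)
    {Ω' : X'.Modules} {d' : OmegaSh.Der g' Ω'} (hd' : OmegaSh.IsUniversal d')
    {c : (Scheme.Modules.pullback h).obj Ω ⟶ Ω'} (hc : OmegaSh.IsDiffCompat h d d' c)
    (x : X') {T : S.Opens} (hT : IsAffineOpen T) (hxT : g (h x) ∈ T)
    {T' : S'.Opens} (hT' : IsAffineOpen T') (hxT' : g' x ∈ T') :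
    letI := (h.stalkMap x).hom.toAlgebra
    ∀ [Algebra Γ(S, T) Γ(S', T')] [Algebra Γ(S, T) (X.presheaf.stalk (h x))] [Algebra Γ(S, T) (X'.presheaf.stalk x)]
      [Algebra Γ(S', T') (X'.presheaf.stalk x)]
      [IsScalarTower Γ(S, T) (X.presheaf.stalk (h x)) (X'.presheaf.stalk x)]
      [IsScalarTower Γ(S, T) Γ(S', T') (X'.presheaf.stalk x)]
      [SMulCommClass Γ(S', T') (X.presheaf.stalk (h x)) (X'.presheaf.stalk x)]
      (_ : ∀ r, algebraMap Γ(S, T) (X.presheaf.stalk (h x)) r =
        g.stalkMap (h x) (S.presheaf.germ T (g (h x)) hxT r))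
      (_ : ∀ r, algebraMap Γ(S', T') (X'.presheaf.stalk x) r =
        g'.stalkMap x (S'.presheaf.germ T' (g' x) hxT' r))
      (_ : Function.Bijective ((KaehlerDifferential.map Γ(S, T) Γ(S', T') (X.presheaf.stalk (h x))
        (X'.presheaf.stalk x)).liftBaseChange (X'.presheaf.stalk x))),
      IsIso ((DerSch.stalkFunctor X' x).map c) := by
  letI := (h.stalkMap x).hom.toAlgebra
  intro _ _ _ _ _ _ _ halA halB hbij
  obtain ⟨EY, hEY⟩ := exists_stalk_equiv hd hT (h x) hxT halA
  obtain ⟨E₂, hE₂⟩ := exists_stalk_equiv hd' hT' x hxT' halB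
  obtain ⟨E, hE⟩ := exists_pullback_stalk_equiv h Ω x
  let cl : (DerSch.stalkFunctor X' x).obj ((Scheme.Modules.pullback h).obj Ω) →ₗ[X'.presheaf.stalk x]
      (DerSch.stalkFunctor X' x).obj Ω' := ((DerSch.stalkFunctor X' x).map c).hom
  let E₁ := (EY.baseChange (X.presheaf.stalk (h x)) (X'.presheaf.stalk x)).trans E
  let L₁ := cl ∘ₗ E₁.toLinearMap
  let L₂ := E₂.toLinearMap ∘ₗ (KaehlerDifferential.map Γ(S, T) Γ(S', T') (X.presheaf.stalk (h x))
        (X'.presheaf.stalk x)).liftBaseChange (X'.presheaf.stalk x)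
  have key : ∀ (b : X'.presheaf.stalk x) (y : Ω[X.presheaf.stalk (h x)⁄Γ(S, T)]), L₁ (b ⊗ₜ y) = L₂ (b ⊗ₜ y) := by
    intro b y
    have hy : y ∈ Submodule.span (X.presheaf.stalk (h x))
        (Set.range (KaehlerDifferential.D Γ(S, T) (X.presheaf.stalk (h x)))) := by
      rw [KaehlerDifferential.span_range_derivation]; trivial
    induction hy using Submodule.span_induction generalizing b with
    | mem y hy =>
      obtain ⟨a, rfl⟩ := hy
      rw [show (b ⊗ₜ[X.presheaf.stalk (h x)] KaehlerDifferential.D Γ(S, T) (X.presheaf.stalk (h x)) a) =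
        b • ((1 : X'.presheaf.stalk x) ⊗ₜ[X.presheaf.stalk (h x)] KaehlerDifferential.D Γ(S, T) (X.presheaf.stalk (h x)) a)
        by rw [TensorProduct.smul_tmul', smul_eq_mul, mul_one], map_smul, map_smul]
      congr 1
      obtain ⟨U, hx, s, rfl⟩ := X.presheaf.exists_germ_eq (x := h x) a
      simp only [L₁, L₂, E₁, LinearMap.comp_apply, LinearEquiv.coe_coe, LinearEquiv.trans_apply, LinearEquiv.baseChange_tmul,
        LinearMap.liftBaseChange_tmul, one_smul, KaehlerDifferential.map_D, hEY, hE]
      rw [show algebraMap (X.presheaf.stalk (h x)) (X'.presheaf.stalk x) (X.presheaf.germ U (h x) hx s) =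
        X'.presheaf.germ (h ⁻¹ᵁ U) x hx (h.app U s) from Scheme.Hom.germ_stalkMap_apply h U x hx s, hE₂]
      show (DerSch.stalkFunctor X' x).map c _ = _
      rw [map_gm, hc]
    | zero => simp only [TensorProduct.tmul_zero, map_zero]
    | add y z _ _ hy hz => simp only [TensorProduct.tmul_add, map_add, hy b, hz b]
    | smul a y _ hy => rw [← TensorProduct.smul_tmul]; exact hy _
  have heq : L₁ = L₂ := LinearMap.ext fun t => by
    induction t using TensorProduct.induction_on with
    | zero => rw [map_zero, map_zero]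
    | tmul b y => exact key b y
    | add u v hu hv => rw [map_add, map_add, hu, hv]
  have hL : Function.Bijective L₁ := heq ▸ E₂.bijective.comp hbij
  refine (ConcreteCategory.isIso_iff_bijective _).2 ?_
  have hL' : Function.Bijective (cl ∘ E₁) := hL
  exact (Function.Bijective.of_comp_iff _ E₁.bijective).1 hL'

end Groth.Agent.Omega15
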