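import Groth.Agent.Omega15.ConormalDiffExist
import Groth.Agent.Omega15.ConormalSeq
import Groth.Agent.Omega15.ConormalSmooth
import Groth.Agent.Omega15.ThickRetract
import Groth.Agent.Omega15.Geometry
import Groth.Agent.Omega15.Compat
import Groth.Agent.SplitP1.Split
import Groth.Agent.RefHullLib.Restrict
import Groth.Agent.OmegaLib.DOmega
import Groth.Agent.Omega15.UnivConormal
import Mathlib.Algebra.Category.ModuleCat.Free

/-! Ranks in the conormal sequence and the virtual relative dimension. -/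

set_option autoImplicit false
set_option backward.isDefEq.respectTransparency.types false
universe u

open CategoryTheory CategoryTheory.Limits AlgebraicGeometry TopologicalSpace Opposite

noncomputable section

namespace Groth.Agent.Omega15

open OmegaLib Thick15

variable {X Y : Scheme.{u}}

/-- `M` is free of rank `n` at `x` -/
def FreeAt (n : ℕ) (M : X.Modules) (x : X) : Prop :=
  Nonempty (Module.Basis (Fin n) (X.presheaf.stalk x) ((DerSch.stalkFunctor X x).obj M))

theorem freeAt_semilinear {R R' : Type u} [CommRing R] [CommRing R'] (φ : R ≃+* R') {M N : Type u}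
    [AddCommGroup M] [Module R M] [AddCommGroup N] [Module R' N] (e : M ≃+ N)
    (he : ∀ (a : R) (v : M), e (a • v) = φ a • e v) {n : ℕ} (b : Module.Basis (Fin n) R' N) :
    Nonempty (Module.Basis (Fin n) R M) := by
  let L : (Fin n → R) →ₗ[R] M := Fintype.linearCombination R fun i => e.symm (b i)
  have hL : ∀ c, e (L c) = b.equivFun.symm fun i => φ (c i) := fun c => by
    rw [Module.Basis.equivFun_symm_apply]
    show e (∑ i, c i • e.symm (b i)) = _
    refine (map_sum e _ _).trans (Finset.sum_congr rfl fun i _ => ?_)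
    rw [he, AddEquiv.apply_symm_apply]
  refine ⟨Module.Basis.ofEquivFun (LinearEquiv.ofBijective L ⟨fun c c' hc => ?_, fun m => ?_⟩).symm⟩
  · have := b.equivFun.symm.injective ((hL c).symm.trans ((congrArg e hc).trans (hL c')))
    exact funext fun i => φ.injective (congrFun this i)
  · exact ⟨fun i => φ.symm (b.equivFun (e m) i), e.injective (by simp [hL])⟩

theorem freeAt_of_restrict {M : X.Modules} {U : X.Opens} {x : X} (hx : x ∈ U) {n : ℕ}
    (h : FlatMod.IsFinLocFreeOfRank n ((Scheme.Modules.restrictFunctor U.ι).obj M)) : FreeAt n M x := by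
  obtain ⟨b⟩ := SplitP1.nonempty_basis_stalk h ⟨x, hx⟩
  obtain ⟨φ, e, he, -, -⟩ := RefHullLib.exists_semilinear_restrict U.ι M ⟨x, hx⟩
  exact freeAt_semilinear φ e he b

theorem FreeAt.of_iso {M N : X.Modules} {n : ℕ} {x : X} (h : FreeAt n M x) (e : M ≅ N) : FreeAt n N x :=
  h.map fun b => b.map ((DerSch.stalkFunctor X x).mapIso e).toLinearEquiv

theorem FreeAt.unique {M : X.Modules} {n m : ℕ} {x : X} (h : FreeAt n M x) (h' : FreeAt m M x) : n = m := by
  obtain ⟨b⟩ := h
  obtain ⟨b'⟩ := h'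
  simpa using Fintype.card_congr (b.indexEquiv b')

theorem FreeAt.pullback {M : Y.Modules} {n : ℕ} (f : X ⟶ Y) {x : X} (h : FreeAt n M (f x)) :
    FreeAt n ((Scheme.Modules.pullback f).obj M) x := by
  letI := (f.stalkMap x).hom.toAlgebra
  obtain ⟨E, -⟩ := exists_pullback_stalk_equiv f M x
  exact h.map fun b => (Algebra.TensorProduct.basis (X.presheaf.stalk x) b).map E

theorem freeAt_pullback_id {M : X.Modules} {n : ℕ} {x : X} (h : FreeAt n M x) :
    FreeAt n ((Scheme.Modules.pullback (𝟙 X)).obj M) x :=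
  h.of_iso ((Scheme.Modules.pullbackId X).app M).symm

theorem FreeAt.shortExact {S : ShortComplex X.Modules} (hS : S.ShortExact) {n m : ℕ} {x : X}
    (h₁ : FreeAt n S.X₁ x) (h₃ : FreeAt m S.X₃ x) : FreeAt (n + m) S.X₂ x := by
  obtain ⟨b₁⟩ := h₁
  obtain ⟨b₃⟩ := h₃
  have hS' := hS.map_of_exact (DerSch.stalkFunctor X x)
  exact ⟨(ModuleCat.Basis.ofShortExact hS' b₁ b₃).reindex finSumFinEquiv⟩

variable {Z V P : Scheme.{u}}

/-- along a smooth map the conormal rank grows by the rank of the differentials -/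
theorem freeAt_conormal_of_smooth (p : P ⟶ V) [Smooth p] (i : Z ⟶ V) (j : Z ⟶ P) [IsImmersion i]
    [IsImmersion j] [QuasiCompact i] [QuasiCompact j] (hij : j ≫ p = i) {Ω : P.Modules} {d : OmegaSh.Der p Ω}
    (hd : OmegaSh.IsUniversal d) {z : Z} {b a : ℕ} (hb : FreeAt b (Omega.conormal i) z)
    (ha : FreeAt a ((Scheme.Modules.pullback j).obj Ω) z) : FreeAt (b + a) (Omega.conormal j) z := by
  obtain ⟨ψ, hψ⟩ := exists_conormalMap (i := j) (i' := i) (g := p) (gZ := 𝟙 Z)
    (show 𝟙 Z ≫ i = j ≫ p by rw [hij, Category.id_comp])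
  obtain ⟨φ, hφ⟩ := exists_conormalDiff j d
  obtain ⟨w, hex, hepi⟩ := conormal_omega_exact hd hψ hφ
  haveI := mono_conormalMap_of_formallySmooth (isFormallySmoothHom_of_smooth p) hψ
  haveI := hepi
  exact FreeAt.shortExact (ShortComplex.ShortExact.mk' hex ‹Mono ψ› ‹Epi φ›) (freeAt_pullback_id hb) ha

/-- open pieces have the same conormal rank -/
theorem freeAt_conormal_open {U V₀ : Scheme.{u}} (u : U ⟶ Z) (v : V₀ ⟶ V) [IsOpenImmersion u] [IsOpenImmersion v]
    (i : Z ⟶ V) (i₀ : U ⟶ V₀) [IsImmersion i] [QuasiCompact i] [IsImmersion i₀] [QuasiCompact i₀]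
    (h : u ≫ i = i₀ ≫ v) {z : U} {b : ℕ} (hb : FreeAt b (Omega.conormal i) (u z)) :
    FreeAt b (Omega.conormal i₀) z := by
  obtain ⟨φ, hφ⟩ := exists_conormalMap (i := i₀) (i' := i) (g := v) (gZ := u) h
  have hy : v (i₀ z) = i (u z) := congrArg (fun f : U ⟶ V => f z) h.symm
  obtain ⟨π, hπ⟩ := exists_pi i₀ z (y := i₀ z) rfl
  obtain ⟨π', hπ'⟩ := exists_pi i (u z) (y := i (u z)) rfl
  obtain ⟨P, hP⟩ := exists_pullP u (Omega.conormal i) z
  let f : V.presheaf.stalk (i (u z)) ≃+* V₀.presheaf.stalk (i₀ z) :=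
    RingEquiv.ofBijective (tm v hy).hom ⟨tm_injective_of_isOpenImmersion v hy, tm_surjective v hy⟩
  let g : Z.presheaf.stalk (u z) ≃+* U.presheaf.stalk z :=
    RingEquiv.ofBijective (u.stalkMap z).hom (ConcreteCategory.bijective_of_isIso _)
  have hcomm : ∀ a, tm i₀ (x := z) rfl (f a) = g (tm i (x := u z) rfl a) := fun a => by
    have h1 := congr($(tm_comm h.symm (x := z) (y := i₀ z) rfl hy (y' := u z) rfl rfl) a)
    simp only [CommRingCat.comp_apply, tm_self] at h1 ⊢
    exact h1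
  let I' := RingHom.ker (tm i (x := u z) rfl).hom
  let I := RingHom.ker (tm i₀ (x := z) rfl).hom
  have hmap : I'.map f.toRingHom = I := by
    refine le_antisymm (Ideal.map_le_iff_le_comap.2 fun a ha => ?_) fun a ha => ?_
    · show tm i₀ rfl (f a) = 0
      rw [hcomm, show tm i (x := u z) rfl a = 0 from ha, map_zero]
    · obtain ⟨c, rfl⟩ := f.surjective a
      refine Ideal.mem_map_of_mem _ (g.injective ?_)
      rw [map_zero]
      exact (hcomm c).symm.trans ha
  let κ : (DerSch.stalkFunctor Z (u z)).obj (Omega.conormal i) →+ (DerSch.stalkFunctor U z).obj (Omega.conormal i₀) :=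
    ((DerSch.stalkFunctor U z).map φ).hom.toAddMonoidHom.comp P
  have hκ : ∀ x, κ (π' x) = π ⟨f x.1, tm_mem_ker hφ.1 z rfl hy rfl x.2⟩ := fun x =>
    pi_conormalMap hφ z rfl hy rfl hπ hπ' hP x
  have hbij : Function.Bijective κ := by
    refine ⟨(injective_iff_map_eq_zero κ).2 fun m hm => ?_, fun m => ?_⟩
    · obtain ⟨x, rfl⟩ := hπ'.1 m
      rw [hκ] at hm
      refine (hπ'.2.1 x).2 ?_
      have h1 : f x.1 ∈ I ^ 2 := (hπ.2.1 _).1 hm
      rw [← hmap, ← Ideal.map_pow, Ideal.mem_map_iff_of_surjective f.toRingHom f.surjective] at h1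
      obtain ⟨c, hc, hcx⟩ := h1
      rwa [← f.injective hcx]
    · obtain ⟨⟨a, ha⟩, rfl⟩ := hπ.1 m
      obtain ⟨c, rfl⟩ := f.surjective a
      exact ⟨π' ⟨c, g.injective ((hcomm c).symm.trans (ha.trans (map_zero g).symm))⟩, hκ _⟩
  refine freeAt_semilinear g.symm (AddEquiv.ofBijective κ hbij).symm (fun a m => ?_) hb.some
  apply (AddEquiv.ofBijective κ hbij).injective
  rw [AddEquiv.apply_symm_apply]
  obtain ⟨k, rfl⟩ := g.surjective a
  obtain ⟨m, rfl⟩ := (AddEquiv.ofBijective κ hbij).surjective m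
  rw [RingEquiv.symm_apply_apply, AddEquiv.symm_apply_apply]
  obtain ⟨x, rfl⟩ := hπ'.1 m
  obtain ⟨c, rfl⟩ := (show Function.Surjective (tm i (x := u z) rfl).hom from tm_surjective i rfl) k
  show g ((tm i (x := u z) rfl).hom c) • κ (π' x) = κ ((tm i (x := u z) rfl).hom c • π' x)
  refine Eq.trans ?_ (congrArg κ (hπ'.2.2.1 c x))
  rw [hκ, hκ]
  refine ((congrArg (fun t => t • π ⟨f x.1, _⟩) (hcomm c).symm).trans (hπ.2.2.1 (f c) _).symm).trans
    (congrArg π (Subtype.ext ?_))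
  exact (map_mul f c x.1).symm

/-- the differentials of an open piece -/
theorem freeAt_pullback_omega_open {U V₀ : Scheme.{u}} (u : U ⟶ Z) (v : V₀ ⟶ V) [IsOpenImmersion u]
    [IsOpenImmersion v] {S : Scheme.{u}} (g : V ⟶ S) [QuasiSeparated (v ≫ g)] (i : Z ⟶ V) (i₀ : U ⟶ V₀)
    (h : u ≫ i = i₀ ≫ v) {Ω : V.Modules} {d : OmegaSh.Der g Ω} (hd : OmegaSh.IsUniversal d) {z : U} {a : ℕ}
    (ha : FreeAt a ((Scheme.Modules.pullback i).obj Ω) (u z)) :
    FreeAt a ((Scheme.Modules.pullback i₀).obj (Omega.sheaf (v ≫ g))) z := by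
  have hsq : v ≫ g = (v ≫ g) ≫ 𝟙 S := (Category.comp_id _).symm
  obtain ⟨cc, hcc, -⟩ := existsUnique_compat v (𝟙 S) hsq.symm hd (OmegaSh.dOmega (v ≫ g))
  haveI := isIso_of_etale v (𝟙 S) hsq hd (OmegaLib.isUniversal_dOmega (v ≫ g)) hcc
  exact (ha.pullback u).of_iso ((Scheme.Modules.pullbackComp u i).app Ω ≪≫
    (Scheme.Modules.pullbackCongr h).app Ω ≪≫ ((Scheme.Modules.pullbackComp i₀ v).app Ω).symm ≪≫
      (Scheme.Modules.pullback i₀).mapIso (asIso cc))

/-- the virtual dimension does not depend on the factorisation (quasi-separated case) -/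
theorem virtualDim_eq_qs {V' : Scheme.{u}} (g : V ⟶ Y) [Smooth g] [QuasiSeparated g] (g' : V' ⟶ Y) [Smooth g']
    [QuasiSeparated g'] (i : X ⟶ V) (i' : X ⟶ V') [IsImmersion i] [QuasiCompact i] [IsImmersion i'] [QuasiCompact i']
    (h : i ≫ g = i' ≫ g')
    {x : X} {a b a' b' : ℕ} (ha : FreeAt a ((Scheme.Modules.pullback i).obj (Omega.sheaf g)) x)
    (hb : FreeAt b (Omega.conormal i) x) (ha' : FreeAt a' ((Scheme.Modules.pullback i').obj (Omega.sheaf g')) x)
    (hb' : FreeAt b' (Omega.conormal i') x) : b + a' = b' + a := by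
  let j : X ⟶ pullback g g' := pullback.lift i i' h
  have hj₁ : j ≫ pullback.fst g g' = i := pullback.lift_fst _ _ _
  have hj₂ : j ≫ pullback.snd g g' = i' := pullback.lift_snd _ _ _
  haveI : IsImmersion (j ≫ pullback.fst g g') := hj₁ ▸ inferInstance
  haveI : IsImmersion j := IsImmersion.of_comp j (pullback.fst g g')
  haveI : QuasiCompact (j ≫ pullback.fst g g') := hj₁ ▸ inferInstance
  haveI : QuasiCompact j := QuasiCompact.of_comp j (pullback.fst g g')
  have side : ∀ {A A' : Scheme.{u}} (q : A ⟶ Y) (q' : A' ⟶ Y) [QuasiSeparated q] (p : pullback g g' ⟶ A)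
      (p' : pullback g g' ⟶ A') [QuasiSeparated p'] (_ : IsPullback p p' q q') (k : X ⟶ A) (_ : j ≫ p = k) {c : ℕ}
      (_ : FreeAt c ((Scheme.Modules.pullback k).obj (Omega.sheaf q)) x),
      FreeAt c ((Scheme.Modules.pullback j).obj (Omega.sheaf p')) x := by
    intro A A' q q' _ p p' _ hsq k hk c hc
    subst hk
    obtain ⟨cc, hcc, -⟩ := existsUnique_compat p q' hsq.w.symm (OmegaLib.isUniversal_dOmega q) (OmegaSh.dOmega p')
    haveI := isIso_of_isPullback hsq (OmegaLib.isUniversal_dOmega q) (OmegaLib.isUniversal_dOmega p') hcc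
    exact hc.of_iso (((Scheme.Modules.pullbackComp j p).app (Omega.sheaf q)).symm ≪≫
      (Scheme.Modules.pullback j).mapIso (asIso cc))
  have h1 := freeAt_conormal_of_smooth (pullback.fst g g') i j hj₁ (OmegaLib.isUniversal_dOmega (pullback.fst g g'))
    hb (side g' g (pullback.snd g g') (pullback.fst g g') (IsPullback.of_hasPullback g g').flip i' hj₂ ha')
  have h2 := freeAt_conormal_of_smooth (pullback.snd g g') i' j hj₂ (OmegaLib.isUniversal_dOmega (pullback.snd g g'))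
    hb' (side g g' (pullback.fst g g') (pullback.snd g g') (IsPullback.of_hasPullback g g') i hj₁ ha)
  exact h1.unique h2

theorem exists_affine_qs (g : V ⟶ Y) (y : V) : ∃ W : V.Opens, IsAffineOpen W ∧ y ∈ W ∧ QuasiSeparated ((Scheme.Opens.ι W) ≫ g) := by
  obtain ⟨W, hW, hyW, -⟩ := Opens.isBasis_iff_nbhd.mp V.isBasis_affineOpens (Opens.mem_top y)
  haveI : IsAffine (W : Scheme.{u}) := hW
  haveI : IsSeparated (((Scheme.Opens.ι W) ≫ g) ≫ terminal.from Y) := by
    rw [terminal.comp_from]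
    exact (Scheme.isSeparated_iff W).1 inferInstance
  haveI : IsSeparated ((Scheme.Opens.ι W) ≫ g) := IsSeparated.of_comp _ (terminal.from Y)
  exact ⟨W, hW, hyW, inferInstance⟩

/-- the virtual dimension does not depend on the factorisation -/
theorem virtualDim_eq {V' : Scheme.{u}} (g : V ⟶ Y) [Smooth g] (g' : V' ⟶ Y) [Smooth g'] (i : X ⟶ V) (i' : X ⟶ V')
    [IsClosedImmersion i] [IsClosedImmersion i'] (h : i ≫ g = i' ≫ g')
    {Ω : V.Modules} {d : OmegaSh.Der g Ω} (hd : OmegaSh.IsUniversal d)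
    {Ω' : V'.Modules} {d' : OmegaSh.Der g' Ω'} (hd' : OmegaSh.IsUniversal d')
    {x : X} {a b a' b' : ℕ} (ha : FreeAt a ((Scheme.Modules.pullback i).obj Ω) x)
    (hb : FreeAt b (Omega.conormal i) x) (ha' : FreeAt a' ((Scheme.Modules.pullback i').obj Ω') x)
    (hb' : FreeAt b' (Omega.conormal i') x) : b + a' = b' + a := by
  obtain ⟨W, hWa, hW, _⟩ := exists_affine_qs g (i x)
  obtain ⟨W', hWa', hW', _⟩ := exists_affine_qs g' (i' x)
  obtain ⟨U, hU, hxU, hUle⟩ := Opens.isBasis_iff_nbhd.mp X.isBasis_affineOpens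
    (show x ∈ i ⁻¹ᵁ W ⊓ i' ⁻¹ᵁ W' from ⟨hW, hW'⟩)
  haveI : IsAffine (U : Scheme.{u}) := hU
  let i₀ : (U : Scheme.{u}) ⟶ W := i.resLE W U (hUle.trans inf_le_left)
  let i₀' : (U : Scheme.{u}) ⟶ W' := i'.resLE W' U (hUle.trans inf_le_right)
  have e : (Scheme.Opens.ι U) ≫ i = i₀ ≫ (Scheme.Opens.ι W) := (Scheme.Hom.resLE_comp_ι _ _).symm
  have e' : (Scheme.Opens.ι U) ≫ i' = i₀' ≫ (Scheme.Opens.ι W') := (Scheme.Hom.resLE_comp_ι _ _).symm
  haveI : IsImmersion (i₀ ≫ (Scheme.Opens.ι W)) := e ▸ inferInstance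
  haveI : IsImmersion i₀ := IsImmersion.of_comp i₀ (Scheme.Opens.ι W)
  haveI : IsImmersion (i₀' ≫ (Scheme.Opens.ι W')) := e' ▸ inferInstance
  haveI : IsImmersion i₀' := IsImmersion.of_comp i₀' (Scheme.Opens.ι W')
  haveI : QuasiCompact i₀ := by
    haveI : IsAffine (W : Scheme.{u}) := hWa
    infer_instance
  haveI : QuasiCompact i₀' := by
    haveI : IsAffine (W' : Scheme.{u}) := hWa'
    infer_instance
  exact virtualDim_eq_qs ((Scheme.Opens.ι W) ≫ g) ((Scheme.Opens.ι W') ≫ g') i₀ i₀' (by rw [← Category.assoc, ← Category.assoc, ← e, ← e',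
      Category.assoc, Category.assoc, h]) (x := ⟨x, hxU⟩)
    (freeAt_pullback_omega_open (Scheme.Opens.ι U) (Scheme.Opens.ι W) g i i₀ e hd ha) (freeAt_conormal_open (Scheme.Opens.ι U) (Scheme.Opens.ι W) i i₀ e hb)
    (freeAt_pullback_omega_open (Scheme.Opens.ι U) (Scheme.Opens.ι W') g' i' i₀' e' hd' ha') (freeAt_conormal_open (Scheme.Opens.ι U) (Scheme.Opens.ι W') i' i₀' e' hb')

end Groth.Agent.Omega15
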