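import Groth.Agent.Omega15.VirtDim15
import Groth.Agent.RegImmH1.Conormal
import Groth.Agent.Synt15.LCIPermanence
import Groth.Agent.S9372

/-! Additivity of the virtual relative dimension under composition. -/

set_option autoImplicit false
set_option backward.isDefEq.respectTransparency.types false
set_option linter.style.haveILetI false
universe u

open CategoryTheory CategoryTheory.Limits AlgebraicGeometry TopologicalSpace Opposite

noncomputable section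

namespace Groth.Agent.Omega15

open OmegaLib Thick15

variable {X Y Z V W T : Scheme.{u}}

theorem exists_freeAt_of_isFinLocFree {M : X.Modules} (h : FlatMod.IsFinLocFree M) (x : X) :
    ∃ n, FreeAt n M x := by
  obtain ⟨U, n, hx, ⟨e⟩⟩ := h x
  refine ⟨n, freeAt_of_restrict hx fun y => ⟨⊤, trivial, ⟨?_⟩⟩⟩
  exact (Scheme.Modules.restrictFunctor _).mapIso e ≪≫ (Scheme.Modules.restrictFunctorIsoPullback _).app _ ≪≫
    (DCat.PerfTensor.nonempty_pullback_free _ n).some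

/-- differentials of a base change, pulled back to `X` -/
theorem freeAt_omega_baseChange {A A' B B' : Scheme.{u}} {q : A ⟶ B} {g : B' ⟶ B} {p : A' ⟶ A} {q' : A' ⟶ B'}
    [QuasiSeparated q'] (hsq : IsPullback p q' q g) {Ω : A.Modules} {d : OmegaSh.Der q Ω}
    (hd : OmegaSh.IsUniversal d) (j : X ⟶ A') (k : X ⟶ A) (hk : j ≫ p = k) {x : X} {c : ℕ}
    (hc : FreeAt c ((Scheme.Modules.pullback k).obj Ω) x) :
    FreeAt c ((Scheme.Modules.pullback j).obj (Omega.sheaf q')) x := by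
  subst hk
  obtain ⟨cc, hcc, -⟩ := existsUnique_compat p g hsq.w.symm hd (OmegaSh.dOmega q')
  haveI := isIso_of_isPullback hsq hd (OmegaLib.isUniversal_dOmega q') hcc
  exact hc.of_iso (((Scheme.Modules.pullbackComp j p).app Ω).symm ≪≫
    (Scheme.Modules.pullback j).mapIso (asIso cc))

/-- differentials of an open piece over an open piece of the base -/
theorem freeAt_pullback_omega_open₂ {U V₀ S S₀ : Scheme.{u}} (u : U ⟶ X) (v : V₀ ⟶ V) (s : S₀ ⟶ S) [IsOpenImmersion u]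
    [IsOpenImmersion v] [IsOpenImmersion s] (g : V ⟶ S) (g₀ : V₀ ⟶ S₀) [QuasiSeparated g₀] (hg : v ≫ g = g₀ ≫ s)
    (i : X ⟶ V) (i₀ : U ⟶ V₀) (h : u ≫ i = i₀ ≫ v) {Ω : V.Modules} {d : OmegaSh.Der g Ω}
    (hd : OmegaSh.IsUniversal d) {z : U} {a : ℕ} (ha : FreeAt a ((Scheme.Modules.pullback i).obj Ω) (u z)) :
    FreeAt a ((Scheme.Modules.pullback i₀).obj (Omega.sheaf g₀)) z := by
  obtain ⟨cc, hcc, -⟩ := existsUnique_compat v s hg.symm hd (OmegaSh.dOmega g₀)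
  haveI := isIso_of_etale v s hg hd (OmegaLib.isUniversal_dOmega g₀) hcc
  exact (ha.pullback u).of_iso ((Scheme.Modules.pullbackComp u i).app Ω ≪≫
    (Scheme.Modules.pullbackCongr h).app Ω ≪≫ ((Scheme.Modules.pullbackComp i₀ v).app Ω).symm ≪≫
      (Scheme.Modules.pullback i₀).mapIso (asIso cc))

theorem quasiSeparated_of_isAffine [IsAffine X] (g : X ⟶ Y) : QuasiSeparated g := by
  haveI : IsSeparated (g ≫ terminal.from Y) := by
    rw [terminal.comp_from]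
    exact (Scheme.isSeparated_iff X).1 inferInstance
  haveI : IsSeparated g := IsSeparated.of_comp _ (terminal.from Y)
  infer_instance

/-- Additivity of the virtual dimension (quasi-separated case). -/
theorem virtualDim_comp_qs (f : X ⟶ Y) (gf : V ⟶ Y) [Smooth gf] [QuasiSeparated gf] (jf : X ⟶ V) [IsImmersion jf]
    [QuasiCompact jf] (hjf : jf ≫ gf = f) (gg : W ⟶ Z) [Smooth gg] [QuasiSeparated gg] (jg : Y ⟶ W) [IsImmersion jg]
    [QuasiCompact jg] (gh : T ⟶ Z) [Smooth gh] [QuasiSeparated gh] (jh : X ⟶ T) [IsImmersion jh] [QuasiCompact jh]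
    (hjh : jh ≫ gh = f ≫ jg ≫ gg) (hf : ∀ x : X, FlatMorKoszul.IsKoszulPt f x)
    {x : X} {af bf ag bg ah bh : ℕ}
    (haf : FreeAt af ((Scheme.Modules.pullback jf).obj (Omega.sheaf gf)) x) (hbf : FreeAt bf (Omega.conormal jf) x)
    (hah : FreeAt ah ((Scheme.Modules.pullback jh).obj (Omega.sheaf gh)) x) (hbh : FreeAt bh (Omega.conormal jh) x)
    (hag : FreeAt ag ((Scheme.Modules.pullback jg).obj (Omega.sheaf gg)) (f x))
    (hbg : FreeAt bg (Omega.conormal jg) (f x)) :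
    (ah : ℤ) - bh = ((af : ℤ) - bf) + ((ag : ℤ) - bg) := by
  let p₁ := pullback.fst gh (jg ≫ gg)
  let q₁ := pullback.snd gh (jg ≫ gg)
  let p₂ := pullback.fst gh gg
  let q₂ := pullback.snd gh gg
  let b : pullback gh (jg ≫ gg) ⟶ pullback gh gg :=
    pullback.lift p₁ (q₁ ≫ jg) (by rw [Category.assoc]; exact pullback.condition)
  have hb₁ : b ≫ p₂ = p₁ := pullback.lift_fst _ _ _
  have hb₂ : b ≫ q₂ = q₁ ≫ jg := pullback.lift_snd _ _ _
  have sqb : IsPullback b q₁ q₂ jg := by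
    refine (IsPullback.of_right ?_ hb₂ (IsPullback.of_hasPullback gh gg))
    rw [hb₁]
    exact IsPullback.of_hasPullback gh (jg ≫ gg)
  haveI : IsImmersion b := MorphismProperty.of_isPullback sqb.flip inferInstance
  haveI : QuasiCompact b := MorphismProperty.of_isPullback sqb.flip inferInstance
  let j₁ : X ⟶ pullback gh (jg ≫ gg) := pullback.lift jh f hjh
  have hj₁ : j₁ ≫ p₁ = jh := pullback.lift_fst _ _ _
  have hj₂ : j₁ ≫ q₁ = f := pullback.lift_snd _ _ _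
  haveI : IsImmersion (j₁ ≫ p₁) := hj₁ ▸ inferInstance
  haveI : IsImmersion j₁ := IsImmersion.of_comp j₁ p₁
  haveI : QuasiCompact (j₁ ≫ p₁) := hj₁ ▸ inferInstance
  haveI : QuasiCompact j₁ := QuasiCompact.of_comp j₁ p₁
  have hk₁ : (j₁ ≫ b) ≫ p₂ = jh := by rw [Category.assoc, hb₁, hj₁]
  have hk₂ : (j₁ ≫ b) ≫ q₂ = f ≫ jg := by rw [Category.assoc, hb₂, ← Category.assoc, hj₂]
  have hreg : RegImm.IsRegularImmersion RegImm.Kind.h1 j₁ :=
    (SDiv28.RegImmKinds.implications j₁).2.1 (Synt15.isRegularImmersion_of_isKoszulPt j₁ fun z =>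
      Synt15.isKoszulPt_of_comp_smooth j₁ q₁ (by rw [hj₂]; exact hf z))
  obtain ⟨b₁, hb₁'⟩ := exists_freeAt_of_isFinLocFree (RegImmH1.isFinLocFree_conormal j₁ hreg) x
  have ha₁ : FreeAt ah ((Scheme.Modules.pullback j₁).obj (Omega.sheaf q₁)) x :=
    freeAt_omega_baseChange (IsPullback.of_hasPullback gh (jg ≫ gg)) (OmegaLib.isUniversal_dOmega gh) j₁ jh hj₁ hah
  have h1 : bf + ah = b₁ + af := virtualDim_eq_qs gf q₁ jf j₁ (hjf.trans hj₂.symm) haf hbf ha₁ hb₁'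
  have ha₂ : FreeAt ag ((Scheme.Modules.pullback (j₁ ≫ b)).obj (Omega.sheaf p₂)) x :=
    freeAt_omega_baseChange (IsPullback.of_hasPullback gh gg).flip (OmegaLib.isUniversal_dOmega gg) (j₁ ≫ b) (f ≫ jg)
      hk₂ ((hag.pullback f).of_iso ((Scheme.Modules.pullbackComp f jg).app _))
  have h2 : FreeAt (bh + ag) (Omega.conormal (j₁ ≫ b)) x :=
    freeAt_conormal_of_smooth p₂ jh (j₁ ≫ b) hk₁ (OmegaLib.isUniversal_dOmega p₂) hbh ha₂
  obtain ⟨θ, hθ⟩ := exists_conormalMap (i := b) (i' := jg) (g := q₂) (gZ := q₁) hb₂.symm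
  haveI : IsIso θ := (S9372.result b jg q₂ q₁ sqb θ hθ).2 inferInstance
  have hNb : FreeAt bg ((Scheme.Modules.pullback j₁).obj (Omega.conormal b)) x :=
    (hbg.pullback f).of_iso ((Scheme.Modules.pullbackCongr hj₂.symm).app _ ≪≫
      ((Scheme.Modules.pullbackComp j₁ q₁).app _).symm ≪≫ (Scheme.Modules.pullback j₁).mapIso (asIso θ))
  obtain ⟨α, hα⟩ := exists_conormalMap (i := j₁ ≫ b) (i' := b) (g := 𝟙 _) (gZ := j₁) (Category.comp_id _).symm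
  obtain ⟨β, hβ⟩ := exists_conormalMap (i := j₁) (i' := j₁ ≫ b) (g := b) (gZ := 𝟙 X) (Category.id_comp _)
  obtain ⟨w, hw⟩ := RegImmH1.conormal_shortExact j₁ b α hα β hβ hreg
  have h3 : FreeAt (bg + b₁) (Omega.conormal (j₁ ≫ b)) x := FreeAt.shortExact hw hNb hb₁'
  have h4 := h3.unique h2
  omega

/-- Additivity of the virtual dimension. -/
theorem virtualDim_comp (f : X ⟶ Y) (g : Y ⟶ Z) (hf : ∀ x : X, FlatMorKoszul.IsKoszulPt f x)
    (gf : V ⟶ Y) [Smooth gf] (jf : X ⟶ V) [IsClosedImmersion jf] (hjf : jf ≫ gf = f)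
    (gg : W ⟶ Z) [Smooth gg] (jg : Y ⟶ W) [IsClosedImmersion jg] (hjg : jg ≫ gg = g)
    (gh : T ⟶ Z) [Smooth gh] (jh : X ⟶ T) [IsClosedImmersion jh] (hjh : jh ≫ gh = f ≫ g)
    {Ωf : V.Modules} {df : OmegaSh.Der gf Ωf} (hdf : OmegaSh.IsUniversal df)
    {Ωg : W.Modules} {dg : OmegaSh.Der gg Ωg} (hdg : OmegaSh.IsUniversal dg)
    {Ωh : T.Modules} {dh : OmegaSh.Der gh Ωh} (hdh : OmegaSh.IsUniversal dh)
    {x : X} {af bf ag bg ah bh : ℕ}
    (haf : FreeAt af ((Scheme.Modules.pullback jf).obj Ωf) x) (hbf : FreeAt bf (Omega.conormal jf) x)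
    (hah : FreeAt ah ((Scheme.Modules.pullback jh).obj Ωh) x) (hbh : FreeAt bh (Omega.conormal jh) x)
    (hag : FreeAt ag ((Scheme.Modules.pullback jg).obj Ωg) (f x)) (hbg : FreeAt bg (Omega.conormal jg) (f x)) :
    (ah : ℤ) - bh = ((af : ℤ) - bf) + ((ag : ℤ) - bg) := by
  subst hjg
  obtain ⟨W₀, hW₀, hyW, -⟩ := Opens.isBasis_iff_nbhd.mp W.isBasis_affineOpens (Opens.mem_top (jg (f x)))
  let Y₀ : Y.Opens := jg ⁻¹ᵁ W₀
  have hY₀ : IsAffineOpen Y₀ := hW₀.preimage jg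
  have hfx : gf (jf x) = f x := congrArg (fun φ : X ⟶ Y => φ x) hjf
  obtain ⟨V₀, hV₀, hxV, hVY⟩ := Opens.isBasis_iff_nbhd.mp V.isBasis_affineOpens
    (show jf x ∈ gf ⁻¹ᵁ Y₀ by show gf (jf x) ∈ Y₀; rw [hfx]; exact hyW)
  obtain ⟨O, hO, hOe⟩ := (jh.isEmbedding.isInducing.isOpen_iff).1 (f ⁻¹ᵁ Y₀ ⊓ jf ⁻¹ᵁ V₀).isOpen
  obtain ⟨T₀, hT₀, hxT, hTO⟩ := Opens.isBasis_iff_nbhd.mp T.isBasis_affineOpens
    (show jh x ∈ (⟨O, hO⟩ : T.Opens) by
      show x ∈ jh ⁻¹' O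
      rw [hOe]
      exact ⟨hyW, hxV⟩)
  let X₀ : X.Opens := jh ⁻¹ᵁ T₀
  have hX₀ : IsAffineOpen X₀ := hT₀.preimage jh
  have hle : X₀ ≤ f ⁻¹ᵁ Y₀ ⊓ jf ⁻¹ᵁ V₀ := fun y hy => by
    have h : y ∈ jh ⁻¹' O := hTO hy
    rwa [hOe] at h
  haveI : IsAffine (X₀ : Scheme.{u}) := hX₀
  haveI : IsAffine (Y₀ : Scheme.{u}) := hY₀
  haveI : IsAffine (W₀ : Scheme.{u}) := hW₀
  haveI : IsAffine (V₀ : Scheme.{u}) := hV₀
  haveI : IsAffine (T₀ : Scheme.{u}) := hT₀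
  haveI := quasiSeparated_of_isAffine ((Scheme.Opens.ι W₀) ≫ gg)
  haveI := quasiSeparated_of_isAffine ((Scheme.Opens.ι T₀) ≫ gh)
  let f₀ := f.resLE Y₀ X₀ (hle.trans inf_le_left)
  let gf₀ := gf.resLE Y₀ V₀ hVY
  haveI : Smooth gf₀ := inferInstance
  haveI := quasiSeparated_of_isAffine gf₀
  let jf₀ := jf.resLE V₀ X₀ (hle.trans inf_le_right)
  let jg₀ := jg.resLE W₀ Y₀ le_rfl
  let jh₀ := jh.resLE T₀ X₀ le_rfl
  have ef : (Scheme.Opens.ι X₀) ≫ f = f₀ ≫ (Scheme.Opens.ι Y₀) := (Scheme.Hom.resLE_comp_ι _ _).symm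
  have egf : (Scheme.Opens.ι V₀) ≫ gf = gf₀ ≫ (Scheme.Opens.ι Y₀) := (Scheme.Hom.resLE_comp_ι _ _).symm
  have ejf : (Scheme.Opens.ι X₀) ≫ jf = jf₀ ≫ (Scheme.Opens.ι V₀) := (Scheme.Hom.resLE_comp_ι _ _).symm
  have ejg : (Scheme.Opens.ι Y₀) ≫ jg = jg₀ ≫ (Scheme.Opens.ι W₀) := (Scheme.Hom.resLE_comp_ι _ _).symm
  have ejh : (Scheme.Opens.ι X₀) ≫ jh = jh₀ ≫ (Scheme.Opens.ι T₀) := (Scheme.Hom.resLE_comp_ι _ _).symm
  haveI : IsImmersion (jf₀ ≫ (Scheme.Opens.ι V₀)) := ejf ▸ inferInstance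
  haveI : IsImmersion jf₀ := IsImmersion.of_comp jf₀ (Scheme.Opens.ι V₀)
  haveI : IsImmersion (jg₀ ≫ (Scheme.Opens.ι W₀)) := ejg ▸ inferInstance
  haveI : IsImmersion jg₀ := IsImmersion.of_comp jg₀ (Scheme.Opens.ι W₀)
  haveI : IsImmersion (jh₀ ≫ (Scheme.Opens.ι T₀)) := ejh ▸ inferInstance
  haveI : IsImmersion jh₀ := IsImmersion.of_comp jh₀ (Scheme.Opens.ι T₀)
  let x₀ : X₀ := ⟨x, hxT⟩
  have hpt : (Scheme.Opens.ι Y₀) (f₀ x₀) = f x := (congrArg (fun φ : (X₀ : Scheme.{u}) ⟶ Y => φ x₀) ef).symm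
  refine virtualDim_comp_qs f₀ gf₀ jf₀ ((cancel_mono (Scheme.Opens.ι Y₀)).1 ?_) ((Scheme.Opens.ι W₀) ≫ gg) jg₀
    ((Scheme.Opens.ι T₀) ≫ gh) jh₀ ?_ (fun z => Synt15.isKoszulPt_of_comp_smooth f₀ (Scheme.Opens.ι Y₀) ?_) (x := x₀)
    (freeAt_pullback_omega_open₂ (Scheme.Opens.ι X₀) (Scheme.Opens.ι V₀) (Scheme.Opens.ι Y₀) gf gf₀ egf jf jf₀ ejf hdf haf)
    (freeAt_conormal_open (Scheme.Opens.ι X₀) (Scheme.Opens.ι V₀) jf jf₀ ejf hbf)
    (freeAt_pullback_omega_open (Scheme.Opens.ι X₀) (Scheme.Opens.ι T₀) gh jh jh₀ ejh hdh hah)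
    (freeAt_conormal_open (Scheme.Opens.ι X₀) (Scheme.Opens.ι T₀) jh jh₀ ejh hbh)
    (freeAt_pullback_omega_open (Scheme.Opens.ι Y₀) (Scheme.Opens.ι W₀) gg jg jg₀ ejg hdg (hpt.symm ▸ hag))
    (freeAt_conormal_open (Scheme.Opens.ι Y₀) (Scheme.Opens.ι W₀) jg jg₀ ejg (hpt.symm ▸ hbg))
  · rw [Category.assoc, ← egf, ← Category.assoc, ← ejf, Category.assoc, hjf, ef]
  · rw [← Category.assoc, ← ejh, Category.assoc, hjh, ← Category.assoc, ef, Category.assoc, ← Category.assoc (Scheme.Opens.ι Y₀),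
      ejg, Category.assoc]
  · rw [← ef]
    exact Synt15.isKoszulPt_comp (Scheme.Opens.ι X₀) f (Synt15.isKoszulPt_of_smooth _ _) (hf _)

end Groth.Agent.Omega15
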